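import Cfsg.Agent.Lib.Aschbacher.SympType

/-!
# Aschbacher's theorem: the symplectic-type class
-/

set_option autoImplicit false

namespace CfsgLib.Aschbacher

universe u

open Cfsg Cfsg.Geo
open scoped Matrix MatrixGroups

section
variable {ι : Type} [Fintype ι] [DecidableEq ι] {F : Type u} [Field F] [Finite F] [Nonempty ι]
  {G N : Subgroup (GL ι F)}

omit [Nonempty ι] in
theorem AbelianData.conj_pow' (h : AbelianData G N) {g x : GL ι F} {k : ℕ}
    (hx : x ^ k ∈ scalars ι F) : (g * x * g⁻¹) ^ k = x ^ k := by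
  obtain ⟨c, hc⟩ := exists_sc hx
  rw [conj_pow, ← hc, ← sc_comm]
  group

theorem AbelianData.comm_pow (h : AbelianData G N) {r : ℕ} (hpow : ∀ x ∈ N, x ^ r ∈ scalars ι F)
    {x y : GL ι F} (hx : x ∈ N) (hy : y ∈ N) {c : Fˣ} (hc : y * x = sc c * (x * y)) : c ^ r = 1 := by
  apply sc_inj (ι := ι)
  have h1 : y * x * y⁻¹ = sc c * x := by rw [hc]; group
  have h2 := h.conj_pow' (g := y) (hpow x hx)
  rw [h1, (show Commute (sc c) x from sc_comm c x).mul_pow, ← sc_pow] at h2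
  rw [sc_one]
  exact mul_eq_right.1 h2

theorem AbelianData.exists_primitive (h : AbelianData G N) {r : ℕ} (hr : r.Prime)
    (hpow : ∀ x ∈ N, x ^ r ∈ scalars ι F) : ∃ ζ : Fˣ, orderOf ζ = r := by
  obtain ⟨x, hx, hxs⟩ := SetLike.exists_of_lt (lt_of_le_of_ne h.scal h.ne.symm)
  obtain ⟨y, hy, hne⟩ := h.exists_noncomm hxs
  obtain ⟨c, hc⟩ := h.exists_comm hx hy
  haveI : Fact r.Prime := ⟨hr⟩
  exact ⟨c, orderOf_eq_prime (h.comm_pow hpow hx hy hc) fun e => hne (by
    rw [hc, e, sc_one, one_mul])⟩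

/-- Coset representatives of `N` modulo scalars form a basis of the matrix algebra. -/
theorem AbelianData.exists_basis (h : AbelianData G N) {r : ℕ} (hr : r.Prime)
    (hpow : ∀ x ∈ N, x ^ r ∈ scalars ι F) {R : Subgroup (GL ι F)} (hRN : R ≤ N)
    (hlift : ∀ x ∈ N, ∃ c : Fˣ, sc c * x ∈ R) :
    ∃ (κ : Type u) (_ : Fintype κ) (t : κ → GL ι F) (b : Module.Basis κ F (Matrix ι ι F)),
      (∀ k, t k ∈ R) ∧ (∀ k, b k = t k) ∧ (∀ x ∈ N, ∃ k, ∃ c : Fˣ, x = sc c * t k) ∧
      (∀ k l (c : Fˣ), t k = sc c * t l → k = l) ∧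
      Fintype.card κ = Fintype.card ι ^ 2 ∧ ∃ m, Fintype.card κ = r ^ m := by
  classical
  haveI : Finite (Matrix ι ι F) := inferInstanceAs (Finite (ι → ι → F))
  haveI : (Subgroup.comap N.subtype (scalars ι F)).Normal := Subgroup.Normal.comap inferInstance _
  let Q := N ⧸ Subgroup.comap N.subtype (scalars ι F)
  haveI : Fintype Q := Fintype.ofFinite Q
  have hrep : ∀ q : Q, ∃ x : GL ι F, x ∈ R ∧ ∃ hx : x ∈ N, (QuotientGroup.mk ⟨x, hx⟩ : Q) = q := by
    intro q
    obtain ⟨⟨x, hx⟩, rfl⟩ := QuotientGroup.mk_surjective q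
    obtain ⟨c, hc⟩ := hlift x hx
    refine ⟨_, hc, hRN hc, QuotientGroup.eq.2 ?_⟩
    show (sc c * x)⁻¹ * x ∈ scalars ι F
    rw [sc_comm, mul_inv_rev, mul_assoc, inv_mul_cancel, mul_one]
    exact inv_mem (sc_mem c)
  choose t htR htN htq using hrep
  have hcov : ∀ x ∈ N, ∃ k, ∃ c : Fˣ, x = sc c * t k := fun x hx => by
    refine ⟨QuotientGroup.mk ⟨x, hx⟩, ?_⟩
    have h1 := QuotientGroup.eq.1 (htq (QuotientGroup.mk ⟨x, hx⟩))
    obtain ⟨c, hc⟩ := exists_sc (show (t _)⁻¹ * x ∈ scalars ι F from h1)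
    exact ⟨c, by rw [sc_comm, hc]; group⟩
  have hdist : ∀ k l (c : Fˣ), t k = sc c * t l → k = l := fun k l c e => by
    rw [← htq k, ← htq l]
    refine QuotientGroup.eq.2 ?_
    show (t k)⁻¹ * t l ∈ scalars ι F
    rw [e, sc_comm, mul_inv_rev, mul_assoc, inv_mul_cancel, mul_one]
    exact inv_mem (sc_mem c)
  -- the characters of the coset representatives
  choose χ hχ using fun (k : Q) (y : GL ι F) (hy : y ∈ N) => h.exists_comm (htN k) hy
  have hindep : LinearIndependent F fun k => (t k : Matrix ι ι F) := by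
    rw [linearIndependent_iff']
    intro s
    induction s using Finset.induction_on with
    | empty => simp
    | @insert i s hi ih =>
      intro a ha
      have hz : ∀ k ∈ s, a k = 0 := fun k hk => by
        have hks : ((t k)⁻¹ * t i) ∉ scalars ι F := fun hmem => by
          obtain ⟨c, hc⟩ := exists_sc hmem
          exact hi (hdist i k c (by rw [sc_comm, hc]; group) ▸ hk)
        obtain ⟨y, hy, hne⟩ := h.exists_noncomm hks
        have hv : ∀ j, cj y (t j : Matrix ι ι F) = (χ j y hy : F) • (t j : Matrix ι ι F) := fun j => by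
          rw [cj_val, ← sc_mul_val]
          congr 1
          rw [hχ j y hy]; group
        have h1 := congrArg (cj y) ha
        rw [map_sum, map_zero] at h1
        simp only [map_smul, hv, smul_smul] at h1
        have h2 : ∑ j ∈ s, (a j * ((χ j y hy : F) - χ i y hy)) • (t j : Matrix ι ι F) = 0 := by
          have h3 : ∑ j ∈ insert i s, (a j * ((χ j y hy : F) - χ i y hy)) • (t j : Matrix ι ι F) = 0 := by
            rw [Finset.sum_congr rfl (fun j _ => show _ = (a j * (χ j y hy : F)) • (t j : Matrix ι ι F) -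
              (χ i y hy : F) • (a j • (t j : Matrix ι ι F)) by
                rw [mul_sub, sub_smul, smul_smul, mul_comm (χ i y hy : F)]), Finset.sum_sub_distrib,
              ← Finset.smul_sum, ha, smul_zero, sub_zero]
            simpa only [smul_smul] using h1
          rwa [Finset.sum_insert hi, sub_self, mul_zero, zero_smul, zero_add] at h3
        refine (mul_eq_zero.1 (ih _ h2 k hk)).resolve_right fun e => hne ?_
        have hχe : χ k y hy = χ i y hy := Units.ext (sub_eq_zero.1 e)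
        have e1 : y * t i * y⁻¹ = sc (χ i y hy) * t i := by rw [hχ i y hy]; group
        have e2 : y * t k * y⁻¹ = sc (χ i y hy) * t k := by rw [← hχe, hχ k y hy]; group
        have e3 : y * ((t k)⁻¹ * t i) * y⁻¹ = (t k)⁻¹ * t i := by
          rw [show y * ((t k)⁻¹ * t i) * y⁻¹ = (y * t k * y⁻¹)⁻¹ * (y * t i * y⁻¹) by group, e1, e2]
          group
        rw [mul_inv_eq_iff_eq_mul] at e3
        exact e3.symm
      rw [Finset.sum_insert hi, Finset.sum_eq_zero (fun k hk => by rw [hz k hk, zero_smul]), add_zero] at ha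
      have hai : a i = 0 := (smul_eq_zero.1 ha).resolve_right (t i).isUnit.ne_zero
      exact fun k hk => (Finset.mem_insert.1 hk).elim (fun e => e ▸ hai) (hz k)
  have hspan : ⊤ ≤ Submodule.span F (Set.range fun k => (t k : Matrix ι ι F)) := by
    rw [← Algebra.top_toSubmodule, ← alg_eq_top h.absIrred, alg_toSubmodule, Submodule.span_le]
    rintro _ ⟨x, hx, rfl⟩
    obtain ⟨k, c, rfl⟩ := hcov x hx
    rw [SetLike.mem_coe]
    show ((sc c * t k : GL ι F) : Matrix ι ι F) ∈ _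
    rw [sc_mul_val]
    exact Submodule.smul_mem _ _ (Submodule.subset_span ⟨k, rfl⟩)
  let b := Module.Basis.mk hindep hspan
  refine ⟨Q, inferInstance, t, b, htR, fun k => Module.Basis.mk_apply _ _ _, hcov, hdist, ?_, ?_⟩
  · rw [← Module.finrank_eq_card_basis b, Module.finrank_matrix, Module.finrank_self, mul_one, sq]
  · haveI : Fact r.Prime := ⟨hr⟩
    have hp : IsPGroup r Q := fun q => by
      obtain ⟨⟨x, hx⟩, rfl⟩ := QuotientGroup.mk_surjective q
      refine ⟨1, ?_⟩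
      rw [pow_one, ← QuotientGroup.mk_pow, QuotientGroup.eq_one_iff]
      exact hpow x hx
    obtain ⟨m, hm⟩ := IsPGroup.iff_card.1 hp
    exact ⟨m, by rw [← Nat.card_eq_fintype_card, hm]⟩

/-- Lifting the quotient by scalars to `r`-th roots, when `r`-th powers behave multiplicatively. -/
theorem AbelianData.lift (h : AbelianData G N) {r : ℕ} (hr : r.Prime)
    (hpow : ∀ x ∈ N, x ^ r ∈ scalars ι F)
    (hch : ∀ c : Fˣ, c ^ r = 1 → ∃ b, b ^ r = c ^ r.choose 2) :
    ∀ x ∈ N, ∃ c : Fˣ, (sc c * x) ^ r = 1 := by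
  classical
  let S : Subgroup (GL ι F) :=
    { carrier := {x | x ∈ N ∧ ∃ b : Fˣ, x ^ r = sc (b ^ r)}
      one_mem' := ⟨N.one_mem, 1, by simp [sc_one]⟩
      mul_mem' := by
        rintro x y ⟨hx, b, hb⟩ ⟨hy, d, hd⟩
        obtain ⟨c, hc⟩ := h.exists_comm hx hy
        obtain ⟨e, he⟩ := hch c (h.comm_pow hpow hx hy hc)
        exact ⟨N.mul_mem hx hy, e * (b * d), by
          rw [mul_pow_class_two hc, hb, hd, ← sc_mul, ← sc_mul, ← he, mul_pow, mul_pow]⟩
      inv_mem' := by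
        rintro x ⟨hx, b, hb⟩
        exact ⟨N.inv_mem hx, b⁻¹, by rw [inv_pow, hb, ← sc_inv, inv_pow]⟩ }
  have hsS : scalars ι F ≤ S := fun x hx => by
    obtain ⟨c, rfl⟩ := exists_sc hx
    exact ⟨h.scal (sc_mem c), c, (sc_pow c r).symm⟩
  intro x hx
  rcases h.min S hsS (fun x hx => hx.1) (fun g hg a ha => ⟨h.normal g hg a ha.1, by
    obtain ⟨b, hb⟩ := ha.2
    exact ⟨b, by rw [h.conj_pow' (hb ▸ sc_mem _), hb]⟩⟩) with hS | hS
  · exfalso
    obtain ⟨u, hu, hus⟩ := SetLike.exists_of_lt (lt_of_le_of_ne h.scal h.ne.symm)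
    obtain ⟨μ, hμ⟩ := exists_sc (hpow u hu)
    obtain ⟨w, hw, hne⟩ := h.exists_noncomm hus
    obtain ⟨l, hl⟩ := exists_sc (hpow w hw)
    obtain ⟨j, b, hb⟩ := solve_pow hr (μ := μ) (fun b hb => hus (hS ▸ ⟨hu, b, by rw [hb, hμ]⟩)) l
    have huj : u ^ j ∈ N := N.pow_mem hu j
    obtain ⟨c, hc⟩ := h.exists_comm hw huj
    obtain ⟨e, he⟩ := hch c (h.comm_pow hpow hw huj hc)
    have hmem : w * u ^ j ∈ S := ⟨N.mul_mem hw huj, e * b, by
      rw [mul_pow_class_two hc, ← pow_mul, mul_comm j r, pow_mul, ← hμ, ← hl, ← sc_pow, ← sc_mul, ← sc_mul, ← he,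
        ← hb, mul_pow]⟩
    rw [hS] at hmem
    obtain ⟨d, hd⟩ := exists_sc hmem
    apply hne
    have hw' : w = sc d * (u ^ j)⁻¹ := by rw [hd]; group
    rw [hw', ← mul_assoc, ← sc_comm, mul_assoc, mul_assoc]
    congr 1
    exact ((Commute.refl u).pow_left j).inv_left.eq.symm
  · obtain ⟨-, b, hb⟩ := (hS.symm ▸ hx : x ∈ S)
    exact ⟨b⁻¹, by rw [(show Commute (sc b⁻¹) x from sc_comm _ x).mul_pow, hb, ← sc_pow, ← sc_mul, inv_pow,
      inv_mul_cancel, sc_one]⟩

theorem natCard_roots {z : ℕ} {ζ : Fˣ} (hζ : orderOf ζ = z) :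
    Nat.card {c : Fˣ // c ^ z = 1} = z := by
  have h1 : Nat.card {c : Fˣ // c ^ z = 1} = Nat.card (powMonoidHom z : Fˣ →* Fˣ).ker :=
    Nat.card_congr (Equiv.subtypeEquivRight fun c => Iff.rfl)
  rw [h1, IsCyclic.card_powMonoidHom_ker]
  exact Nat.gcd_eq_right (hζ ▸ orderOf_dvd_natCard ζ)

/-- `R` and the cardinality of `R` and of its centre. -/
theorem AbelianData.card_roots (h : AbelianData G N) {κ : Type*} [Fintype κ] {t : κ → GL ι F}
    {R : Subgroup (GL ι F)} {z : ℕ} {ζ : Fˣ} (hζ : orderOf ζ = z)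
    (hR : ∀ x, x ∈ R ↔ x ∈ N ∧ x ^ z = 1) (htR : ∀ k, t k ∈ R)
    (hcov : ∀ x ∈ N, ∃ k, ∃ c : Fˣ, x = sc c * t k) (hdist : ∀ k l (c : Fˣ), t k = sc c * t l → k = l) :
    (∀ x ∈ R, ∃ k, ∃ c : Fˣ, c ^ z = 1 ∧ x = sc c * t k) ∧ Nat.card R = z * Fintype.card κ ∧
      Nat.card (Subgroup.center R) = z := by
  classical
  have hcov' : ∀ x ∈ R, ∃ k, ∃ c : Fˣ, c ^ z = 1 ∧ x = sc c * t k := fun x hx => by
    obtain ⟨k, c, rfl⟩ := hcov x ((hR x).1 hx).1
    refine ⟨k, c, sc_inj (ι := ι) ?_, rfl⟩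
    have h1 := ((hR _).1 hx).2
    rwa [(show Commute (sc c) (t k) from sc_comm _ _).mul_pow, ((hR _).1 (htR k)).2, mul_one, ← sc_pow,
      ← sc_one] at h1
  have hscR : ∀ c : Fˣ, c ^ z = 1 → sc c ∈ R := fun c hc =>
    (hR _).2 ⟨h.scal (sc_mem c), by rw [← sc_pow, hc, sc_one]⟩
  refine ⟨hcov', ?_, ?_⟩
  · let f : {c : Fˣ // c ^ z = 1} × κ → R := fun p => ⟨sc p.1.1 * t p.2, R.mul_mem (hscR _ p.1.2) (htR _)⟩
    have hf : Function.Bijective f := by
      refine ⟨fun p q e => ?_, fun x => ?_⟩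
      · have e' : sc p.1.1 * t p.2 = sc q.1.1 * t q.2 := congrArg Subtype.val e
        have hk : p.2 = q.2 := hdist _ _ (p.1.1⁻¹ * q.1.1) (by rw [sc_mul, sc_inv, mul_assoc, ← e']; group)
        rw [hk] at e'
        exact Prod.ext (Subtype.ext (sc_inj (mul_right_cancel e'))) hk
      · obtain ⟨k, c, hc, e⟩ := hcov' x x.2
        exact ⟨(⟨c, hc⟩, k), Subtype.ext e.symm⟩
    rw [← Nat.card_congr (Equiv.ofBijective f hf), Nat.card_prod, natCard_roots hζ, Nat.card_eq_fintype_card]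
  · let f : {c : Fˣ // c ^ z = 1} → Subgroup.center R := fun c => ⟨⟨sc c.1, hscR _ c.2⟩,
      Subgroup.mem_center_iff.2 fun y => Subtype.ext (sc_comm c.1 (y : GL ι F)).symm⟩
    have hf : Function.Bijective f := by
      refine ⟨fun a b e => Subtype.ext (sc_inj (ι := ι) (congrArg (fun x => ((x.1 : R) : GL ι F)) e)), fun x => ?_⟩
      have hx := Subgroup.mem_center_iff.1 x.2
      obtain ⟨c, hc⟩ := exists_sc (h.eq_sc (x := (x.1 : GL ι F)) fun y hy => by
        obtain ⟨k, d, rfl⟩ := hcov y hy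
        have h1 : t k * (x.1 : GL ι F) = x.1 * t k := congrArg Subtype.val (hx ⟨t k, htR k⟩)
        rw [mul_assoc, h1, ← mul_assoc, ← mul_assoc, sc_comm d])
      refine ⟨⟨c, sc_inj (ι := ι) ?_⟩, Subtype.ext (Subtype.ext hc)⟩
      rw [sc_pow, hc, sc_one]
      exact ((hR _).1 x.1.2).2
    rw [← Nat.card_congr (Equiv.ofBijective f hf), natCard_roots hζ]

theorem AbelianData.isSymplecticType (h : AbelianData G N) {r z : ℕ} (hr : r.Prime) (hz : z = r * Nat.gcd 2 r)
    {R : Subgroup (GL ι F)} (hR : ∀ x, x ∈ R ↔ x ∈ N ∧ x ^ z = 1) {ζ : Fˣ} (hζ : orderOf ζ = z)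
    (hnorm : ∀ g ∈ G, ∀ x ∈ R, g * x * g⁻¹ ∈ R)
    (hlift : ∀ x ∈ N, ∃ c : Fˣ, sc c * x ∈ R) : IsSymplecticTypeGroup r R where
  prime := hr
  pGroup := fun x => by
    obtain ⟨i, -, hi⟩ := (Nat.dvd_prime_pow hr).1 (show z ∣ r ^ 2 by
      rw [hz, sq]; exact mul_dvd_mul_left r (Nat.gcd_dvd_right 2 r))
    exact ⟨i, Subtype.ext (by rw [← hi, Subgroup.coe_pow]; exact ((hR _).1 x.2).2)⟩
  cyclic_of_characteristic A hA hAc := by
    classical
    haveI := hA
    set M := A.map R.subtype ⊔ scalars ι F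
    have hRN : R ≤ N := fun x hx => ((hR x).1 hx).1
    have hAN : A.map R.subtype ≤ N := (Subgroup.map_subtype_le A).trans hRN
    rcases h.min M le_sup_right (sup_le hAN h.scal) (fun g hg a ha => by
      let φ : R ≃* R :=
        { toFun := fun x => ⟨g * x * g⁻¹, hnorm g hg x x.2⟩
          invFun := fun x => ⟨g⁻¹ * x * g, by simpa using hnorm g⁻¹ (G.inv_mem hg) x x.2⟩
          left_inv := fun x => Subtype.ext (by simp [mul_assoc])
          right_inv := fun x => Subtype.ext (by simp [mul_assoc])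
          map_mul' := fun x y => Subtype.ext (by simp [mul_assoc]) }
      have hM : M.map (MulAut.conj g).toMonoidHom ≤ M := by
        rw [Subgroup.map_sup]
        refine sup_le (le_trans ?_ le_sup_left) (le_trans ?_ le_sup_right)
        · rintro _ ⟨_, ⟨x, hx, rfl⟩, rfl⟩
          exact ⟨φ x, by rw [← Subgroup.characteristic_iff_comap_eq.1 hA φ] at hx; exact hx, rfl⟩
        · rintro _ ⟨x, hx, rfl⟩
          exact (scalars_normal (ι := ι) (F := F)).conj_mem x hx g
      exact hM ⟨a, ha, rfl⟩) with hM | hM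
    · let e : Fˣ →* scalars ι F :=
        MonoidHom.codRestrict (Units.map (Matrix.scalar ι : F →+* Matrix ι ι F).toMonoidHom) _ sc_mem
      haveI : IsCyclic (scalars ι F) := isCyclic_of_surjective e fun x => by
        obtain ⟨c, hc⟩ := exists_sc x.2; exact ⟨c, Subtype.ext hc⟩
      let f : A →* scalars ι F := (R.subtype.comp A.subtype).codRestrict (scalars ι F) fun a =>
        hM ▸ (le_sup_left : A.map R.subtype ≤ M) ⟨a.1, a.2, rfl⟩
      exact isCyclic_of_injective f fun a b e => Subtype.ext (Subtype.ext (congrArg Subtype.val e :))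
    · exfalso
      obtain ⟨u, hu, hus⟩ := SetLike.exists_of_lt (lt_of_le_of_ne h.scal h.ne.symm)
      obtain ⟨w, hw, hne⟩ := h.exists_noncomm hus
      apply hne
      have key : ∀ x ∈ M, ∃ a ∈ A, ∃ c, x = (a : GL ι F) * sc c := fun x hx => by
        obtain ⟨_, ⟨a, ha, rfl⟩, s, hs, rfl⟩ := Subgroup.mem_sup_of_normal_right.1 hx
        obtain ⟨c, rfl⟩ := exists_sc hs
        exact ⟨a, ha, c, rfl⟩
      obtain ⟨a, ha, c, rfl⟩ := key u (hM ▸ hu)
      obtain ⟨b, hb, d, rfl⟩ := key w (hM ▸ hw)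
      have hab : (a : GL ι F) * b = b * a :=
        congrArg (fun x : A => ((x : R) : GL ι F)) (hAc.is_comm.comm ⟨a, ha⟩ ⟨b, hb⟩)
      calc (a : GL ι F) * sc c * ((b : GL ι F) * sc d) = (a : GL ι F) * (sc c * (b : GL ι F)) * sc d := by group
        _ = (a : GL ι F) * (b : GL ι F) * (sc c * sc d) := by rw [sc_comm c]; group
        _ = (b : GL ι F) * (a : GL ι F) * (sc d * sc c) := by rw [hab, ← sc_mul, ← sc_mul, mul_comm c]
        _ = (b : GL ι F) * ((a : GL ι F) * sc d) * sc c := by group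
        _ = (b : GL ι F) * (sc d * (a : GL ι F)) * sc c := by rw [sc_comm d]
        _ = (b : GL ι F) * sc d * ((a : GL ι F) * sc c) := by group
  exponent_eq := by
    rw [← hz]
    refine Nat.dvd_antisymm (Monoid.exponent_dvd_of_forall_pow_eq_one fun x => Subtype.ext (by
      rw [Subgroup.coe_pow]; exact ((hR _).1 x.2).2)) ?_
    have hzR : sc ζ ∈ R := (hR _).2 ⟨h.scal (sc_mem ζ), by rw [← sc_pow, ← hζ, pow_orderOf_eq_one, sc_one]⟩
    have h2 : orderOf (⟨sc ζ, hzR⟩ : R) = z := by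
      rw [Subgroup.orderOf_mk, ← hζ]
      exact orderOf_injective ⟨⟨sc, sc_one⟩, sc_mul⟩ (fun a b e => sc_inj e) ζ
    exact h2 ▸ Monoid.order_dvd_exponent _

end

end CfsgLib.Aschbacher
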