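import Cfsg.Agent.Lib.Aschbacher.Abelian

/-!
# Aschbacher's theorem: the abelian case
-/

set_option autoImplicit false

namespace CfsgLib.Aschbacher

open Cfsg Cfsg.Geo
open scoped Matrix MatrixGroups

universe u
variable {F : Type u} [Field F] [Fintype F] {n : ℕ}

/-- A member of the eight classes, the sixth with the order `n ^ 2 * |Z(R)|` of `R` recorded. -/
def Member (M : Subgroup (GL (Fin n) F)) : Prop :=
  (∃ W : Submodule F (Fin n → F), W ≠ ⊥ ∧ W ≠ ⊤ ∧ M = subspaceStabilizer W) ∨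
  (∃ W U : Submodule F (Fin n → F), W ≠ ⊥ ∧ W < U ∧ Module.finrank F W + Module.finrank F U = n ∧
      M = subspaceStabilizer W ⊓ subspaceStabilizer U) ∨
  (∃ W U : Submodule F (Fin n → F), W ≠ ⊥ ∧ W ⊓ U = ⊥ ∧ W ⊔ U = ⊤ ∧
      Module.finrank F W < Module.finrank F U ∧ M = subspaceStabilizer W ⊓ subspaceStabilizer U) ∨
  (∃ (t m : ℕ) (D : Fin t → Submodule F (Fin n → F)), IsMDecomposition m D ∧ M = decompositionStabilizer D) ∨
  (∃ (r : ℕ) (K : Subalgebra F (Matrix (Fin n) (Fin n) F)), r.Prime ∧ IsFieldSubalgebra r K ∧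
      M = subalgebraNormalizer K) ∨
  (∃ (n₁ n₂ : ℕ) (e : Fin n ≃ Fin n₁ × Fin n₂) (P : GL (Fin n) F), 2 ≤ n₁ ∧ n₁ < n₂ ∧
      M = tensorProductSubgroup n₁ n₂ e P) ∨
  (∃ (F₀ : Subfield F) (r : ℕ) (P : GL (Fin n) F), r.Prime ∧ Fintype.card F = Nat.card F₀ ^ r ∧
      M = subfieldSubgroup F₀ P) ∨
  (∃ (r : ℕ) (R : Subgroup (GL (Fin n) F)), IsLinearSymplecticTypeData r R ∧ M = subgroupNormalizer R ∧
      Nat.card R = Nat.card (Subgroup.center R) * n ^ 2) ∨
  (∃ (m t : ℕ) (e : Fin n ≃ (Fin t → Fin m)) (P : GL (Fin n) F), 3 ≤ m ∧ 2 ≤ t ∧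
      M = tensorWreathSubgroup m t e P) ∨
  (∃ f : (Fin n → F) → (Fin n → F) → F, IsSymplecticForm f ∧ Even n ∧ 4 ≤ n ∧ M = similarityGroup f) ∨
  (∃ (σ : F ≃+* F) (f : (Fin n → F) → (Fin n → F) → F), IsUnitaryForm σ f ∧ 3 ≤ n ∧ M = similarityGroup f) ∨
  (∃ Q : (Fin n → F) → F, IsNondegenerateQuadraticForm Q ∧ Odd (Fintype.card F) ∧ 3 ≤ n ∧
      M = quadSimilarityGroup Q)

theorem Member.toClass {M : Subgroup (GL (Fin n) F)} (h : Member M) : InLinearClass n F M := by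
  rcases h with h | h | h | h | h | h | h | ⟨r, R, hR, hM, -⟩ | h
  · exact Or.inl h
  · exact Or.inr (Or.inl h)
  · exact Or.inr (Or.inr (Or.inl h))
  · iterate 3 right
    exact Or.inl h
  · iterate 4 right
    exact Or.inl h
  · iterate 5 right
    exact Or.inl h
  · iterate 6 right
    exact Or.inl h
  · iterate 7 right
    exact Or.inl ⟨r, R, hR, hM⟩
  · iterate 8 right
    exact h

/-- A member of the eight classes containing `G`. -/
def InClassOver (G : Subgroup (GL (Fin n) F)) : Prop := ∃ M, Member M ∧ G ≤ M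

variable {G N : Subgroup (GL (Fin n) F)}

theorem absIrred_of_lift (hn : 0 < n) (h : AbelianData G N) {R : Subgroup (GL (Fin n) F)}
    (hlift : ∀ x ∈ N, ∃ c : Fˣ, sc c * x ∈ R) : ActsAbsolutelyIrreducibly (matrixSet R) := by
  haveI : Nonempty (Fin n) := ⟨⟨0, hn⟩⟩
  have hx : ∀ x ∈ N, ∃ y ∈ R, ∃ d : F, (x : Matrix (Fin n) (Fin n) F) = d • (y : Matrix (Fin n) (Fin n) F) :=
    fun x hx => by
      obtain ⟨c, hc⟩ := hlift x hx
      refine ⟨_, hc, ((c⁻¹ : Fˣ) : F), ?_⟩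
      rw [← sc_mul_val, ← mul_assoc, ← sc_mul, inv_mul_cancel, sc_one, one_mul]
  refine ⟨fun W hW => h.absIrred.1 W ?_, fun M hM => h.absIrred.2 M ?_⟩
  · rintro _ ⟨x, hx', rfl⟩ _ ⟨v, hv, rfl⟩
    obtain ⟨y, hy, d, hd⟩ := hx x hx'
    simp only [Matrix.toLin'_apply]
    rw [hd, Matrix.smul_mulVec]
    exact W.smul_mem d (hW _ (val_mem_matrixSet hy) ⟨v, hv, rfl⟩)
  · rintro _ ⟨x, hx', rfl⟩
    obtain ⟨y, hy, d, hd⟩ := hx x hx'
    simp only
    rw [hd, Matrix.mul_smul, Matrix.smul_mul, hM _ (val_mem_matrixSet hy)]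

theorem cov_roots (hn : 0 < n) {R : Subgroup (GL (Fin n) F)} {z : ℕ}
    (hR : ∀ x, x ∈ R ↔ x ∈ N ∧ x ^ z = 1) {κ : Type*} {t : κ → GL (Fin n) F} (htR : ∀ k, t k ∈ R)
    (hcov : ∀ x ∈ N, ∃ k, ∃ c : Fˣ, x = sc c * t k) :
    ∀ x ∈ R, ∃ k, ∃ c : Fˣ, c ^ z = 1 ∧ x = sc c * t k := fun x hx => by
  haveI : Nonempty (Fin n) := ⟨⟨0, hn⟩⟩
  obtain ⟨k, c, rfl⟩ := hcov x ((hR x).1 hx).1
  refine ⟨k, c, sc_inj (ι := Fin n) ?_, rfl⟩
  have h1 := ((hR _).1 hx).2
  rwa [(show Commute (sc c) (t k) from sc_comm _ _).mul_pow, ((hR _).1 (htR k)).2, mul_one, ← sc_pow,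
    ← sc_one] at h1

/-- The subgroup of `z`-th roots of one in `N`. -/
theorem exists_rootGroup (hn : 0 < n) (h : AbelianData G N) {r z : ℕ}
    (hpow : ∀ x ∈ N, x ^ r ∈ scalars (Fin n) F) (hz : r ∣ z.choose 2) :
    ∃ R : Subgroup (GL (Fin n) F), (∀ x, x ∈ R ↔ x ∈ N ∧ x ^ z = 1) ∧
      ∀ g ∈ G, ∀ x ∈ R, g * x * g⁻¹ ∈ R := by
  haveI : Nonempty (Fin n) := ⟨⟨0, hn⟩⟩
  refine ⟨{ carrier := {x | x ∈ N ∧ x ^ z = 1}
            one_mem' := ⟨N.one_mem, one_pow z⟩
            mul_mem' := ?_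
            inv_mem' := fun ⟨hx, hx'⟩ => ⟨N.inv_mem hx, by rw [inv_pow, hx', inv_one]⟩ },
    fun x => Iff.rfl, fun g hg x hx => ⟨h.normal g hg x hx.1, by rw [conj_pow, hx.2, mul_one, mul_inv_cancel]⟩⟩
  rintro x y ⟨hx, hx'⟩ ⟨hy, hy'⟩
  obtain ⟨c, hc⟩ := h.exists_comm hx hy
  obtain ⟨k, hk⟩ := hz
  exact ⟨N.mul_mem hx hy, by
    rw [mul_pow_class_two hc, hx', hy', hk, pow_mul, h.comm_pow hpow hx hy hc, one_pow, sc_one, mul_one, mul_one]⟩

/-- The self-dual case: class 8. -/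
theorem selfDual (hn : 3 ≤ n) (h : AbelianData G N) {r : ℕ} (hr : r = 2) (h2 : (2 : F) ≠ 0)
    {R : Subgroup (GL (Fin n) F)} (hR : ∀ x, x ∈ R ↔ x ∈ N ∧ x ^ 4 = 1)
    (hnorm : ∀ g ∈ G, ∀ x ∈ R, g * x * g⁻¹ ∈ R) (hlift : ∀ x ∈ N, ∃ c : Fˣ, sc c * x ∈ R)
    (hpow : ∀ x ∈ N, x ^ r ∈ scalars (Fin n) F) (hns : ∀ b : Fˣ, b ^ 2 ≠ -1) : InClassOver G := by
  haveI : Nonempty (Fin n) := ⟨⟨0, by omega⟩⟩
  subst hr
  have hRN : R ≤ N := fun x hx => ((hR x).1 hx).1
  obtain ⟨κ, _, t, b, htR, hb, hcov, -, hcard, m, hm⟩ := h.exists_basis Nat.prime_two hpow hRN hlift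
  have habs := absIrred_of_lift (by omega) h hlift
  have hinv : ∀ c : Fˣ, c ^ 4 = 1 → (c : F) = (c : F)⁻¹ := fun c hc => by
    have h4 : ((c : F) ^ 2 - 1) * ((c : F) ^ 2 + 1) = 0 := by
      have : (c : F) ^ 4 = 1 := by rw [← Units.val_pow_eq_pow_val, hc, Units.val_one]
      linear_combination this
    rcases mul_eq_zero.1 h4 with h5 | h5
    · refine eq_inv_of_mul_eq_one_left ?_
      linear_combination h5
    · exact absurd (Units.ext (show ((c ^ 2 : Fˣ) : F) = ((-1 : Fˣ) : F) by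
        rw [Units.val_pow_eq_pow_val, Units.val_neg, Units.val_one]; linear_combination h5)) (hns c)
  obtain ⟨J, l, hJ, hl, hfix⟩ := form_of_twist habs t htR b hb (cov_roots (by omega) hR htR hcov)
    (RingEquiv.refl F) (fun _ => rfl) hinv
  replace hl : Jᵀ = l • J := by simpa using hl
  have hl2 : l * l = 1 := by
    have h1 : J = (l * l) • J := by
      conv_lhs => rw [← Matrix.transpose_transpose J, hl, Matrix.transpose_smul, hl, smul_smul]
    by_contra hne
    have h3 : (l * l - 1) • J = 0 := by rw [sub_smul, one_smul, ← h1, sub_self]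
    exact (smul_eq_zero.1 h3).elim (fun e => hne (sub_eq_zero.1 e)) hJ.ne_zero
  have hle := le_similarity_gram habs hnorm (RingEquiv.refl F) hJ hfix
  rcases mul_self_eq_one_iff.1 hl2 with rfl | rfl
  · rw [one_smul] at hl
    obtain ⟨hQ, hQle⟩ := quad_of_gram h2 hJ hl
    refine ⟨_, ?_, hle.trans hQle⟩
    iterate 11 right
    refine ⟨_, hQ, ?_, hn, rfl⟩
    obtain ⟨p, hp⟩ := CharP.exists F
    haveI : Fact p.Prime := ⟨CharP.char_is_prime F p⟩
    obtain ⟨e, -, he⟩ := FiniteField.card F p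
    rw [he]
    refine Odd.pow ((CharP.char_is_prime F p).eq_two_or_odd'.resolve_left fun e2 => ?_)
    subst e2
    exact h2 (CharP.cast_eq_zero F 2)
  · rw [neg_one_smul] at hl
    have hd : ∀ i, J i i = 0 := fun i => by
      have := congrFun (congrFun hl i) i
      simp only [Matrix.transpose_apply, Matrix.neg_apply] at this
      exact (mul_eq_zero.1 (show (2 : F) * J i i = 0 by linear_combination this)).resolve_left h2
    have hs := symplectic_of_gram hJ hl hd
    refine ⟨_, ?_, hle⟩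
    iterate 9 right
    have hev := even_of_symplectic hs
    rw [Fintype.card_fin] at hev
    exact Or.inl ⟨_, hs, hev, by obtain ⟨k, hk⟩ := hev; omega, rfl⟩

theorem card_le_of_root_mem {p d : ℕ} [Fact p.Prime] [CharP F p] {ζ : F} (hd : 0 < d)
    (hζ : ζ ^ p ^ d = ζ) (htop : Subfield.closure {ζ} = ⊤) : Fintype.card F ≤ p ^ d := by
  have hall : ∀ x : F, x ^ p ^ d = x := fun x => by
    have h1 : Subfield.closure {ζ} ≤ (iterateFrobenius F p d).eqLocusField (RingHom.id F) :=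
      Subfield.closure_le.2 fun y hy => by
        rw [Set.mem_singleton_iff.1 hy]
        show iterateFrobenius F p d ζ = ζ
        rw [iterateFrobenius_def, hζ]
    have h2 : iterateFrobenius F p d x = x := h1 (htop ▸ Subfield.mem_top x)
    rwa [iterateFrobenius_def] at h2
  have hq := natCard_fixed F (M := Fintype.card F) Fintype.one_lt_card (by rw [Nat.card_eq_fintype_card])
  obtain ⟨g, hg⟩ := IsCyclic.exists_monoid_generator (α := Fˣ)
  have hord : orderOf g = Nat.card Fˣ := orderOf_eq_card_of_forall_mem_powers hg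
  have h1 : g ^ (p ^ d - 1) = 1 := by
    refine mul_right_cancel (b := g) ?_
    rw [one_mul, ← pow_succ, Nat.sub_add_cancel (Nat.one_le_pow _ _ (Fact.out : p.Prime).pos)]
    exact Units.ext (hall g)
  have h2 := orderOf_dvd_of_pow_eq_one h1
  rw [hord, Nat.card_units, Nat.card_eq_fintype_card] at h2
  have h4 : 1 < p ^ d := Nat.one_lt_pow hd.ne' (Fact.out : p.Prime).one_lt
  have h3 := Nat.le_of_dvd (Nat.sub_pos_of_lt h4) h2
  omega

set_option maxHeartbeats 1000000 in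
/-- The case with all `z`-th roots of one in the field. -/
theorem split_case (hn : 3 ≤ n) (h : AbelianData G N) {r z : ℕ} (hr : r.Prime) (hz : z = r * Nat.gcd 2 r)
    {ζ : Fˣ} (hζ : orderOf ζ = z) {R : Subgroup (GL (Fin n) F)} (hR : ∀ x, x ∈ R ↔ x ∈ N ∧ x ^ z = 1)
    (hnorm : ∀ g ∈ G, ∀ x ∈ R, g * x * g⁻¹ ∈ R) (hlift : ∀ x ∈ N, ∃ c : Fˣ, sc c * x ∈ R)
    (hpow : ∀ x ∈ N, x ^ r ∈ scalars (Fin n) F) : InClassOver G := by
  classical
  haveI : Nonempty (Fin n) := ⟨⟨0, by omega⟩⟩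
  have hRN : R ≤ N := fun x hx => ((hR x).1 hx).1
  obtain ⟨κ, _, t, b, htR, hb, hcov, hdist, hcard, m, hm⟩ := h.exists_basis hr hpow hRN hlift
  have habs := absIrred_of_lift (by omega) h hlift
  obtain ⟨hcov', hcR, hcZ⟩ := h.card_roots hζ hR htR hcov hdist
  have hz3 : 3 ≤ z := by
    rcases hr.eq_two_or_odd' with rfl | hodd
    · rw [hz]; decide
    · have : r ≠ 2 := by rintro rfl; exact absurd hodd (by decide)
      have := hr.two_le
      have hg : Nat.gcd 2 r = 1 := Nat.coprime_two_left.2 hodd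
      rw [hz, hg]; omega
  by_cases htop : Subfield.closure {(ζ : F)} = ⊤
  swap
  · have hreal : RealisableOver (Subfield.closure {(ζ : F)}) (matrixSet R) := by
      refine realisable_of_basis habs t ?_ hcard (fun x hx => ?_) htR
      · have := b.linearIndependent
        rwa [show ⇑b = fun k => (t k : Matrix (Fin n) (Fin n) F) from funext hb] at this
      · obtain ⟨k, c, hc, rfl⟩ := hcov' x hx
        haveI : NeZero z := ⟨by omega⟩
        obtain ⟨i, -, hi⟩ := (IsPrimitiveRoot.coe_units_iff.2 (hζ ▸ IsPrimitiveRoot.orderOf ζ :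
          IsPrimitiveRoot ζ z)).eq_pow_of_pow_eq_one
          (show (c : F) ^ z = 1 by rw [← Units.val_pow_eq_pow_val, hc, Units.val_one])
        have hcm : (c : F) ∈ Subfield.closure {(ζ : F)} := by
          rw [← hi]
          exact pow_mem (Subfield.subset_closure (Set.mem_singleton (ζ : F))) i
        refine ⟨k, ⟨(c : F), hcm⟩, ?_⟩
        show ((sc c * t k : GL (Fin n) F) : Matrix (Fin n) (Fin n) F) = (c : F) • (t k : Matrix (Fin n) (Fin n) F)
        exact sc_mul_val c _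
    obtain ⟨F₁, r', Q, hr', hcardF, hle⟩ := le_subfieldSubgroup habs hnorm htop hreal
    refine ⟨_, ?_, hle⟩
    iterate 6 right
    exact Or.inl ⟨F₁, r', Q, hr', by rw [← Nat.card_eq_fintype_card]; exact hcardF, rfl⟩
  obtain ⟨p, hp⟩ := CharP.exists F
  haveI : Fact p.Prime := ⟨CharP.char_is_prime F p⟩
  obtain ⟨e, hpP, he⟩ := FiniteField.card F p
  have hζz : ∀ k, ζ ^ k = 1 ↔ z ∣ k := fun k => by rw [← hζ, orderOf_dvd_iff_pow_eq_one]
  have hzq : z ∣ p ^ (e : ℕ) - 1 := by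
    rw [← hζ, ← he, ← Nat.card_eq_fintype_card, ← Nat.card_units]
    exact orderOf_dvd_natCard ζ
  have hfix : ∀ d : ℕ, z ∣ p ^ d - 1 → (ζ : F) ^ p ^ d = ζ := fun d hd => by
    have h1 : ζ ^ p ^ d = ζ := by
      rw [show p ^ d = p ^ d - 1 + 1 from (Nat.sub_add_cancel (Nat.one_le_pow _ _ hpP.pos)).symm, pow_succ,
        (hζz _).2 hd, one_mul]
    rw [← Units.val_pow_eq_pow_val, h1]
  have hmin : ∀ d : ℕ, 0 < d → d < (e : ℕ) → ¬ z ∣ p ^ d - 1 := fun d hd hde hdvd => by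
    have h1 := card_le_of_root_mem hd (hfix d hdvd) htop
    rw [he] at h1
    exact absurd ((Nat.pow_le_pow_iff_right hpP.one_lt).1 h1) (by omega)
  have hrp : r ≠ p := by
    rintro rfl
    have h1 : r ∣ r ^ (e : ℕ) - 1 := dvd_trans (hz ▸ dvd_mul_right _ _) hzq
    have h2 : r ∣ r ^ (e : ℕ) := dvd_pow_self r e.pos.ne'
    have h3 : r ∣ 1 := by
      have := Nat.dvd_sub h2 h1
      rwa [Nat.sub_sub_self (Nat.one_le_pow _ _ hr.pos)] at this
    exact hr.not_dvd_one h3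
  -- unitary or a member of class 6
  by_cases hev : Even (e : ℕ)
  · obtain ⟨k, hk⟩ := hev
    have hk0 : 0 < k := by have := e.pos; omega
    have hdiv : z ∣ (p ^ k - 1) * (p ^ k + 1) := by
      rw [hk, pow_add] at hzq
      obtain ⟨a, ha⟩ : ∃ a, p ^ k = a + 1 := ⟨_, (Nat.sub_add_cancel (Nat.one_le_pow _ _ hpP.pos)).symm⟩
      rw [ha] at hzq ⊢
      rw [Nat.add_sub_cancel]
      rwa [show (a + 1) * (a + 1) - 1 = a * (a + 1 + 1) by
        have : (a + 1) * (a + 1) = a * (a + 1 + 1) + 1 := by ring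
        omega] at hzq
    have hplus : z ∣ p ^ k + 1 := by
      have hnd := hmin k hk0 (by omega)
      rcases hr.eq_two_or_odd' with hr2 | hodd
      · subst hr2
        have hz4 : z = 4 := by rw [hz]; rfl
        subst hz4
        have hke : k = 1 := by
          by_contra hk1
          refine hmin 2 (by omega) (by omega) ?_
          obtain ⟨a, ha⟩ : Odd p := (hpP.eq_two_or_odd').resolve_left fun e => hrp e.symm
          exact ⟨a * a + a, by rw [ha]; ring_nf; omega⟩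
        subst hke
        rw [pow_one] at hnd ⊢
        have hp2 : p % 2 = 1 := Nat.odd_iff.1 ((hpP.eq_two_or_odd').resolve_left fun e => hrp e.symm)
        omega
      · have hg : Nat.gcd 2 r = 1 := Nat.coprime_two_left.2 hodd
        rw [hg, mul_one] at hz
        subst hz
        exact (hr.dvd_mul.1 hdiv).resolve_left hnd
    let σ : F ≃+* F := iterateFrobeniusEquiv F p k
    have hσa : ∀ a : F, σ a = a ^ p ^ k := fun a => iterateFrobeniusEquiv_def F p k a
    have hσ : ∀ a : F, σ (σ a) = a := fun a => by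
      rw [hσa, hσa, ← pow_mul, ← pow_add, ← hk, ← he, FiniteField.pow_card]
    have hinv : ∀ c : Fˣ, c ^ z = 1 → σ (c : F) = (c : F)⁻¹ := fun c hc => by
      obtain ⟨a, ha⟩ := hplus
      refine eq_inv_of_mul_eq_one_left ?_
      rw [hσa, ← pow_succ, ha, pow_mul, ← Units.val_pow_eq_pow_val, hc, Units.val_one, one_pow]
    have hζ' : σ (ζ : F) = (ζ : F)⁻¹ := hinv ζ ((hζz z).2 dvd_rfl)
    have hζne : σ (ζ : F) ≠ ζ := fun e' => by
      rw [hζ'] at e'
      have h2 : ζ ^ 2 = 1 := Units.ext (by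
        rw [Units.val_pow_eq_pow_val, Units.val_one, sq]
        nth_rw 1 [← e']
        exact inv_mul_cancel₀ ζ.ne_zero)
      have := Nat.le_of_dvd two_pos ((hζz 2).1 h2)
      omega
    have hne : σ ≠ RingEquiv.refl F := fun e' => hζne (by rw [e']; rfl)
    obtain ⟨J, l, hJ, hl, hJfix⟩ := form_of_twist habs t htR b hb hcov' σ hσ hinv
    have hσJ : ∀ a : F, ((a • J).map σ)ᵀ = (σ a * l) • J := fun a => by
      rw [Matrix.map_smul' (hf := map_mul σ), Matrix.transpose_smul, hl, smul_smul]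
    have hll : σ l * l = 1 := by
      have h1 : J = (σ l * l) • J := by
        rw [← hσJ l, ← hl]
        ext i j; simp [hσ]
      have h3 : (σ l * l - 1) • J = 0 := by rw [sub_smul, one_smul, ← h1, sub_self]
      exact sub_eq_zero.1 ((smul_eq_zero.1 h3).resolve_right hJ.ne_zero)
    have hb' : ∀ x : F, σ (x + σ x * l) * l = x + σ x * l := fun x => by
      rw [map_add, map_mul, hσ]; linear_combination x * hll
    obtain ⟨a, ha0, ha⟩ : ∃ a : F, a ≠ 0 ∧ σ a * l = a := by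
      by_cases h1 : 1 + σ 1 * l = 0
      · refine ⟨(ζ : F) + σ ζ * l, fun e' => hζne ?_, hb' _⟩
        rw [map_one, one_mul] at h1
        linear_combination -e' + σ (ζ : F) * h1
      · exact ⟨_, h1, hb' 1⟩
    have hJa : IsUnit (a • J) := by
      obtain ⟨U, rfl⟩ := hJ
      refine ⟨sc (Units.mk0 a ha0) * U, sc_mul_val _ _⟩
    have hle := le_similarity_gram habs hnorm σ hJa fun x hx => by
      rw [Matrix.mul_smul, Matrix.smul_mul, hJfix x hx]
    refine ⟨_, ?_, hle⟩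
    iterate 10 right
    exact Or.inl ⟨σ, _, unitary_of_gram hne hσ hJa (by rw [hσJ, ha]), hn, rfl⟩
  · refine ⟨subgroupNormalizer R, ?_, fun g hg => Subgroup.mem_normalizer_iff.2 fun x =>
      ⟨hnorm g hg x, fun hx => by simpa [mul_assoc] using hnorm g⁻¹ (G.inv_mem hg) _ hx⟩⟩
    iterate 7 right
    refine Or.inl ⟨r, R, ⟨h.isSymplecticType hr hz hR hζ hnorm hlift, habs, p, e, hrp,
      ⟨hpP, hp, he, hcZ.symm ▸ hzq, fun d hd hde => hcZ.symm ▸ hmin d hd hde⟩, ?_⟩, rfl,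
      by rw [hcR, hcard, hcZ, Fintype.card_fin]⟩
    rw [hcR, hcard, hcZ]
    rw [Fintype.card_fin] at hcard
    obtain ⟨a, -, ha⟩ := (Nat.dvd_prime_pow hr).1 (show n ∣ r ^ m by rw [← hm, hcard]; exact dvd_pow_self n two_ne_zero)
    have ha1 : 1 ≤ a := Nat.one_le_iff_ne_zero.2 (by rintro rfl; simp at ha; omega)
    rw [Fintype.card_fin]
    rcases hr.eq_two_or_odd' with rfl | hodd
    · have hz4 : z = 4 := by rw [hz]; rfl
      refine Or.inr (Or.inl ⟨rfl, ?_, hz4, ?_, a, ?_⟩)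
      · by_contra he1
        have he2 : (e : ℕ) ≠ 2 := fun e2 => hev (e2 ▸ even_two)
        refine hmin 2 two_pos (by have := e.pos; omega) ?_
        obtain ⟨c, hc⟩ : Odd p := (hpP.eq_two_or_odd').resolve_left fun e => hrp e.symm
        rw [hz4]
        exact ⟨c * c + c, by rw [hc]; ring_nf; omega⟩
      · have : 2 ^ 2 ≤ 2 ^ a := Nat.pow_le_pow_right two_pos (by
          by_contra hlt
          have : a = 1 := by omega
          subst this
          omega)
        rw [ha]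
        omega
      · rw [hz4, ha, pow_add]; ring
    · have hg : Nat.gcd 2 r = 1 := Nat.coprime_two_left.2 hodd
      rw [hg, mul_one] at hz
      exact Or.inl ⟨hodd, Nat.not_even_iff_odd.1 hev, hz, a, ha1, by rw [hz, ha, pow_add, pow_one]; ring⟩

/-- Aschbacher's theorem when the minimal normal subgroup is abelian modulo scalars. -/
theorem abelian_case (hn : 3 ≤ n) (h : AbelianData G N) : InClassOver G := by
  classical
  haveI : Nonempty (Fin n) := ⟨⟨0, by omega⟩⟩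
  obtain ⟨u, hu, hus⟩ := SetLike.exists_of_lt (lt_of_le_of_ne h.scal h.ne.symm)
  have hex : ∃ k, 0 < k ∧ u ^ k ∈ scalars (Fin n) F :=
    ⟨orderOf u, orderOf_pos u, by rw [pow_orderOf_eq_one]; exact one_mem _⟩
  obtain ⟨hk0, hk⟩ := Nat.find_spec hex
  have hk1 : Nat.find hex ≠ 1 := fun e => hus (by rw [e, pow_one] at hk; exact hk)
  obtain ⟨r, hr, a, ha⟩ := Nat.exists_prime_and_dvd hk1
  let M : Subgroup (GL (Fin n) F) :=
    { carrier := {x | x ∈ N ∧ x ^ r ∈ scalars (Fin n) F}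
      one_mem' := ⟨N.one_mem, by simp [one_mem]⟩
      mul_mem' := by
        rintro x y ⟨hx, hx'⟩ ⟨hy, hy'⟩
        obtain ⟨c, hc⟩ := h.exists_comm hx hy
        exact ⟨N.mul_mem hx hy, by rw [mul_pow_class_two hc]; exact mul_mem (sc_mem _) (mul_mem hx' hy')⟩
      inv_mem' := fun ⟨hx, hx'⟩ => ⟨N.inv_mem hx, by rw [inv_pow]; exact inv_mem hx'⟩ }
  have hM : M = N := by
    refine (h.min M (fun x hx => ⟨h.scal hx, pow_mem hx r⟩) (fun x hx => hx.1) fun g hg a ha =>
      ⟨h.normal g hg a ha.1, by rw [h.conj_pow' ha.2]; exact ha.2⟩).resolve_left fun e => ?_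
    have h1 : u ^ a ∈ M := ⟨N.pow_mem hu a, by rw [← pow_mul, mul_comm, ← ha]; exact hk⟩
    rw [e] at h1
    have ha0 : 0 < a := Nat.pos_of_ne_zero fun e0 => by rw [e0, mul_zero] at ha; omega
    have := Nat.find_min' hex ⟨ha0, h1⟩
    rw [ha] at this
    have := Nat.mul_le_mul_right a hr.two_le
    omega
  have hpow : ∀ x ∈ N, x ^ r ∈ scalars (Fin n) F := fun x hx => (hM.symm ▸ hx : x ∈ M).2
  obtain ⟨ζ, hζ⟩ := h.exists_primitive hr hpow
  rcases hr.eq_two_or_odd' with hr2 | hodd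
  · subst hr2
    have hm1 : (-1 : Fˣ) = ζ := by
      have h1 : (ζ : F) * ζ = 1 := by
        rw [← sq, ← Units.val_pow_eq_pow_val, ← hζ, pow_orderOf_eq_one, Units.val_one]
      rcases mul_self_eq_one_iff.1 h1 with e | e
      · rw [show ζ = 1 from Units.ext e, orderOf_one] at hζ
        omega
      · exact Units.ext (by rw [Units.val_neg, Units.val_one, e])
    have h2 : (2 : F) ≠ 0 := fun e => by
      have : ζ = 1 := by
        rw [← hm1]
        exact Units.ext (by rw [Units.val_neg, Units.val_one]; linear_combination -e)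
      rw [this, orderOf_one] at hζ
      omega
    obtain ⟨R, hR, hnorm⟩ := exists_rootGroup (by omega) h hpow (z := 4) ⟨3, rfl⟩
    by_cases hsq : ∃ i : Fˣ, i ^ 2 = -1
    · obtain ⟨i, hi⟩ := hsq
      have hlift : ∀ x ∈ N, ∃ c : Fˣ, sc c * x ∈ R := fun x hx => by
        obtain ⟨c, hc⟩ := h.lift hr hpow (fun c hc => by
          rw [show Nat.choose 2 2 = 1 from rfl, pow_one]
          rcases mul_self_eq_one_iff.1 (show (c : F) * c = 1 by
            rw [← sq, ← Units.val_pow_eq_pow_val, hc, Units.val_one]) with e | e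
          · exact ⟨1, by rw [one_pow]; exact Units.ext e.symm⟩
          · exact ⟨i, by rw [hi]; exact Units.ext (by rw [Units.val_neg, Units.val_one, e])⟩) x hx
        exact ⟨c, (hR _).2 ⟨N.mul_mem (h.scal (sc_mem c)) hx, by
          rw [show 4 = 2 * 2 from rfl, pow_mul, hc, one_pow]⟩⟩
      have hi4 : orderOf i = 4 := by
        haveI : Fact (Nat.Prime 2) := ⟨Nat.prime_two⟩
        refine orderOf_eq_prime_pow (p := 2) (n := 1) ?_ ?_
        · rw [pow_one, hi, hm1]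
          intro e
          rw [e, orderOf_one] at hζ
          omega
        · rw [show 2 ^ (1 + 1) = 2 * 2 from rfl, pow_mul, hi, neg_one_sq]
      exact split_case hn h Nat.prime_two (show 4 = 2 * Nat.gcd 2 2 from rfl) hi4 hR hnorm hlift hpow
    · push Not at hsq
      have hlift : ∀ x ∈ N, ∃ c : Fˣ, sc c * x ∈ R := fun x hx => by
        obtain ⟨l, hl⟩ := exists_sc (hpow x hx)
        obtain ⟨j, b, hb⟩ := solve_pow Nat.prime_two hsq l
        refine ⟨b⁻¹, (hR _).2 ⟨N.mul_mem (h.scal (sc_mem _)) hx, ?_⟩⟩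
        rw [(show Commute (sc b⁻¹) x from sc_comm _ x).mul_pow, show 4 = 2 * 2 from rfl, pow_mul x, ← hl,
          ← sc_pow, ← sc_pow, ← sc_mul, ← sc_one]
        congr 1
        rw [pow_mul, inv_pow, hb, inv_pow, inv_mul_eq_one, mul_pow, ← pow_mul, mul_comm j 2, pow_mul, neg_one_sq,
          one_pow, mul_one]
      exact selfDual hn h rfl h2 hR hnorm hlift hpow hsq
  · have hch : r ∣ r.choose 2 := hr.dvd_choose_self two_ne_zero (by
      have : r ≠ 2 := by rintro rfl; exact absurd hodd (by decide)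
      have := hr.two_le
      omega)
    obtain ⟨R, hR, hnorm⟩ := exists_rootGroup (by omega) h hpow hch
    have hlift : ∀ x ∈ N, ∃ c : Fˣ, sc c * x ∈ R := fun x hx => by
      obtain ⟨c, hc⟩ := h.lift hr hpow (fun c hc => ⟨1, by
        obtain ⟨k, hk⟩ := hch
        rw [one_pow, hk, pow_mul, hc, one_pow]⟩) x hx
      exact ⟨c, (hR _).2 ⟨N.mul_mem (h.scal (sc_mem c)) hx, hc⟩⟩
    exact split_case hn h hr (by rw [show Nat.gcd 2 r = 1 from Nat.coprime_two_left.2 hodd, mul_one]) hζ hR hnorm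
      hlift hpow

end CfsgLib.Aschbacher
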