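import Mathlib
import Cfsg.Prelude.Def_GeometricClasses

/-!
# Aschbacher's theorem: irreducibility, centralisers, Burnside's density lemma

Basic lemmas on subgroups of `GL(ι, F)` acting on column vectors.
-/

set_option autoImplicit false

namespace CfsgLib.Aschbacher

open Cfsg Cfsg.Geo
open scoped Matrix MatrixGroups

variable {ι : Type} [Fintype ι] [DecidableEq ι] {F : Type*} [Field F]

/-- Conjugation of matrices by an invertible matrix, as an algebra automorphism. -/
def cj (g : GL ι F) : Matrix ι ι F ≃ₐ[F] Matrix ι ι F where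
  toFun x := (g : Matrix ι ι F) * x * (↑g⁻¹ : Matrix ι ι F)
  invFun x := (↑g⁻¹ : Matrix ι ι F) * x * (g : Matrix ι ι F)
  left_inv x := by simp [mul_assoc]
  right_inv x := by simp [mul_assoc]
  map_mul' x y := by simp [mul_assoc]
  map_add' x y := by simp [mul_add, add_mul]
  commutes' c := by simp [← Algebra.commutes]

theorem cj_apply (g : GL ι F) (x : Matrix ι ι F) :
    cj g x = (g : Matrix ι ι F) * x * (↑g⁻¹ : Matrix ι ι F) := rfl

theorem cj_cj (g h : GL ι F) (x : Matrix ι ι F) : cj g (cj h x) = cj (g * h) x := by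
  simp [cj_apply, mul_assoc]

theorem cj_one (x : Matrix ι ι F) : cj (1 : GL ι F) x = x := by simp [cj_apply]

theorem cj_inv_cj (g : GL ι F) (x : Matrix ι ι F) : cj g⁻¹ (cj g x) = x := by rw [cj_cj, inv_mul_cancel, cj_one]

theorem cj_val (g h : GL ι F) : cj g (h : Matrix ι ι F) = ((g * h * g⁻¹ : GL ι F) : Matrix ι ι F) := by
  simp [cj_apply]

theorem cj_mulVec (g : GL ι F) (x : Matrix ι ι F) (v : ι → F) :
    cj g x *ᵥ ((g : Matrix ι ι F) *ᵥ v) = (g : Matrix ι ι F) *ᵥ (x *ᵥ v) := by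
  rw [cj_apply, Matrix.mulVec_mulVec, Matrix.mulVec_mulVec]
  simp [mul_assoc]

theorem cj_eq_self_iff (g : GL ι F) (x : Matrix ι ι F) :
    cj g x = x ↔ (g : Matrix ι ι F) * x = x * g := by
  constructor
  · intro h
    nth_rw 2 [← h]
    simp [cj_apply, mul_assoc]
  · intro h
    rw [cj_apply, h]
    simp [mul_assoc]

theorem val_mem_matrixSet {G : Subgroup (GL ι F)} {g : GL ι F} (hg : g ∈ G) :
    (g : Matrix ι ι F) ∈ matrixSet G := ⟨g, hg, rfl⟩

theorem mulVec_left_inj (g : GL ι F) {v w : ι → F}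
    (h : (g : Matrix ι ι F) *ᵥ v = (g : Matrix ι ι F) *ᵥ w) : v = w := by
  have := congrArg ((↑g⁻¹ : Matrix ι ι F) *ᵥ ·) h
  simpa [Matrix.mulVec_mulVec] using this

theorem gl_mulVec_inv (g : GL ι F) (v : ι → F) :
    (g : Matrix ι ι F) *ᵥ ((↑g⁻¹ : Matrix ι ι F) *ᵥ v) = v := by
  simp [Matrix.mulVec_mulVec]

/-- A set of matrices maps a subspace into itself. -/
theorem irred_out {S : Set (Matrix ι ι F)} (hS : ActsIrreducibly S) (W : Submodule F (ι → F))
    (hW : ∀ s ∈ S, ∀ v ∈ W, s *ᵥ v ∈ W) : W = ⊥ ∨ W = ⊤ :=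
  hS W fun s hs => by
    rintro _ ⟨v, hv, rfl⟩
    exact hW s hs v hv

/-- Irreducibility for a subgroup, with images of vectors. -/
theorem irred_group {G : Subgroup (GL ι F)} (hG : ActsIrreducibly (matrixSet G)) (W : Submodule F (ι → F))
    (hW : ∀ g ∈ G, ∀ v ∈ W, (g : Matrix ι ι F) *ᵥ v ∈ W) : W = ⊥ ∨ W = ⊤ :=
  irred_out hG W (by rintro _ ⟨g, hg, rfl⟩; exact hW g hg)

theorem mem_subspaceStabilizer_iff [Finite F] (W : Submodule F (ι → F)) (g : GL ι F) :
    g ∈ subspaceStabilizer W ↔ ∀ v ∈ W, (g : Matrix ι ι F) *ᵥ v ∈ W := by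
  constructor
  · exact fun h v hv => (h v).1 hv
  · intro h v
    refine ⟨h v, fun hv => ?_⟩
    have hmap : W.map (Matrix.toLin' (g : Matrix ι ι F)) = W := by
      refine Submodule.eq_of_le_of_finrank_eq (by rintro _ ⟨w, hw, rfl⟩; exact h w hw) ?_
      exact (LinearEquiv.finrank_eq (Submodule.equivMapOfInjective _
        (fun a b hab => mulVec_left_inj g hab) W)).symm
    have hv' : (g : Matrix ι ι F) *ᵥ v ∈ W.map (Matrix.toLin' (g : Matrix ι ι F)) := hmap.symm ▸ hv
    obtain ⟨w, hw, e⟩ := hv'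
    exact mulVec_left_inj g e ▸ hw

/-- A reducible group is contained in the stabiliser of a proper non-zero subspace. -/
theorem exists_subspace [Finite F] {G : Subgroup (GL ι F)} (hG : ¬ ActsIrreducibly (matrixSet G)) :
    ∃ W : Submodule F (ι → F), W ≠ ⊥ ∧ W ≠ ⊤ ∧ G ≤ subspaceStabilizer W := by
  simp only [ActsIrreducibly, not_forall, not_or] at hG
  obtain ⟨W, hW, h0, h1⟩ := hG
  exact ⟨W, h0, h1, fun g hg => (mem_subspaceStabilizer_iff W g).2 fun v hv =>
    hW _ (val_mem_matrixSet hg) ⟨v, hv, rfl⟩⟩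

/-- The matrices commuting with every member of a set. -/
abbrev cent (S : Set (Matrix ι ι F)) : Subalgebra F (Matrix ι ι F) := Subalgebra.centralizer F S

theorem mem_cent {S : Set (Matrix ι ι F)} {x : Matrix ι ι F} : x ∈ cent S ↔ ∀ s ∈ S, s * x = x * s :=
  Subalgebra.mem_centralizer_iff F

/-- The subalgebra is made up of scalars. -/
def IsScalar (Z : Subalgebra F (Matrix ι ι F)) : Prop := ∀ x ∈ Z, ∃ c : F, x = c • (1 : Matrix ι ι F)

theorem absIrred_iff (S : Set (Matrix ι ι F)) :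
    ActsAbsolutelyIrreducibly S ↔ ActsIrreducibly S ∧ IsScalar (cent S) := by
  refine and_congr_right fun _ => ?_
  exact ⟨fun h x hx => h x fun s hs => (mem_cent.1 hx s hs).symm,
    fun h x hx => h x (mem_cent.2 fun s hs => (hx s hs).symm)⟩

/-- Schur and Wedderburn: the centraliser of an irreducible set is a field. -/
theorem cent_field [Finite F] {S : Set (Matrix ι ι F)} (hS : ActsIrreducibly S) :
    (∀ x ∈ cent S, ∀ y ∈ cent S, x * y = y * x) ∧ ∀ x ∈ cent S, x ≠ 0 → ∃ y ∈ cent S, x * y = 1 := by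
  have inj : ∀ x ∈ cent S, x ≠ 0 → Function.Injective (Matrix.toLin' x) := fun x hx hx0 => by
    rw [← LinearMap.ker_eq_bot]
    refine (irred_out hS _ fun s hs v hv => ?_).resolve_right fun h => hx0 ?_
    · rw [LinearMap.mem_ker, Matrix.toLin'_apply] at hv ⊢
      rw [Matrix.mulVec_mulVec, ← mem_cent.1 hx s hs, ← Matrix.mulVec_mulVec, hv, Matrix.mulVec_zero]
    · exact Matrix.toLin'.map_eq_zero_iff.1 (LinearMap.ker_eq_top.1 h)
  rcases subsingleton_or_nontrivial (Matrix ι ι F) with h | h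
  · exact ⟨fun _ _ _ _ => Subsingleton.elim _ _, fun x _ hx => absurd (Subsingleton.elim x 0) hx⟩
  haveI : Finite (Matrix ι ι F) := inferInstanceAs (Finite (ι → ι → F))
  haveI : NoZeroDivisors (cent S) := ⟨fun {a b} hab => by
    by_contra hc
    rw [not_or] at hc
    refine hc.2 (Subtype.ext (Matrix.toLin'.injective (LinearMap.ext fun v => ?_)))
    have hab' : (a : Matrix ι ι F) * b = 0 := congrArg Subtype.val hab
    refine (inj a a.2 (fun e => hc.1 (Subtype.ext e))) ?_
    rw [ZeroMemClass.coe_zero, map_zero, LinearMap.zero_apply, map_zero, Matrix.toLin'_apply,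
      Matrix.toLin'_apply, Matrix.mulVec_mulVec, hab', Matrix.zero_mulVec]⟩
  haveI : IsDomain (cent S) := NoZeroDivisors.to_isDomain _
  obtain ⟨-, hc, hi⟩ := Finite.isDomain_to_isField (cent S)
  refine ⟨fun x hx y hy => congrArg Subtype.val (hc ⟨x, hx⟩ ⟨y, hy⟩), fun x hx hx0 => ?_⟩
  obtain ⟨y, hy⟩ := hi (a := ⟨x, hx⟩) (fun e => hx0 (congrArg Subtype.val e))
  exact ⟨y, y.2, congrArg Subtype.val hy⟩

/-- The span of a group of matrices, as a subalgebra. -/
noncomputable def alg (N : Subgroup (GL ι F)) : Subalgebra F (Matrix ι ι F) :=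
  Algebra.adjoin F (matrixSet N)

theorem val_mem_alg {N : Subgroup (GL ι F)} {g : GL ι F} (hg : g ∈ N) : (g : Matrix ι ι F) ∈ alg N :=
  Algebra.subset_adjoin (val_mem_matrixSet hg)

theorem alg_toSubmodule (N : Subgroup (GL ι F)) :
    Subalgebra.toSubmodule (alg N) = Submodule.span F (matrixSet N) := by
  rw [alg, Algebra.adjoin_eq_span]
  congr 1
  refine le_antisymm ?_ Submonoid.subset_closure
  intro x hx
  induction hx using Submonoid.closure_induction with
  | mem x hx => exact hx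
  | one => exact ⟨1, N.one_mem, rfl⟩
  | mul x y _ _ ihx ihy =>
    obtain ⟨a, ha, rfl⟩ := ihx
    obtain ⟨b, hb, rfl⟩ := ihy
    exact ⟨a * b, N.mul_mem ha hb, rfl⟩

theorem alg_le_iff {N : Subgroup (GL ι F)} {B : Subalgebra F (Matrix ι ι F)} :
    alg N ≤ B ↔ ∀ g ∈ N, (g : Matrix ι ι F) ∈ B :=
  Algebra.adjoin_le_iff.trans ⟨fun h g hg => h (val_mem_matrixSet hg), fun h => by
    rintro _ ⟨g, hg, rfl⟩; exact h g hg⟩

/-- `cj g` stabilises a subalgebra. -/
def Normalizes (g : GL ι F) (B : Subalgebra F (Matrix ι ι F)) : Prop :=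
  ∀ x, x ∈ B ↔ cj g x ∈ B

theorem normalizes_of_map {G : Subgroup (GL ι F)} {B : Subalgebra F (Matrix ι ι F)}
    (h : ∀ g ∈ G, ∀ x ∈ B, cj g x ∈ B) {g : GL ι F} (hg : g ∈ G) : Normalizes g B :=
  fun x => ⟨h g hg x, fun hx => by simpa [cj_inv_cj] using h g⁻¹ (G.inv_mem hg) _ hx⟩

theorem cj_mem_alg {N : Subgroup (GL ι F)} {g : GL ι F} (h : ∀ a ∈ N, g * a * g⁻¹ ∈ N) {x : Matrix ι ι F}
    (hx : x ∈ alg N) : cj g x ∈ alg N := by
  have : alg N ≤ (alg N).comap (cj g).toAlgHom := alg_le_iff.2 fun a ha => by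
    show cj g (a : Matrix ι ι F) ∈ alg N
    rw [cj_val]
    exact val_mem_alg (h a ha)
  exact this hx

theorem le_subalgebraNormalizer {G : Subgroup (GL ι F)} {B : Subalgebra F (Matrix ι ι F)}
    (h : ∀ g ∈ G, ∀ x ∈ B, cj g x ∈ B) : G ≤ subalgebraNormalizer B :=
  fun _ hg k => normalizes_of_map h hg k

/-- A matrix fixing every vector of a spanning invariant piece. -/
theorem alg_invariant {N : Subgroup (GL ι F)} {W : Submodule F (ι → F)}
    (h : ∀ g ∈ N, ∀ v ∈ W, (g : Matrix ι ι F) *ᵥ v ∈ W) {x : Matrix ι ι F} (hx : x ∈ alg N) :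
    ∀ v ∈ W, x *ᵥ v ∈ W := by
  induction hx using Algebra.adjoin_induction with
  | mem x hx => obtain ⟨g, hg, rfl⟩ := hx; exact h g hg
  | algebraMap c =>
    intro v hv
    rw [Algebra.algebraMap_eq_smul_one, Matrix.smul_mulVec, Matrix.one_mulVec]
    exact W.smul_mem c hv
  | add x y _ _ ihx ihy => intro v hv; rw [Matrix.add_mulVec]; exact W.add_mem (ihx v hv) (ihy v hv)
  | mul x y _ _ ihx ihy => intro v hv; rw [← Matrix.mulVec_mulVec]; exact ihx _ (ihy v hv)

/-- Burnside: the span of an absolutely irreducible group is the whole matrix algebra. -/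
theorem alg_eq_top [Nonempty ι] {N : Subgroup (GL ι F)} (h : ActsAbsolutelyIrreducibly (matrixSet N)) :
    alg N = ⊤ := by
  classical
  refine Algebra.eq_top_iff.2 fun a => ?_
  let R : Subalgebra F (Module.End F (ι → F)) := (alg N).map (Matrix.toLinAlgEquiv' (R := F) (n := ι)).toAlgHom
  have hmem : ∀ g ∈ N, Matrix.toLinAlgEquiv' (g : Matrix ι ι F) ∈ R := fun g hg => ⟨_, val_mem_alg hg, rfl⟩
  have hsimple : IsSimpleModule R (ι → F) := by
    refine isSimpleModule_iff_toSpanSingleton_surjective.mpr ⟨inferInstance, fun u hu => ?_⟩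
    rcases irred_group h.1 ((LinearMap.range (LinearMap.toSpanSingleton R (ι → F) u)).restrictScalars F)
      (by rintro g hg w ⟨r, rfl⟩
          exact ⟨⟨_, hmem g hg⟩ * r, by simp only [LinearMap.toSpanSingleton_apply, mul_smul]; rfl⟩) with e | e
    · refine absurd ?_ hu
      have : u ∈ (LinearMap.range (LinearMap.toSpanSingleton R (ι → F) u)).restrictScalars F := ⟨1, one_smul R u⟩
      rwa [e, Submodule.mem_bot] at this
    · intro w
      exact (e.symm ▸ Submodule.mem_top :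
        w ∈ (LinearMap.range (LinearMap.toSpanSingleton R (ι → F) u)).restrictScalars F)
  have hschur : ∀ φ : Module.End R (ι → F), ∃ c : F, ∀ w, φ w = c • w := by
    intro φ
    obtain ⟨c, hc⟩ := h.2 (Matrix.toLinAlgEquiv'.symm (φ.restrictScalars F)) fun s hs => by
      obtain ⟨g, hg, rfl⟩ := hs
      apply Matrix.toLinAlgEquiv'.injective
      rw [map_mul, map_mul, AlgEquiv.apply_symm_apply]
      exact LinearMap.ext fun v => φ.map_smul ⟨_, hmem g hg⟩ v
    refine ⟨c, fun w => ?_⟩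
    have := LinearMap.congr_fun (congrArg Matrix.toLinAlgEquiv' hc) w
    simpa using this
  let f' : Module.End (Module.End R (ι → F)) (ι → F) :=
    { toFun := fun v => a *ᵥ v
      map_add' := Matrix.mulVec_add a
      map_smul' := fun φ w => by
        obtain ⟨c, hc⟩ := hschur φ
        show a *ᵥ φ w = φ (a *ᵥ w)
        rw [hc, hc, Matrix.mulVec_smul] }
  obtain ⟨r, hr⟩ := jacobson_density (R := R) (M := ι → F) f' (Finset.univ.image fun i : ι => Pi.single i (1 : F))
  obtain ⟨x, hx, e⟩ := r.2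
  suffices a = x by exact this ▸ hx
  refine Matrix.ext_of_mulVec_single fun i => ?_
  have h1 := hr _ (Finset.mem_image_of_mem _ (Finset.mem_univ i))
  exact h1.trans (LinearMap.congr_fun e.symm _)

theorem eq_smul_one_of_commutes {N : Subgroup (GL ι F)} (h : ActsAbsolutelyIrreducibly (matrixSet N))
    {x : Matrix ι ι F} (hx : ∀ g ∈ N, x * (g : Matrix ι ι F) = (g : Matrix ι ι F) * x) :
    ∃ c : F, x = c • (1 : Matrix ι ι F) :=
  h.2 x (by rintro _ ⟨g, hg, rfl⟩; exact hx g hg)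

theorem mem_scalars_of_eq_smul [Nonempty ι] {g : GL ι F} {c : F} (h : (g : Matrix ι ι F) = c • 1) :
    g ∈ scalars ι F := by
  have hc : c ≠ 0 := fun e => by
    rw [e, zero_smul] at h
    exact g.isUnit.ne_zero h
  exact (mem_scalars_iff g).2 ⟨Units.mk0 c hc, h⟩

end CfsgLib.Aschbacher
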