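import Cfsg.Agent.Lib.Aschbacher.Basic

/-!
# Aschbacher's theorem: subfields of prime degree and prime index
-/

set_option autoImplicit false

namespace CfsgLib.Aschbacher

open Cfsg Cfsg.Geo
open scoped Matrix MatrixGroups

/-- The fixed points of `x ↦ x ^ M` in a finite field number `M` when `M - 1` divides `|L| - 1`. -/
theorem natCard_fixed (L : Type*) [Field L] [Finite L] {M : ℕ} (hM : 1 < M)
    (hd : M - 1 ∣ Nat.card L - 1) : Nat.card {x : L // x ^ M = x} = M := by
  classical
  have e : {x : L // x ^ M = x} ≃ Option ↥(powMonoidHom (M - 1) : Lˣ →* Lˣ).ker :=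
    { toFun := fun x => if h : (x : L) = 0 then none else some ⟨Units.mk0 x h, Units.ext (by
        have h1 : (x : L) ^ (M - 1) * x = 1 * x := by
          rw [one_mul, ← pow_succ, show M - 1 + 1 = M by omega, x.2]
        simpa using mul_right_cancel₀ h h1)⟩
      invFun := fun u => match u with
        | none => ⟨0, zero_pow (by omega)⟩
        | some u => ⟨((u : Lˣ) : L), by
            have h1 : ((u : Lˣ) : L) ^ (M - 1) = 1 := by
              rw [← Units.val_pow_eq_pow_val, show (u : Lˣ) ^ (M - 1) = 1 from u.2, Units.val_one]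
            have h2 : ((u : Lˣ) : L) ^ (M - 1 + 1) = ((u : Lˣ) : L) := by rw [pow_succ, h1, one_mul]
            exact (congrArg (((u : Lˣ) : L) ^ ·) (show M = M - 1 + 1 by omega)).trans h2⟩
      left_inv := fun x => by
        by_cases h : (x : L) = 0
        · simp only [h, dite_true]; exact Subtype.ext h.symm
        · simp only [h, dite_false]; exact Subtype.ext rfl
      right_inv := fun u => by
        match u with
        | none => simp
        | some u =>
          simp only [Units.ne_zero, dite_false]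
          exact congrArg some (Subtype.ext (Units.ext rfl)) }
  rw [Nat.card_congr e, Finite.card_option, IsCyclic.card_powMonoidHom_ker, Nat.card_units,
    Nat.gcd_eq_right hd]
  omega

theorem sub_one_dvd_pow {a n m : ℕ} (h : n ∣ m) : a ^ n - 1 ∣ a ^ m - 1 := by
  obtain ⟨k, rfl⟩ := h
  rw [pow_mul]
  simpa using Nat.sub_dvd_pow_sub_pow (a ^ n) 1 k

variable {ι : Type} [Fintype ι] [DecidableEq ι] {F : Type*} [Field F]

/-- A field of matrices contains a subfield of each prime degree dividing its degree, canonically. -/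
theorem subfield_of_degree [Finite F] {C : Subalgebra F (Matrix ι ι F)}
    (hc : ∀ x ∈ C, ∀ y ∈ C, x * y = y * x) (hi : ∀ x ∈ C, x ≠ 0 → ∃ y ∈ C, x * y = 1)
    (hn : (1 : Matrix ι ι F) ≠ 0) {r : ℕ} (hr : r.Prime) (hd : r ∣ Module.finrank F C) :
    ∃ K ≤ C, IsFieldSubalgebra r K ∧
      ∀ g : GL ι F, (∀ x ∈ C, cj g x ∈ C) → ∀ x ∈ K, cj g x ∈ K := by
  classical
  haveI : Finite (Matrix ι ι F) := inferInstanceAs (Finite (ι → ι → F))
  have hF : IsField C :=
    { exists_pair_ne := ⟨1, 0, fun h => hn (congrArg Subtype.val h)⟩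
      mul_comm := fun x y => Subtype.ext (hc x x.2 y y.2)
      mul_inv_cancel := fun {a} ha => by
        obtain ⟨y, hy, e⟩ := hi a a.2 (fun e => ha (Subtype.ext e))
        exact ⟨⟨y, hy⟩, Subtype.ext e⟩ }
  letI : Field C := hF.toField
  set q := Nat.card F
  obtain ⟨p, hp⟩ := CharP.exists F
  haveI : Fact p.Prime := ⟨CharP.char_is_prime F p⟩
  haveI : CharP C p := charP_of_injective_algebraMap (algebraMap F C).injective p
  cases nonempty_fintype F
  obtain ⟨e, -, he⟩ := FiniteField.card F p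
  have hq : q = p ^ (e : ℕ) := by rw [← he]; exact Nat.card_eq_fintype_card
  have hq1 : 1 < q := Finite.one_lt_card
  have hcC : Nat.card C = q ^ Module.finrank F C := Module.natCard_eq_pow_finrank
  have hFfix : ∀ c : F, c ^ q ^ r = c := fun c => by
    rw [show q = Fintype.card F from Nat.card_eq_fintype_card]
    exact FiniteField.pow_card_pow r c
  let K' : Subalgebra F C :=
    { carrier := {x : C | x ^ q ^ r = x}
      mul_mem' := fun {a b} ha hb => by
        simp only [Set.mem_setOf_eq] at ha hb ⊢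
        rw [mul_pow, ha, hb]
      add_mem' := fun {a b} ha hb => by
        simp only [Set.mem_setOf_eq] at ha hb ⊢
        rw [hq, ← pow_mul, add_pow_char_pow, pow_mul, ← hq, ha, hb]
      algebraMap_mem' := fun c => by
        simp only [Set.mem_setOf_eq]
        rw [← map_pow, hFfix] }
  have hK : Nat.card K' = q ^ r := natCard_fixed C (Nat.one_lt_pow hr.ne_zero hq1)
    (hcC ▸ sub_one_dvd_pow hd)
  have hKr : Module.finrank F (K'.map C.val) = r := by
    have h1 : Module.finrank F (K'.map C.val) = Module.finrank F K' :=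
      (Subalgebra.equivMapOfInjective K' C.val Subtype.val_injective).toLinearEquiv.finrank_eq.symm
    have h2 : Nat.card K' = q ^ Module.finrank F K' := Module.natCard_eq_pow_finrank
    rw [hK] at h2
    rw [h1]
    exact (Nat.pow_right_injective hq1 h2).symm
  refine ⟨K'.map C.val, ?_, ⟨?_, ?_, hKr⟩, ?_⟩
  · rintro _ ⟨x, -, rfl⟩; exact x.2
  · rintro _ ⟨x, -, rfl⟩ _ ⟨y, -, rfl⟩; exact hc x x.2 y y.2
  · rintro _ ⟨x, hx, rfl⟩ hx0
    have hx0' : x ≠ 0 := fun e => hx0 (by rw [e]; rfl)
    obtain ⟨y, hy⟩ := hF.mul_inv_cancel hx0'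
    refine ⟨_, ⟨y, ?_, rfl⟩, congrArg Subtype.val hy⟩
    show y ^ q ^ r = y
    have : x * y ^ q ^ r = x * y := by
      nth_rw 1 [← (hx : x ^ q ^ r = x)]
      rw [← mul_pow, hy, one_pow]
    exact mul_left_cancel₀ hx0' this
  · rintro g hg _ ⟨x, hx, rfl⟩
    refine ⟨⟨cj g x, hg x x.2⟩, Subtype.ext ?_, rfl⟩
    show (cj g (x : Matrix ι ι F)) ^ q ^ r = cj g x
    rw [← map_pow]
    exact congrArg (cj g) (congrArg Subtype.val (hx : x ^ q ^ r = x))

/-- The group normalising a non-scalar field of matrices lies in the normaliser of a field of prime degree. -/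
theorem exists_fieldNormalizer [Finite F] {G : Subgroup (GL ι F)} {C : Subalgebra F (Matrix ι ι F)}
    (hc : ∀ x ∈ C, ∀ y ∈ C, x * y = y * x) (hi : ∀ x ∈ C, x ≠ 0 → ∃ y ∈ C, x * y = 1)
    (hG : ∀ g ∈ G, ∀ x ∈ C, cj g x ∈ C) (hns : ¬ IsScalar C) :
    ∃ (r : ℕ) (K : Subalgebra F (Matrix ι ι F)), r.Prime ∧ IsFieldSubalgebra r K ∧ G ≤ subalgebraNormalizer K := by
  have hn : (1 : Matrix ι ι F) ≠ 0 := fun h => hns fun x _ =>
    ⟨0, by rw [zero_smul, ← mul_one x, h, mul_zero]⟩
  have hd : Module.finrank F C ≠ 1 := fun h1 => hns fun x hx => by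
    haveI : Nontrivial C := ⟨1, 0, fun h => hn (congrArg Subtype.val h)⟩
    obtain ⟨c, hc'⟩ := (finrank_eq_one_iff_of_nonzero' (1 : C) one_ne_zero).1 h1 ⟨x, hx⟩
    exact ⟨c, (congrArg Subtype.val hc').symm⟩
  obtain ⟨r, hr, hrd⟩ := Nat.exists_prime_and_dvd hd
  obtain ⟨K, -, hK, hn'⟩ := subfield_of_degree hc hi hn hr hrd
  exact ⟨r, K, hr, hK, le_subalgebraNormalizer fun g hg => hn' g (hG g hg)⟩

/-- Every proper subfield of a finite field lies in a subfield of prime index. -/
theorem exists_primeIndex [Finite F] {F₀ : Subfield F} (h : F₀ ≠ ⊤) :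
    ∃ (F₁ : Subfield F) (r : ℕ), r.Prime ∧ F₀ ≤ F₁ ∧ Nat.card F = Nat.card F₁ ^ r := by
  classical
  cases nonempty_fintype F
  cases nonempty_fintype F₀
  obtain ⟨p, hp⟩ := CharP.exists F
  haveI : Fact p.Prime := ⟨CharP.char_is_prime F p⟩
  obtain ⟨e, -, he⟩ := FiniteField.card F₀ p
  set q₀ := Nat.card F₀
  have hcard : Nat.card F = q₀ ^ Module.finrank F₀ F := Module.natCard_eq_pow_finrank
  have hd : Module.finrank F₀ F ≠ 1 := fun h1 => h (by
    refine SetLike.coe_injective (Set.eq_of_subset_of_ncard_le (Set.subset_univ _) ?_ (Set.toFinite _))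
    show (Set.univ : Set F).ncard ≤ (F₀ : Set F).ncard
    rw [Set.ncard_univ, hcard, h1, pow_one]
    exact le_of_eq (Nat.card_coe_set_eq (F₀ : Set F)))
  obtain ⟨r, hr, m, hm⟩ := Nat.exists_prime_and_dvd hd
  have hm0 : m ≠ 0 := fun e' => by
    rw [e', mul_zero] at hm
    exact absurd hm Module.finrank_pos.ne'
  have hq₀ : q₀ = p ^ (e : ℕ) := by rw [← he]; exact Nat.card_eq_fintype_card
  let M := q₀ ^ m
  have hM : M = p ^ ((e : ℕ) * m) := by rw [pow_mul, ← hq₀]
  have hpowM : ∀ x : F, x ∈ F₀ → x ^ M = x := fun x hx => by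
    show x ^ q₀ ^ m = x
    rw [show q₀ = Fintype.card F₀ from Nat.card_eq_fintype_card]
    exact congrArg Subtype.val (FiniteField.pow_card_pow m (⟨x, hx⟩ : F₀))
  let F₁ : Subfield F :=
    { carrier := {x : F | x ^ M = x}
      mul_mem' := fun {a b} ha hb => by
        simp only [Set.mem_setOf_eq] at ha hb ⊢
        rw [mul_pow, ha, hb]
      one_mem' := one_pow M
      add_mem' := fun {a b} ha hb => by
        simp only [Set.mem_setOf_eq] at ha hb ⊢
        rw [hM, add_pow_char_pow, ← hM, ha, hb]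
      zero_mem' := hpowM 0 F₀.zero_mem
      neg_mem' := fun {a} ha => by
        simp only [Set.mem_setOf_eq] at ha ⊢
        rw [neg_pow, ha, hpowM (-1) (F₀.neg_mem F₀.one_mem), neg_one_mul]
      inv_mem' := fun a ha => by
        simp only [Set.mem_setOf_eq] at ha ⊢
        rw [inv_pow, ha] }
  refine ⟨F₁, r, hr, fun x hx => hpowM x hx, ?_⟩
  have hc : Nat.card F₁ = M := natCard_fixed F
    (Nat.one_lt_pow hm0 Finite.one_lt_card)
    (by rw [hcard, hm]; exact sub_one_dvd_pow (Dvd.intro_left r rfl))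
  rw [hc, hcard, hm, ← pow_mul, mul_comm m r]

end CfsgLib.Aschbacher
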