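import Cfsg.Agent.Lib.Aschbacher.Basic
import Cfsg.Agent.Lib.Aschbacher.Fields

/-!
# Aschbacher's theorem: the algebra spanned by a normal subgroup of an irreducible group

Either the group stabilises a decomposition, or it normalises an extension field, or the normal subgroup spans a
matrix algebra.
-/

set_option autoImplicit false

namespace CfsgLib.Aschbacher

open Cfsg Cfsg.Geo
open scoped Matrix MatrixGroups

variable {ι : Type} [Fintype ι] [DecidableEq ι] {F : Type*} [Field F]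

theorem commute_of_alg {N : Subgroup (GL ι F)} {x y : Matrix ι ι F} (hx : x ∈ alg N)
    (hy : y ∈ cent (matrixSet N)) : x * y = y * x := by
  have h : alg N ≤ cent {y} := alg_le_iff.2 fun g hg => mem_cent.2 fun s hs => by
    rw [Set.mem_singleton_iff.1 hs]
    exact (mem_cent.1 hy _ (val_mem_matrixSet hg)).symm
  exact (mem_cent.1 (h hx) y rfl).symm

/-- The centre of the algebra spanned by `N`. -/
noncomputable def algCenter (N : Subgroup (GL ι F)) : Subalgebra F (Matrix ι ι F) := alg N ⊓ cent (matrixSet N)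

theorem cj_mem_cent {N : Subgroup (GL ι F)} {g : GL ι F} (h : ∀ a ∈ N, g⁻¹ * a * g ∈ N) {x : Matrix ι ι F}
    (hx : x ∈ cent (matrixSet N)) : cj g x ∈ cent (matrixSet N) := mem_cent.2 (by
  rintro _ ⟨a, ha, rfl⟩
  have h1 := congrArg (cj g) (mem_cent.1 hx _ (val_mem_matrixSet (h a ha)))
  rw [map_mul, map_mul, cj_val] at h1
  simpa [mul_assoc] using h1)

theorem cj_mem_algCenter {G N : Subgroup (GL ι F)} (hN : ∀ g ∈ G, ∀ a ∈ N, g * a * g⁻¹ ∈ N) :
    ∀ g ∈ G, ∀ x ∈ algCenter N, cj g x ∈ algCenter N := fun g hg _ hx =>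
  ⟨cj_mem_alg (hN g hg) hx.1,
    cj_mem_cent (fun a ha => by simpa using hN g⁻¹ (G.inv_mem hg) a ha) hx.2⟩

theorem exists_common_zero (s : List (Matrix ι ι F)) (hc : ∀ x ∈ s, ∀ y ∈ s, x * y = y * x)
    (hn : ∀ x ∈ s, IsNilpotent x) [Nonempty ι] : ∃ v : ι → F, v ≠ 0 ∧ ∀ x ∈ s, x *ᵥ v = 0 := by
  classical
  induction s with
  | nil => exact ⟨fun _ => 1, fun h => one_ne_zero (congrFun h (Classical.arbitrary ι)), by simp⟩
  | cons a s ih =>
    obtain ⟨v, hv, hv'⟩ := ih (fun x hx y hy => hc x (List.mem_cons_of_mem _ hx) y (List.mem_cons_of_mem _ hy))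
      fun x hx => hn x (List.mem_cons_of_mem _ hx)
    obtain ⟨k, hk⟩ := hn a List.mem_cons_self
    have hex : ∃ m, a ^ m *ᵥ v = 0 := ⟨k, by rw [hk, Matrix.zero_mulVec]⟩
    obtain ⟨m, hm⟩ : ∃ m, Nat.find hex = m + 1 := Nat.exists_eq_succ_of_ne_zero fun h => hv (by
      simpa [h] using Nat.find_spec hex)
    refine ⟨a ^ m *ᵥ v, Nat.find_min hex (by omega), fun x hx => ?_⟩
    rcases List.mem_cons.1 hx with rfl | hx'
    · rw [Matrix.mulVec_mulVec, ← pow_succ', ← hm]
      exact Nat.find_spec hex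
    · have hcx : Commute x a := hc x hx a List.mem_cons_self
      rw [Matrix.mulVec_mulVec, (hcx.pow_right m).eq, ← Matrix.mulVec_mulVec, hv' x hx', Matrix.mulVec_zero]

/-- A commutative algebra normalised by an irreducible group is reduced. -/
theorem reduced_of_normalized [Finite F] [Nonempty ι] {G : Subgroup (GL ι F)}
    (hG : ActsIrreducibly (matrixSet G)) {Z : Subalgebra F (Matrix ι ι F)}
    (hc : ∀ x ∈ Z, ∀ y ∈ Z, x * y = y * x) (hZ : ∀ g ∈ G, ∀ x ∈ Z, cj g x ∈ Z)
    {x : Matrix ι ι F} (hx : x ∈ Z) (hn : IsNilpotent x) : x = 0 := by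
  classical
  haveI : Finite (Matrix ι ι F) := inferInstanceAs (Finite (ι → ι → F))
  let s : Finset (Matrix ι ι F) := (Set.toFinite {y | y ∈ Z ∧ IsNilpotent y}).toFinset
  obtain ⟨v, hv, hv'⟩ := exists_common_zero s.toList
    (fun a ha b hb => hc a (by simp [s] at ha; exact ha.1) b (by simp [s] at hb; exact hb.1))
    (fun a ha => by simp [s] at ha; exact ha.2)
  let U : Submodule F (ι → F) :=
    { carrier := {v | ∀ y ∈ Z, IsNilpotent y → y *ᵥ v = 0}
      add_mem' := fun {a b} ha hb y hy hy' => by rw [Matrix.mulVec_add, ha y hy hy', hb y hy hy', add_zero]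
      zero_mem' := fun y _ _ => Matrix.mulVec_zero y
      smul_mem' := fun c a ha y hy hy' => by rw [Matrix.mulVec_smul, ha y hy hy', smul_zero] }
  have hU : U ≠ ⊥ := fun h => hv (by
    rw [← Submodule.mem_bot (R := F), ← h]
    exact fun y hy hy' => hv' y (by simp [s, hy, hy']))
  rcases irred_group hG U (fun g hg w hw y hy hy' => by
    have h1 := hw (cj g⁻¹ y) (hZ _ (G.inv_mem hg) y hy) (hy'.map (cj g⁻¹))
    have h2 := cj_mulVec g (cj g⁻¹ y) w
    rw [cj_cj, mul_inv_cancel, cj_one, h1, Matrix.mulVec_zero] at h2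
    exact h2) with h | h
  · exact absurd h hU
  · refine Matrix.ext_of_mulVec_single fun i => ?_
    rw [Matrix.zero_mulVec]
    exact (h.symm ▸ Submodule.mem_top : Pi.single i (1 : F) ∈ U) x hx hn

/-- A primitive idempotent of a commutative algebra of matrices. -/
def IsPrim (Z : Subalgebra F (Matrix ι ι F)) (e : Matrix ι ι F) : Prop :=
  e ∈ Z ∧ IsIdempotentElem e ∧ e ≠ 0 ∧ ∀ f ∈ Z, IsIdempotentElem f → f * e = 0 ∨ f * e = e

theorem exists_prim_le {Z : Subalgebra F (Matrix ι ι F)} (hc : ∀ x ∈ Z, ∀ y ∈ Z, x * y = y * x)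
    {u : Matrix ι ι F} (hu : u ∈ Z) (hu' : IsIdempotentElem u) (hu0 : u ≠ 0) :
    ∃ e, IsPrim Z e ∧ e * u = e := by
  classical
  have hex : ∃ n, ∃ e ∈ Z, IsIdempotentElem e ∧ e ≠ 0 ∧ e * u = e ∧
      Module.finrank F (LinearMap.range (Matrix.toLin' e)) = n := ⟨_, u, hu, hu', hu0, hu', rfl⟩
  obtain ⟨e, he, he', he0, heu, hn⟩ := Nat.find_spec hex
  refine ⟨e, ⟨he, he', he0, fun f hf hf' => ?_⟩, heu⟩
  by_contra hcon
  rw [not_or] at hcon
  have hfe : IsIdempotentElem (f * e) := by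
    show f * e * (f * e) = f * e
    rw [mul_assoc, ← mul_assoc e f e, hc e he f hf, mul_assoc f e e, he', ← mul_assoc, hf']
  have hle : LinearMap.range (Matrix.toLin' (f * e)) ≤ LinearMap.range (Matrix.toLin' e) := by
    rintro _ ⟨v, rfl⟩
    exact ⟨f *ᵥ v, by simp [Matrix.toLin'_apply, Matrix.mulVec_mulVec, hc f hf e he]⟩
  have hlt : Module.finrank F (LinearMap.range (Matrix.toLin' (f * e))) < Nat.find hex := by
    rw [← hn]
    refine Submodule.finrank_lt_finrank_of_lt (lt_of_le_of_ne hle fun heq => hcon.2 ?_)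
    refine Matrix.toLin'.injective (LinearMap.ext fun v => ?_)
    obtain ⟨w, hw⟩ : Matrix.toLin' e v ∈ LinearMap.range (Matrix.toLin' (f * e)) := heq ▸ ⟨v, rfl⟩
    have h1 := congrArg ((f * e) *ᵥ ·) hw
    simp only [Matrix.toLin'_apply, Matrix.mulVec_mulVec] at hw h1 ⊢
    rw [hfe, mul_assoc, he'] at h1
    rw [← h1, hw]
  refine Nat.find_min hex hlt ⟨f * e, Z.mul_mem hf he, hfe, hcon.1, ?_, rfl⟩
  rw [mul_assoc, heu]

/-- The dichotomy for a commutative algebra normalised by an irreducible group. -/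
theorem field_or_decomposition [Finite F] [Nonempty ι] {G : Subgroup (GL ι F)}
    (hG : ActsIrreducibly (matrixSet G)) {Z : Subalgebra F (Matrix ι ι F)}
    (hc : ∀ x ∈ Z, ∀ y ∈ Z, x * y = y * x) (hZ : ∀ g ∈ G, ∀ x ∈ Z, cj g x ∈ Z) :
    (∃ (t m : ℕ) (D : Fin t → Submodule F (ι → F)), IsMDecomposition m D ∧ G ≤ decompositionStabilizer D) ∨
      ∀ x ∈ Z, x ≠ 0 → ∃ y ∈ Z, x * y = 1 := by
  classical
  haveI : Finite (Matrix ι ι F) := inferInstanceAs (Finite (ι → ι → F))
  have hred : ∀ x ∈ Z, IsNilpotent x → x = 0 := fun x hx => reduced_of_normalized hG hc hZ hx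
  by_cases htriv : ∀ e ∈ Z, IsIdempotentElem e → e = 0 ∨ e = 1
  · refine Or.inr fun x hx hx0 => ?_
    obtain ⟨a, b, hab, heq⟩ := Finite.exists_ne_map_eq_of_infinite (fun n : ℕ => x ^ n)
    wlog hlt : a < b generalizing a b with H
    · exact H b a hab.symm heq.symm (by omega)
    set k := b - a with hk
    have hper : ∀ c, a ≤ c → x ^ (c + k) = x ^ c := fun c hc' => by
      rw [show c + k = b + (c - a) by omega, pow_add, ← (heq : x ^ a = x ^ b), ← pow_add]
      congr 1; omega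
    have hmul : ∀ j c, a ≤ c → x ^ (c + j * k) = x ^ c := fun j => by
      induction j with
      | zero => simp
      | succ j ih => intro c hc'; rw [add_one_mul, ← add_assoc, hper _ (by omega), ih c hc']
    set m := (a + 1) * k with hm
    have hma : a ≤ m ∧ 0 < m := by
      have : a + 1 ≤ m := Nat.le_mul_of_pos_right _ (by omega)
      omega
    have hid : IsIdempotentElem (x ^ m) := by
      show x ^ m * x ^ m = x ^ m
      rw [← pow_add]; exact hmul (a + 1) m hma.1
    rcases htriv _ (Z.pow_mem hx m) hid with h | h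
    · exact absurd (hred x hx ⟨m, h⟩) hx0
    · refine ⟨x ^ (m - 1), Z.pow_mem hx _, ?_⟩
      rw [← pow_succ', show m - 1 + 1 = m by omega, h]
  simp only [not_forall, not_or] at htriv
  obtain ⟨u, hu, hu', hu0, hu1⟩ := htriv
  left
  let E : Finset (Matrix ι ι F) := (Set.toFinite {e | IsPrim Z e}).toFinset
  have hE : ∀ {e}, e ∈ E ↔ IsPrim Z e := fun {e} => by simp [E]
  have hortho : ∀ e ∈ E, ∀ f ∈ E, e ≠ f → e * f = 0 := fun e he f hf hne => by
    obtain ⟨he1, he2, -, he4⟩ := hE.1 he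
    obtain ⟨hf1, hf2, -, hf4⟩ := hE.1 hf
    rcases hf4 e he1 he2 with h | h
    · exact h
    rcases he4 f hf1 hf2 with h' | h'
    · rw [hc e he1 f hf1]; exact h'
    · exact absurd (by rw [← h', hc f hf1 e he1, h]) hne
  have hsum : ∑ e ∈ E, e = 1 := by
    by_contra hne
    set s := ∑ e ∈ E, e with hs
    have hsZ : s ∈ Z := Z.sum_mem fun e he => (hE.1 he).1
    have hse : ∀ e ∈ E, e * s = e := fun e he => by
      rw [hs, Finset.mul_sum, Finset.sum_eq_single e]
      · exact (hE.1 he).2.1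
      · exact fun f hf hne' => hortho e he f hf hne'.symm
      · exact fun h => absurd he h
    have hss : IsIdempotentElem s := by
      show s * s = s
      nth_rw 1 [hs]
      rw [Finset.sum_mul]
      exact Finset.sum_congr rfl hse
    obtain ⟨e, he, he'⟩ := exists_prim_le hc (Z.sub_mem Z.one_mem hsZ) hss.one_sub
      (sub_ne_zero.2 (Ne.symm hne))
    rw [mul_sub, mul_one, hse e (hE.2 he), sub_self] at he'
    exact he.2.2.1 he'.symm
  let D' : E → Submodule F (ι → F) := fun e => LinearMap.range (Matrix.toLin' (e : Matrix ι ι F))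
  have hfix : ∀ e : E, ∀ v ∈ D' e, (e : Matrix ι ι F) *ᵥ v = v := by
    rintro e _ ⟨v, rfl⟩
    rw [Matrix.toLin'_apply, Matrix.mulVec_mulVec, (hE.1 e.2).2.1]
  have hkill : ∀ e f : E, e ≠ f → ∀ v ∈ D' f, (e : Matrix ι ι F) *ᵥ v = 0 := by
    rintro e f hne _ ⟨v, rfl⟩
    rw [Matrix.toLin'_apply, Matrix.mulVec_mulVec, hortho _ e.2 _ f.2 fun h => hne (Subtype.ext h),
      Matrix.zero_mulVec]
  have hcjE : ∀ g ∈ G, ∀ e ∈ E, cj g e ∈ E := fun g hg e he => by
    obtain ⟨h1, h2, h3, h4⟩ := hE.1 he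
    refine hE.2 ⟨hZ g hg e h1, h2.map (cj g), fun h => h3 ((cj g).injective (h.trans (map_zero _).symm)), ?_⟩
    intro f hf hf'
    have h5 := h4 (cj g⁻¹ f) (hZ _ (G.inv_mem hg) f hf) (hf'.map (cj g⁻¹))
    have hf2 : f = cj g (cj g⁻¹ f) := by rw [cj_cj, mul_inv_cancel, cj_one]
    rw [hf2, ← map_mul]
    exact h5.imp (fun h => by rw [h, map_zero]) (fun h => by rw [h])
  have hmapD : ∀ (g : GL ι F) (hg : g ∈ G) (e : E),
      (D' e).map (Matrix.toLin' (g : Matrix ι ι F)) = D' ⟨cj g e, hcjE g hg e e.2⟩ := fun g hg e => by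
    apply le_antisymm
    · rintro _ ⟨_, ⟨v, rfl⟩, rfl⟩
      exact ⟨(g : Matrix ι ι F) *ᵥ v, by simp only [Matrix.toLin'_apply]; exact cj_mulVec g _ v⟩
    · rintro _ ⟨v, rfl⟩
      refine ⟨(e : Matrix ι ι F) *ᵥ ((↑g⁻¹ : Matrix ι ι F) *ᵥ v), ⟨_, rfl⟩, ?_⟩
      simp only [Matrix.toLin'_apply]
      rw [← cj_mulVec g, gl_mulVec_inv]
  obtain ⟨e₀, he₀, -⟩ := exists_prim_le hc hu hu' hu0
  have hdim : ∀ e : E, Module.finrank F (D' e) = Module.finrank F (D' ⟨e₀, hE.2 he₀⟩) := by
    intro e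
    by_contra hne
    let W : Submodule F (ι → F) :=
      ⨆ f : {f : E // Module.finrank F (D' f) = Module.finrank F (D' ⟨e₀, hE.2 he₀⟩)}, D' f.1
    rcases irred_group hG W (fun g hg v hv => by
      have : W.map (Matrix.toLin' (g : Matrix ι ι F)) ≤ W := by
        rw [Submodule.map_iSup]
        refine iSup_le fun f => ?_
        rw [hmapD g hg f.1]
        refine le_iSup_of_le ⟨⟨cj g f.1, hcjE g hg _ f.1.2⟩, ?_⟩ le_rfl
        rw [← hmapD g hg f.1]
        refine Eq.trans ?_ f.2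
        exact (LinearEquiv.finrank_eq (Submodule.equivMapOfInjective _
          (fun a b hab => mulVec_left_inj g hab) _)).symm
      exact this ⟨v, hv, rfl⟩) with h | h
    · refine he₀.2.2.1 (Matrix.toLin'.map_eq_zero_iff.1 (LinearMap.range_eq_bot.1 (eq_bot_iff.2 ?_)))
      rw [← h]
      exact le_iSup_of_le (f := fun f : {f : E // Module.finrank F (D' f) =
        Module.finrank F (D' ⟨e₀, hE.2 he₀⟩)} => D' f.1) ⟨⟨e₀, hE.2 he₀⟩, rfl⟩ le_rfl
    · have hk : W ≤ LinearMap.ker (Matrix.toLin' (e : Matrix ι ι F)) := iSup_le fun f v hv =>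
        hkill e f.1 (fun h' => hne (h'.symm ▸ f.2)) v hv
      refine (hE.1 e.2).2.2.1 (Matrix.toLin'.map_eq_zero_iff.1 (LinearMap.ker_eq_top.1 ?_))
      rw [eq_top_iff, ← h]; exact hk
  let φ : Fin (Fintype.card E) ≃ E := (Fintype.equivFin E).symm
  have hE1 : ∀ e ∈ E, e ≠ 1 := fun e he h1 => by
    rcases (hE.1 he).2.2.2 u hu hu' with h | h
    · rw [h1, mul_one] at h; exact hu0 h
    · rw [h1, mul_one] at h; exact hu1 h
  refine ⟨_, _, fun i => D' (φ i), ⟨?_, ?_, fun i => hdim (φ i), ?_, ?_⟩, ?_⟩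
  · rw [Fintype.card_coe]
    by_contra hlt
    rcases Nat.le_one_iff_eq_zero_or_eq_one.1 (by omega : E.card ≤ 1) with h | h
    · rw [Finset.card_eq_zero.1 h] at hsum
      exact (hu0 (by rw [← mul_one u, ← hsum, Finset.sum_empty, mul_zero]))
    · obtain ⟨e, he⟩ := Finset.card_eq_one.1 h
      rw [he, Finset.sum_singleton] at hsum
      exact hE1 e (he ▸ Finset.mem_singleton_self e) hsum
  · refine Nat.pos_of_ne_zero fun h => he₀.2.2.1 ?_
    exact Matrix.toLin'.map_eq_zero_iff.1 (LinearMap.range_eq_bot.1 (Submodule.finrank_eq_zero.1 h))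
  · intro i
    rw [disjoint_iff_inf_le]
    rintro v ⟨hv1, hv2⟩
    have hk : (⨆ (j) (_ : j ≠ i), D' (φ j)) ≤ LinearMap.ker (Matrix.toLin' ((φ i : E) : Matrix ι ι F)) :=
      iSup₂_le fun j hj w hw => hkill (φ i) (φ j) (fun h => hj (φ.injective h.symm)) w hw
    exact ((hfix _ v hv1).symm.trans (hk hv2) : v = 0)
  · refine eq_top_iff.2 fun v _ => ?_
    rw [← Matrix.one_mulVec v, ← hsum, Matrix.sum_mulVec]
    refine Submodule.sum_mem _ fun e he => ?_
    refine le_iSup (fun i => D' (φ i)) (φ.symm ⟨e, he⟩) ?_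
    simp only [Equiv.apply_symm_apply]
    exact ⟨v, rfl⟩
  · intro g hg
    let σ : E → E := fun e => ⟨cj g e, hcjE g hg e e.2⟩
    have hσ : Function.Bijective σ := Finite.injective_iff_bijective.1 fun a b h =>
      Subtype.ext ((cj g).injective (congrArg Subtype.val h))
    refine ⟨φ.trans ((Equiv.ofBijective σ hσ).trans φ.symm), fun i => ?_⟩
    rw [hmapD g hg]
    simp [σ]

/-- Semisimplicity of the algebra spanned by a normal subgroup of an irreducible group. -/
theorem isSemisimple_alg [Finite F] [Nonempty ι] {G N : Subgroup (GL ι F)}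
    (hG : ActsIrreducibly (matrixSet G)) (hN : ∀ g ∈ G, ∀ a ∈ N, g * a * g⁻¹ ∈ N) :
    IsSemisimpleRing (alg N) := by
  classical
  haveI : Finite (Matrix ι ι F) := inferInstanceAs (Finite (ι → ι → F))
  rw [IsArtinianRing.isSemisimpleRing_iff_jacobson]
  set J := Ring.jacobson (alg N) with hJdef
  obtain ⟨k, hk⟩ := IsSemiprimaryRing.isNilpotent (R := alg N)
  let U : Submodule F (ι → F) :=
    { carrier := {v | ∀ x ∈ J, (x : Matrix ι ι F) *ᵥ v = 0}
      add_mem' := fun {a b} ha hb y hy => by rw [Matrix.mulVec_add, ha y hy, hb y hy, add_zero]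
      zero_mem' := fun y _ => Matrix.mulVec_zero _
      smul_mem' := fun c a ha y hy => by rw [Matrix.mulVec_smul, ha y hy, smul_zero] }
  have hU : U ≠ ⊥ := fun h => by
    have key : ∀ j (v : ι → F), (∀ x ∈ J ^ (j + 1), (x : Matrix ι ι F) *ᵥ v = 0) → v = 0 := by
      intro j
      induction j with
      | zero =>
        intro v hv
        rw [← Submodule.mem_bot (R := F), ← h]
        intro x hx
        exact hv x (by rwa [zero_add, Submodule.pow_one])
      | succ j ih =>
        intro v hv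
        rw [← Submodule.mem_bot (R := F), ← h]
        intro x hx
        refine ih _ fun y hy => ?_
        rw [Matrix.mulVec_mulVec]
        refine hv (y * x) ?_
        rw [Submodule.pow_succ (n := j + 1)]
        exact Ideal.mul_mem_mul hy hx
    obtain ⟨v, hv⟩ := exists_ne (0 : ι → F)
    refine hv (key k v fun x hx => ?_)
    rw [Submodule.pow_succ, hk, Submodule.zero_eq_bot, Ideal.bot_mul] at hx
    have hx0 : x = 0 := (Submodule.mem_bot _).1 hx
    rw [hx0]; simp
  rcases irred_group hG U (fun g hg w hw x hx => by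
    let e : alg N ≃+* alg N :=
      { toFun := fun y => ⟨cj g⁻¹ y, cj_mem_alg (hN g⁻¹ (G.inv_mem hg)) y.2⟩
        invFun := fun y => ⟨cj g y, cj_mem_alg (hN g hg) y.2⟩
        left_inv := fun y => Subtype.ext (by simp [cj_cj, cj_one])
        right_inv := fun y => Subtype.ext (by simp [cj_cj, cj_one])
        map_mul' := fun a b => Subtype.ext (map_mul (cj g⁻¹) _ _)
        map_add' := fun a b => Subtype.ext (map_add (cj g⁻¹) _ _) }
    haveI : RingHomSurjective e.toRingHom := ⟨e.surjective⟩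
    have h1 := hw (e x) (Ring.le_comap_jacobson (f := e.toRingHom) hx)
    have h2 := cj_mulVec g (cj g⁻¹ (x : Matrix ι ι F)) w
    rw [cj_cj, mul_inv_cancel, cj_one] at h2
    rw [h2, show cj g⁻¹ (x : Matrix ι ι F) *ᵥ w = 0 from h1, Matrix.mulVec_zero]) with h | h
  · exact absurd h hU
  · refine eq_bot_iff.2 fun x hx => ?_
    refine Subtype.ext (Matrix.ext_of_mulVec_single fun i => ?_)
    rw [(h.symm ▸ Submodule.mem_top : Pi.single i (1 : F) ∈ U) x hx]
    exact (Matrix.zero_mulVec _).symm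

/-- A finite semisimple algebra with scalar centre is a matrix algebra. -/
theorem exists_matrix_equiv {K : Type*} [Field K] [Finite K] {A : Type*} [Ring A] [Algebra K A] [Module.Finite K A]
    [Nontrivial A] [IsSemisimpleRing A] (hz : ∀ z : A, (∀ a, z * a = a * z) → ∃ c : K, z = algebraMap K A c) :
    ∃ d : ℕ, 0 < d ∧ Nonempty (Matrix (Fin d) (Fin d) K ≃ₐ[K] A) := by
  classical
  obtain ⟨n, D, d, iD, iA, iF, hd, ⟨e⟩⟩ :=
    IsSemisimpleRing.exists_algEquiv_pi_matrix_divisionRing_finite (R₀ := K) (R := A)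
  have hcentral : ∀ z : (∀ i, Matrix (Fin (d i)) (Fin (d i)) (D i)), (∀ y, z * y = y * z) →
      ∃ c : K, z = algebraMap K _ c := fun z hz' => by
    obtain ⟨c, hc⟩ := hz (e.symm z) fun a => by
      have h1 := congrArg e.symm (hz' (e a))
      rwa [map_mul, map_mul, e.symm_apply_apply] at h1
    exact ⟨c, by rw [← e.apply_symm_apply z, hc, AlgEquiv.commutes]⟩
  haveI : Nontrivial (∀ i, Matrix (Fin (d i)) (Fin (d i)) (D i)) := e.toEquiv.symm.nontrivial
  haveI : ∀ i, NeZero (d i) := hd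
  obtain ⟨i₀⟩ : Nonempty (Fin n) := by
    by_contra h
    rw [not_nonempty_iff] at h
    exact false_of_nontrivial_of_subsingleton (∀ i, Matrix (Fin (d i)) (Fin (d i)) (D i))
  have huniq : ∀ j, j = i₀ := fun j => by
    by_contra hj
    obtain ⟨c, hc⟩ := hcentral (Pi.single i₀ 1) fun y => funext fun i => by
      rcases eq_or_ne i i₀ with rfl | hi
      · simp
      · simp [hi]
    have h1 := congrFun hc i₀
    have h2 := congrFun hc j
    rw [Pi.single_eq_same, Pi.algebraMap_apply] at h1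
    rw [Pi.single_eq_of_ne hj, Pi.algebraMap_apply] at h2
    have hc1 : c = 1 := (algebraMap K (Matrix (Fin (d i₀)) (Fin (d i₀)) (D i₀))).injective
      (by rw [← h1, map_one])
    rw [hc1, map_one] at h2
    exact one_ne_zero h2.symm
  haveI : Finite (D i₀) := Module.finite_of_finite K
  have hsurj : Function.Surjective (algebraMap K (D i₀)) := fun z => by
    letI : Field (D i₀) := littleWedderburn (D i₀)
    obtain ⟨c, hc⟩ := hcentral (fun i => if h : i = i₀ then h ▸ Matrix.scalar (Fin (d i₀)) z else 0)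
      fun y => funext fun i => by
        obtain rfl := huniq i
        simp only [Pi.mul_apply, dite_true]
        exact (Matrix.scalar_commute z (fun r => mul_comm z r) (y i)).eq
    refine ⟨c, ?_⟩
    have := congrFun (congrFun (congrFun hc i₀) 0) 0
    simpa [Matrix.algebraMap_matrix_apply] using this.symm
  let eD : K ≃ₐ[K] D i₀ := AlgEquiv.ofBijective (Algebra.ofId K (D i₀)) ⟨(algebraMap K (D i₀)).injective, hsurj⟩
  let ev : (∀ i, Matrix (Fin (d i)) (Fin (d i)) (D i)) ≃ₐ[K] Matrix (Fin (d i₀)) (Fin (d i₀)) (D i₀) :=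
    AlgEquiv.ofBijective (Pi.evalAlgHom K _ i₀)
      ⟨fun a b h => funext fun i => (huniq i) ▸ h,
        fun y => ⟨Pi.single i₀ y, Pi.single_eq_same (M := fun i => Matrix (Fin (d i)) (Fin (d i)) (D i)) i₀ y⟩⟩
  exact ⟨d i₀, Nat.pos_of_ne_zero (NeZero.ne _), ⟨((eD.mapMatrix).trans ev.symm).trans e.symm⟩⟩

/-- A semisimple span with scalar centre is a matrix algebra. -/
theorem alg_matrix [Finite F] [Nonempty ι] {N : Subgroup (GL ι F)} (hss : IsSemisimpleRing (alg N))
    (hz : IsScalar (algCenter N)) :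
    ∃ (d : ℕ) (φ : Matrix (Fin d) (Fin d) F →ₐ[F] Matrix ι ι F),
      0 < d ∧ Function.Injective φ ∧ φ.range = alg N := by
  haveI : Nontrivial (alg N) := ⟨1, 0, fun h => one_ne_zero (congrArg Subtype.val h : (1 : Matrix ι ι F) = 0)⟩
  obtain ⟨d, hd, ⟨ψ⟩⟩ := exists_matrix_equiv (K := F) (A := alg N) fun z hz' => by
    obtain ⟨c, hc⟩ := hz z ⟨z.2, mem_cent.2 (by
      rintro _ ⟨g, hg, rfl⟩
      exact (congrArg Subtype.val (hz' ⟨_, val_mem_alg hg⟩)).symm)⟩
    exact ⟨c, Subtype.ext (by rw [hc]; simp [Algebra.algebraMap_eq_smul_one])⟩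
  refine ⟨d, (alg N).val.comp ψ.toAlgHom, hd, Subtype.val_injective.comp ψ.injective, ?_⟩
  refine le_antisymm ?_ fun x hx => ⟨ψ.symm ⟨x, hx⟩, by simp⟩
  rintro _ ⟨a, rfl⟩
  exact (ψ a).2

/-- Clifford: the trichotomy for a normal subgroup of an irreducible group. -/
theorem clifford [Finite F] [Nonempty ι] {G N : Subgroup (GL ι F)} (hG : ActsIrreducibly (matrixSet G))
    (hN : ∀ g ∈ G, ∀ a ∈ N, g * a * g⁻¹ ∈ N) :
    (∃ (t m : ℕ) (D : Fin t → Submodule F (ι → F)), IsMDecomposition m D ∧ G ≤ decompositionStabilizer D) ∨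
    (∃ (r : ℕ) (K : Subalgebra F (Matrix ι ι F)), r.Prime ∧ IsFieldSubalgebra r K ∧ G ≤ subalgebraNormalizer K) ∨
    (∃ (d : ℕ) (φ : Matrix (Fin d) (Fin d) F →ₐ[F] Matrix ι ι F),
      0 < d ∧ Function.Injective φ ∧ φ.range = alg N) := by
  have hc : ∀ x ∈ algCenter N, ∀ y ∈ algCenter N, x * y = y * x := fun x hx y hy => commute_of_alg hx.1 hy.2
  rcases field_or_decomposition hG hc (cj_mem_algCenter hN) with h | h
  · exact Or.inl h
  by_cases hs : IsScalar (algCenter N)
  · exact Or.inr (Or.inr (alg_matrix (isSemisimple_alg hG hN) hs))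
  · exact Or.inr (Or.inl (exists_fieldNormalizer hc h (cj_mem_algCenter hN) hs))

end CfsgLib.Aschbacher
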