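import Cfsg.Agent.Lib.Aschbacher.Basic
import Cfsg.Agent.Lib.Geometry.SymplecticBasis

/-!
# Aschbacher's theorem: groups normalising an absolutely irreducible group of isometries are similitudes
-/

set_option autoImplicit false

namespace CfsgLib.Aschbacher

open Cfsg Cfsg.Geo
open scoped Matrix MatrixGroups

variable {ι : Type} [Fintype ι] [DecidableEq ι] {F : Type*} [Field F]

theorem formOfGram_eq (σ : F → F) (J : Matrix ι ι F) (u v : ι → F) :
    formOfGram σ J u v = u ⬝ᵥ J *ᵥ (fun i => σ (v i)) := by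
  simp [formOfGram, dotProduct, Matrix.mulVec, Finset.mul_sum, mul_assoc]

theorem map_mulVec' (σ : F ≃+* F) (g : Matrix ι ι F) (v : ι → F) :
    (fun i => σ ((g *ᵥ v) i)) = g.map σ *ᵥ fun i => σ (v i) := by
  funext i
  simp [Matrix.mulVec, dotProduct, map_sum]

theorem formOfGram_mulVec (σ : F ≃+* F) (J g : Matrix ι ι F) (u v : ι → F) :
    formOfGram σ J (g *ᵥ u) (g *ᵥ v) = formOfGram σ (gᵀ * J * g.map σ) u v := by
  rw [formOfGram_eq, formOfGram_eq, map_mulVec', ← Matrix.mulVec_mulVec, ← Matrix.mulVec_mulVec,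
    Matrix.dotProduct_mulVec u gᵀ, Matrix.vecMul_transpose]

theorem map_mul_equiv (σ : F ≃+* F) (a b : Matrix ι ι F) : (a * b).map σ = a.map σ * b.map σ :=
  Matrix.map_mul (f := (σ : F →+* F))

theorem formOfGram_single (σ : F ≃+* F) (J : Matrix ι ι F) (i j : ι) :
    formOfGram σ J (Pi.single i 1) (Pi.single j 1) = J i j := by
  rw [formOfGram, Finset.sum_eq_single i, Finset.sum_eq_single j]
  · simp
  · intro b _ hb; simp [hb]
  · simp
  · intro a _ ha; simp [ha]
  · simp

theorem gram_inj (σ : F ≃+* F) {J J' : Matrix ι ι F}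
    (h : ∀ u v, formOfGram σ J u v = formOfGram σ J' u v) : J = J' :=
  Matrix.ext fun i j => by rw [← formOfGram_single σ J, h, formOfGram_single]

theorem formOfGram_smul (σ : F → F) (J : Matrix ι ι F) (c : F) (u v : ι → F) :
    formOfGram σ (c • J) u v = c * formOfGram σ J u v := by
  simp [formOfGram, Finset.mul_sum, mul_assoc, mul_left_comm]

theorem formOfGram_add_left (σ : F → F) (J : Matrix ι ι F) (x y v : ι → F) :
    formOfGram σ J (x + y) v = formOfGram σ J x v + formOfGram σ J y v := by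
  simp [formOfGram, add_mul, Finset.sum_add_distrib]

theorem formOfGram_smul_left (σ : F → F) (J : Matrix ι ι F) (c : F) (x v : ι → F) :
    formOfGram σ J (c • x) v = c * formOfGram σ J x v := by
  simp [formOfGram, Finset.mul_sum, mul_assoc]

theorem formOfGram_nondeg (σ : F ≃+* F) {J : Matrix ι ι F} (hJ : IsUnit J) :
    IsNondegenerateForm (formOfGram σ J) := by
  classical
  obtain ⟨U, rfl⟩ := hJ
  intro v hv
  obtain ⟨i, hi⟩ := Function.ne_iff.1 hv
  have h1 : (fun j => σ (v j)) i ≠ 0 := fun h => hi (σ.injective (h.trans (map_zero σ).symm))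
  refine ⟨⟨fun j => ((↑U⁻¹ : Matrix ι ι F)) i j, ?_⟩, ?_⟩
  · rw [formOfGram_eq, Matrix.dotProduct_mulVec]
    have : (fun j => (↑U⁻¹ : Matrix ι ι F) i j) ᵥ* (U : Matrix ι ι F) = Pi.single i 1 := by
      funext k
      show ((↑U⁻¹ : Matrix ι ι F) * (U : Matrix ι ι F)) i k = _
      rw [Units.inv_mul, Matrix.one_apply, Pi.single_apply]
      simp [eq_comm]
    rw [this, single_dotProduct, one_mul]
    exact h1
  · refine ⟨fun j => σ.symm ((↑U⁻¹ : Matrix ι ι F) j i), ?_⟩
    rw [formOfGram_eq]
    have : (U : Matrix ι ι F) *ᵥ (fun j => σ (σ.symm ((↑U⁻¹ : Matrix ι ι F) j i))) = Pi.single i 1 := by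
      funext k
      simp only [RingEquiv.apply_symm_apply]
      show ((U : Matrix ι ι F) * (↑U⁻¹ : Matrix ι ι F)) k i = _
      rw [Units.mul_inv, Matrix.one_apply, Pi.single_apply]
    rw [this, dotProduct_single, mul_one]
    exact hi

theorem isUnit_of_nondeg (σ : F ≃+* F) {J : Matrix ι ι F} (h : IsNondegenerateForm (formOfGram σ J)) :
    IsUnit J := by
  rw [Matrix.isUnit_iff_isUnit_det, isUnit_iff_ne_zero]
  intro hd
  obtain ⟨v, hv, hv'⟩ := Matrix.exists_mulVec_eq_zero_iff.2 hd
  have hw : (fun i => σ.symm (v i)) ≠ 0 := fun e => hv (funext fun i => by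
    simpa using congrArg σ (congrFun e i))
  obtain ⟨x, hx⟩ := (h _ hw).1
  apply hx
  rw [formOfGram_eq]
  simp [hv']

/-- An absolutely irreducible group fixes at most one form up to scalars. -/
theorem unique_gram {P : Subgroup (GL ι F)} (hP : ActsAbsolutelyIrreducibly (matrixSet P)) (σ : F ≃+* F)
    {J J' : Matrix ι ι F} (hJ : IsUnit J)
    (hfix : ∀ x ∈ P, (x : Matrix ι ι F)ᵀ * J * (x : Matrix ι ι F).map σ = J)
    (hfix' : ∀ x ∈ P, (x : Matrix ι ι F)ᵀ * J' * (x : Matrix ι ι F).map σ = J') :
    ∃ c : F, J' = c • J := by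
  classical
  obtain ⟨U, rfl⟩ := hJ
  set T := (↑U⁻¹ : Matrix ι ι F) * J' with hT
  have hJT : (U : Matrix ι ι F) * T = J' := by rw [hT, ← mul_assoc, Units.mul_inv, one_mul]
  have hcomm : ∀ x ∈ P, T * (x : Matrix ι ι F).map σ = (x : Matrix ι ι F).map σ * T := fun x hx => by
    let X := Units.map (RingHom.mapMatrix (σ : F →+* F) : Matrix ι ι F →+* Matrix ι ι F).toMonoidHom x
    have h1 : (x : Matrix ι ι F)ᵀ * (U : Matrix ι ι F) = (U : Matrix ι ι F) * (↑X⁻¹ : Matrix ι ι F) := by
      conv_rhs => rw [← hfix x hx]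
      rw [mul_assoc (_ * _), show (x : Matrix ι ι F).map σ = (X : Matrix ι ι F) from rfl, Units.mul_inv, mul_one]
    have h2 := hfix' x hx
    rw [← hJT, ← mul_assoc (x : Matrix ι ι F)ᵀ, h1, show (x : Matrix ι ι F).map σ = (X : Matrix ι ι F) from rfl,
      mul_assoc, mul_assoc] at h2
    have h3 := congrArg ((X : Matrix ι ι F) * ·) ((Units.mul_right_inj U).1 h2)
    show T * (X : Matrix ι ι F) = (X : Matrix ι ι F) * T
    simpa [← mul_assoc] using h3
  obtain ⟨c, hc⟩ := eq_smul_one_of_commutes hP (x := T.map σ.symm) fun x hx => by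
    have := congrArg (fun M : Matrix ι ι F => M.map σ.symm) (hcomm x hx)
    simpa [map_mul_equiv, Matrix.map_map, Function.comp_def] using this
  have hTc : T = σ c • (1 : Matrix ι ι F) := by
    have := congrArg (fun M : Matrix ι ι F => M.map σ) hc
    simpa [Matrix.map_map, Function.comp_def, Matrix.map_smul', Matrix.map_one] using this
  exact ⟨σ c, by rw [← hJT, hTc, Matrix.mul_smul, mul_one]⟩

/-- A group normalising an absolutely irreducible group of isometries consists of similitudes. -/
theorem le_similarity_gram {G P : Subgroup (GL ι F)} (hP : ActsAbsolutelyIrreducibly (matrixSet P))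
    (hG : ∀ g ∈ G, ∀ x ∈ P, g * x * g⁻¹ ∈ P) (σ : F ≃+* F) {J : Matrix ι ι F} (hJ : IsUnit J)
    (hfix : ∀ x ∈ P, (x : Matrix ι ι F)ᵀ * J * (x : Matrix ι ι F).map σ = J) :
    G ≤ similarityGroup (formOfGram σ J) := by
  classical
  intro h hh
  obtain ⟨U, rfl⟩ := hJ
  rcases isEmpty_or_nonempty ι with hι | hι
  · exact ⟨1, fun u v => by simp [formOfGram]⟩
  set J' := (h : Matrix ι ι F)ᵀ * (U : Matrix ι ι F) * (h : Matrix ι ι F).map σ with hJ'
  have hinv : ∀ x ∈ P, (x : Matrix ι ι F)ᵀ * J' * (x : Matrix ι ι F).map σ = J' := fun x hx => by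
    have h1 := hfix _ (hG h hh x hx)
    have h2 : ((h * x * h⁻¹ : GL ι F) : Matrix ι ι F) * (h : Matrix ι ι F) = (h : Matrix ι ι F) * x := by
      simp [mul_assoc]
    calc (x : Matrix ι ι F)ᵀ * J' * (x : Matrix ι ι F).map σ
        = ((h : Matrix ι ι F) * (x : Matrix ι ι F))ᵀ * (U : Matrix ι ι F) * ((h : Matrix ι ι F) * (x : Matrix ι ι F)).map σ := by
          rw [hJ', Matrix.transpose_mul, map_mul_equiv]; simp [mul_assoc]
      _ = (h : Matrix ι ι F)ᵀ * (((h * x * h⁻¹ : GL ι F) : Matrix ι ι F)ᵀ * (U : Matrix ι ι F) *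
            ((h * x * h⁻¹ : GL ι F) : Matrix ι ι F).map σ) * (h : Matrix ι ι F).map σ := by
          rw [← h2, Matrix.transpose_mul, map_mul_equiv]; simp [mul_assoc]
      _ = J' := by rw [h1]
  obtain ⟨c, hJc⟩ := unique_gram hP σ U.isUnit hfix hinv
  have hc0 : c ≠ 0 := fun e => by
    rw [e, zero_smul] at hJc
    have hu : IsUnit J' := (((Matrix.isUnit_transpose _).2 h.isUnit).mul U.isUnit).mul
      ((Units.isUnit h).map (RingHom.mapMatrix (σ : F →+* F)))
    exact hu.ne_zero hJc
  exact ⟨Units.mk0 _ hc0, fun u v => by rw [formOfGram_mulVec, ← hJ', hJc, formOfGram_smul]; rfl⟩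

theorem bilin_eq_gram {f : (ι → F) → (ι → F) → F} (σ : F ≃+* F)
    (hal : ∀ x y v, f (x + y) v = f x v + f y v) (hsl : ∀ (c : F) (x v : ι → F), f (c • x) v = c * f x v)
    (har : ∀ v x y, f v (x + y) = f v x + f v y) (hsr : ∀ (c : F) (v x : ι → F), f v (c • x) = σ c * f v x) :
    f = formOfGram σ (gramMatrix f) := by
  funext u v
  let L : (ι → F) → (ι → F) →ₗ[F] F := fun v =>
    { toFun := fun x => f x v, map_add' := fun x y => hal x y v, map_smul' := fun c x => hsl c x v }
  let R : (ι → F) → (ι → F) →+ F := fun x => AddMonoidHom.mk' (f x) (har x)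
  conv_lhs => rw [pi_eq_sum_univ' u]
  show L v (∑ i, u i • Pi.single i 1) = _
  rw [map_sum]
  refine Finset.sum_congr rfl fun a _ => ?_
  rw [map_smul, smul_eq_mul]
  show u a * R (Pi.single a 1) v = _
  conv_lhs => rw [pi_eq_sum_univ' v, map_sum, Finset.mul_sum]
  refine Finset.sum_congr rfl fun b _ => ?_
  show u a * f (Pi.single a 1) (v b • Pi.single b 1) = _
  rw [hsr, gramMatrix]
  ring

/-- The form version of `le_similarity_gram`. -/
theorem le_similarity_form {G P : Subgroup (GL ι F)} (hP : ActsAbsolutelyIrreducibly (matrixSet P))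
    (hG : ∀ g ∈ G, ∀ x ∈ P, g * x * g⁻¹ ∈ P) {f : (ι → F) → (ι → F) → F} (σ : F ≃+* F)
    (hf : f = formOfGram σ (gramMatrix f)) (hn : IsNondegenerateForm f) (hfix : FixesForm (matrixSet P) f) :
    G ≤ similarityGroup f := by
  have hU : IsUnit (gramMatrix f) := isUnit_of_nondeg σ (hf ▸ hn)
  have := le_similarity_gram hP hG σ hU fun x hx => gram_inj σ fun u v => by
    rw [← formOfGram_mulVec, ← hf]
    exact hfix _ (val_mem_matrixSet hx) u v
  rwa [← hf] at this

theorem bilinear_eq_gram {f : (ι → F) → (ι → F) → F} (h : IsBilinearForm f) :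
    f = formOfGram (RingEquiv.refl F) (gramMatrix f) :=
  bilin_eq_gram _ h.add_left h.smul_left h.add_right h.smul_right

theorem unitary_eq_gram {σ : F ≃+* F} {f : (ι → F) → (ι → F) → F} (h : IsUnitaryForm σ f) :
    f = formOfGram σ (gramMatrix f) :=
  bilin_eq_gram σ h.add_left h.smul_left
    (fun v x y => by rw [h.herm, h.add_left, map_add, ← h.herm, ← h.herm])
    (fun c v x => by rw [h.herm, h.smul_left, map_mul, ← h.herm])

theorem formOfGram_bilinear (J : Matrix ι ι F) : IsBilinearForm (formOfGram (RingEquiv.refl F) J) where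
  add_left := formOfGram_add_left _ J
  smul_left := formOfGram_smul_left _ J
  add_right v x y := by simp [formOfGram, mul_add, Finset.sum_add_distrib]
  smul_right c v x := by simp [formOfGram, Finset.mul_sum, mul_comm, mul_left_comm]

theorem formOfGram_transpose (σ : F ≃+* F) (hσ : ∀ a, σ (σ a) = a) (J : Matrix ι ι F) (u v : ι → F) :
    σ (formOfGram σ J v u) = formOfGram σ ((J.map σ)ᵀ) u v := by
  simp only [formOfGram, map_sum, map_mul, hσ]
  rw [Finset.sum_comm]
  simp [mul_comm, mul_left_comm]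

/-- A hermitian Gram matrix gives a unitary form. -/
theorem unitary_of_gram {σ : F ≃+* F} (hne : σ ≠ RingEquiv.refl F) (hσ : ∀ a, σ (σ a) = a) {J : Matrix ι ι F}
    (hJ : IsUnit J) (hh : (J.map σ)ᵀ = J) : IsUnitaryForm σ (formOfGram σ J) where
  ne_refl := hne
  involutive := hσ
  add_left := formOfGram_add_left _ J
  smul_left := formOfGram_smul_left _ J
  herm v w := by rw [formOfGram_transpose σ hσ, hh]
  nondegenerate := formOfGram_nondeg σ hJ

/-- A symplectic form lives in even dimension. -/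
theorem even_of_symplectic {f : (ι → F) → (ι → F) → F} (h : IsSymplecticForm f) : Even (Fintype.card ι) := by
  let B : LinearMap.BilinForm F (ι → F) := LinearMap.mk₂ F f h.bilinear.add_left
    (fun c x v => h.bilinear.smul_left c x v) h.bilinear.add_right (fun c v x => h.bilinear.smul_right c v x)
  obtain ⟨m, k, b, -, -, -, hk⟩ := CfsgLib.Geometry.exists_sympBasis_aux _ rfl B fun v => h.alternating v
  rcases Nat.eq_zero_or_pos k with rfl | hk'
  · have := (Module.finrank_eq_card_basis b).symm
    rw [Module.finrank_pi] at this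
    exact ⟨m, by simp at this; omega⟩
  · obtain ⟨⟨x, hx⟩, y, hy⟩ := h.nondegenerate (b (Sum.inr ⟨0, hk'⟩)) (b.ne_zero _)
    exact absurd (hk _ y) hy

/-- An alternating Gram matrix gives a symplectic form. -/
theorem symplectic_of_gram {J : Matrix ι ι F} (hJ : IsUnit J) (hs : Jᵀ = -J) (hd : ∀ i, J i i = 0) :
    IsSymplecticForm (formOfGram (RingEquiv.refl F) J) where
  bilinear := formOfGram_bilinear J
  skew v w := by
    have : formOfGram (RingEquiv.refl F) J v w = formOfGram (RingEquiv.refl F) Jᵀ w v := by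
      simp only [formOfGram]
      rw [Finset.sum_comm]
      simp [mul_comm, mul_left_comm]
    rw [this, hs, show -J = (-1 : F) • J by simp, formOfGram_smul, neg_one_mul]
  alternating v := by
    classical
    simp only [formOfGram, RingEquiv.refl_apply]
    rw [← Finset.sum_product']
    refine Finset.sum_involution (fun p _ => (p.2, p.1)) ?_ ?_ (fun _ _ => Finset.mem_product.2 ⟨by simp, by simp⟩)
      (fun _ _ => rfl)
    · intro p _
      have := congrFun (congrFun hs p.1) p.2
      simp only [Matrix.transpose_apply, Matrix.neg_apply] at this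
      rw [this]; ring
    · intro p _ hp he
      apply hp
      have h12 : p.1 = p.2 := (congrArg Prod.fst he).symm
      rw [h12, hd]; ring
  nondegenerate := formOfGram_nondeg _ hJ

/-- A symmetric Gram matrix gives a quadratic form in odd characteristic. -/
theorem quad_of_gram (h2 : (2 : F) ≠ 0) {J : Matrix ι ι F} (hJ : IsUnit J) (hs : Jᵀ = J) :
    IsNondegenerateQuadraticForm (fun v => 2⁻¹ * formOfGram (RingEquiv.refl F) J v v) ∧
      similarityGroup (formOfGram (RingEquiv.refl F) J) ≤
        quadSimilarityGroup (fun v => 2⁻¹ * formOfGram (RingEquiv.refl F) J v v) := by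
  have hb := formOfGram_bilinear J
  have hsym : ∀ v w, formOfGram (RingEquiv.refl F) J v w = formOfGram (RingEquiv.refl F) J w v := fun v w => by
    conv_lhs => rw [← hs]
    simp only [formOfGram]
    rw [Finset.sum_comm]
    simp [mul_comm, mul_left_comm]
  have hpol : QuadraticMap.polar (fun v => 2⁻¹ * formOfGram (RingEquiv.refl F) J v v) =
      formOfGram (RingEquiv.refl F) J := by
    funext v w
    simp only [QuadraticMap.polar, hb.add_left, hb.add_right]
    rw [hsym w v]
    field_simp
    ring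
  refine ⟨⟨fun c v => ?_, by rw [hpol]; exact hb, by rw [hpol]; exact formOfGram_nondeg _ hJ⟩, ?_⟩
  · simp only [hb.smul_left, hb.smul_right]; ring
  · rintro g ⟨c, hc⟩
    exact ⟨c, fun v => by show 2⁻¹ * _ = _; rw [hc]; ring⟩

/-- The polar form of a non-degenerate quadratic form in characteristic two is symplectic. -/
theorem polar_symplectic (h2 : (2 : F) = 0) {Q : (ι → F) → F} (h : IsNondegenerateQuadraticForm Q) :
    IsSymplecticForm (QuadraticMap.polar Q) where
  bilinear := h.polar_bilinear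
  skew v w := by
    have hn : ∀ a : F, -a = a := fun a => by
      rw [neg_eq_iff_add_eq_zero, ← two_mul, h2, zero_mul]
    rw [hn, QuadraticMap.polar_comm]
  alternating v := by
    rw [QuadraticMap.polar, ← two_smul F v, h.smul]
    linear_combination (Q v) * h2
  nondegenerate := h.nondegenerate

end CfsgLib.Aschbacher
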