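import Cfsg.Agent.Lib.Aschbacher.Wreath

/-!
# Aschbacher's theorem for the general linear group

Every subgroup of `GL_n(q)`, `n ≥ 3`, lies in a member of the eight geometric classes or is, modulo scalars,
almost simple with absolutely irreducible socle as in the residual class. Standard proof (Aschbacher 1984,
Kleidman–Liebeck): Schur, Clifford, Skolem–Noether, and a minimal normal subgroup modulo scalars.
-/

set_option autoImplicit false

namespace CfsgLib.Aschbacher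

open Cfsg Cfsg.Geo
open scoped Matrix MatrixGroups commutatorElement

universe u
variable {F : Type u} [Field F] [Fintype F] {n : ℕ}

/-- The residual alternative: the data for `InLinearResidualClass`. -/
def Residual (G : Subgroup (GL (Fin n) F)) : Prop :=
  ∃ P : Subgroup (GL (Fin n) F), P ≤ ⁅G, G⁆ ∧ IsResidualCore G P ∧
    (¬ ∃ Q : (Fin n → F) → F, IsNondegenerateQuadraticForm Q ∧ FixesQuadForm (matrixSet P) Q) ∧
    (¬ ∃ f : (Fin n → F) → (Fin n → F) → F, IsSymplecticForm f ∧ FixesForm (matrixSet P) f) ∧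
    (¬ ∃ (σ : F ≃+* F) (f : (Fin n → F) → (Fin n → F) → F), IsUnitaryForm σ f ∧ FixesForm (matrixSet P) f)

theorem comm_sc (a b : GL (Fin n) F) (c d : Fˣ) : ⁅a * sc c, b * sc d⁆ = ⁅a, b⁆ := by
  have key : ∀ (a b : GL (Fin n) F) (c : Fˣ), ⁅a * sc c, b⁆ = ⁅a, b⁆ := fun a b c => by
    rw [commutatorElement_def, commutatorElement_def, mul_inv_rev, mul_assoc a (sc c) b, sc_comm c b]
    group
  rw [key, ← commutatorElement_inv, key, commutatorElement_inv]

theorem commutator_le_scalars {A B : Subgroup (GL (Fin n) F)}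
    (h : ∀ a ∈ A, ∀ b ∈ B, a * b * a⁻¹ * b⁻¹ ∈ scalars (Fin n) F) : ⁅A, B⁆ ≤ scalars (Fin n) F :=
  Subgroup.commutator_le.2 fun a ha b hb => by
    rw [commutatorElement_def]; exact h a ha b hb

theorem comm_scalars_eq_bot {A : Subgroup (GL (Fin n) F)} (h : A ≤ scalars (Fin n) F) (B : Subgroup (GL (Fin n) F)) :
    ⁅A, B⁆ = ⊥ := by
  refine eq_bot_iff.2 (Subgroup.commutator_le.2 fun a ha b _ => ?_)
  obtain ⟨c, rfl⟩ := exists_sc (h ha)
  rw [Subgroup.mem_bot, commutatorElement_eq_one_iff_mul_comm]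
  exact sc_comm c b

/-- Commuting with a subgroup and hence scalar. -/
theorem le_scalars_of_comm (hn : 0 < n) {N C : Subgroup (GL (Fin n) F)}
    (hN : ActsAbsolutelyIrreducibly (matrixSet N)) (h : ⁅C, N⁆ = ⊥) : C ≤ scalars (Fin n) F := fun c hc => by
  haveI : Nonempty (Fin n) := ⟨⟨0, hn⟩⟩
  obtain ⟨a, ha⟩ := eq_smul_one_of_commutes hN (x := (c : Matrix (Fin n) (Fin n) F)) fun g hg => by
    have := Subgroup.commutator_mem_commutator hc hg
    rw [h, Subgroup.mem_bot, commutatorElement_eq_one_iff_mul_comm] at this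
    exact congrArg Units.val this
  exact mem_scalars_of_eq_smul ha

theorem similitude_quad {G P : Subgroup (GL (Fin n) F)} (hn : 3 ≤ n)
    (hP : ActsAbsolutelyIrreducibly (matrixSet P)) (hG : ∀ g ∈ G, ∀ x ∈ P, g * x * g⁻¹ ∈ P)
    {Q : (Fin n → F) → F} (hQ : IsNondegenerateQuadraticForm Q) (hfix : FixesQuadForm (matrixSet P) Q) :
    InClassOver G := by
  have hpol : FixesForm (matrixSet P) (QuadraticMap.polar Q) := fun s hs u v => by
    simp only [QuadraticMap.polar, ← Matrix.mulVec_add, hfix s hs]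
  have hle := le_similarity_form hP hG (RingEquiv.refl F) (bilinear_eq_gram hQ.polar_bilinear) hQ.nondegenerate hpol
  by_cases h2 : (2 : F) = 0
  · have hs := polar_symplectic h2 hQ
    refine ⟨_, ?_, hle⟩
    iterate 9 right
    have hev := even_of_symplectic hs
    rw [Fintype.card_fin] at hev
    exact Or.inl ⟨_, hs, hev, by obtain ⟨k, hk⟩ := hev; omega, rfl⟩
  · refine ⟨quadSimilarityGroup Q, ?_, fun g hg => ?_⟩
    · iterate 11 right
      refine ⟨Q, hQ, ?_, hn, rfl⟩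
      obtain ⟨p, hp⟩ := CharP.exists F
      haveI : Fact p.Prime := ⟨CharP.char_is_prime F p⟩
      obtain ⟨e', -, he⟩ := FiniteField.card F p
      rw [he]
      refine Odd.pow ((CharP.char_is_prime F p).eq_two_or_odd'.resolve_left fun e2 => ?_)
      subst e2
      exact h2 (CharP.cast_eq_zero F 2)
    obtain ⟨c, hc⟩ := hle hg
    refine ⟨c, fun v => ?_⟩
    have h1 := hc v v
    have hd : ∀ w, QuadraticMap.polar Q w w = 2 * Q w := fun w => by
      rw [QuadraticMap.polar, ← two_smul F w, hQ.smul]; ring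
    rw [hd, hd] at h1
    exact mul_left_cancel₀ h2 (by linear_combination h1)

set_option maxHeartbeats 600000 in
/-- The case of a single simple factor. -/
theorem simple_case (hn : 3 ≤ n) {G N : Subgroup (GL (Fin n) F)}
    (hall : ∀ M : Subgroup (GL (Fin n) F), scalars (Fin n) F ≤ M → M ≤ G →
      (∀ g ∈ G, ∀ a ∈ M, g * a * g⁻¹ ∈ M) → M ≠ scalars (Fin n) F → ActsAbsolutelyIrreducibly (matrixSet M))
    (hscG : scalars (Fin n) F ≤ G) (hle : N ≤ G) (hnorm : ∀ g ∈ G, ∀ a ∈ N, g * a * g⁻¹ ∈ N)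
    (hNZ : ¬ ⁅N, N⁆ ≤ scalars (Fin n) F) (habsN : ActsAbsolutelyIrreducibly (matrixSet N))
    (hgen : N = ⁅N, N⁆ ⊔ scalars (Fin n) F)
    (hsimple : ∀ M : Subgroup (GL (Fin n) F), scalars (Fin n) F ≤ M → M ≤ N →
      (∀ g ∈ N, ∀ a ∈ M, g * a * g⁻¹ ∈ M) → M = scalars (Fin n) F ∨ M = N) :
    InClassOver G ∨ Residual G := by
  classical
  haveI : Nonempty (Fin n) := ⟨⟨0, by omega⟩⟩
  set P := ⁅N, N⁆ with hPdef
  have hPN : P ≤ N := hgen.symm ▸ le_sup_left
  have hdec : ∀ x ∈ N, ∃ p ∈ P, ∃ c : Fˣ, x = p * sc c := fun x hx => by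
    rw [hgen] at hx
    obtain ⟨p, hp, s, hs, rfl⟩ := Subgroup.mem_sup_of_normal_right.1 hx
    obtain ⟨c, rfl⟩ := exists_sc hs
    exact ⟨p, hp, c, rfl⟩
  have habs : ActsAbsolutelyIrreducibly (matrixSet P) := absIrred_of_alg_top (eq_top_iff.2 (by
    rw [← alg_eq_top habsN, alg_le_iff]
    intro x hx
    obtain ⟨p, hp, c, rfl⟩ := hdec x hx
    rw [← sc_comm, sc_mul_val]
    exact Subalgebra.smul_mem _ (val_mem_alg hp) _))
  have hnormP : ∀ g ∈ G, ∀ x ∈ P, g * x * g⁻¹ ∈ P := fun g hg x hx => by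
    have h1 : P.map (MulAut.conj g).toMonoidHom ≤ P := by
      rw [hPdef, Subgroup.map_commutator]
      have h2 : N.map (MulAut.conj g).toMonoidHom ≤ N := by rintro _ ⟨a, ha, rfl⟩; exact hnorm g hg a ha
      exact Subgroup.commutator_mono h2 h2
    exact h1 ⟨x, hx, rfl⟩
  have hperf : ⁅P, P⁆ = P := by
    refine le_antisymm (Subgroup.commutator_mono hPN hPN) (Subgroup.commutator_le.2 fun a ha b hb => ?_)
    obtain ⟨p, hp, c, rfl⟩ := hdec a ha
    obtain ⟨q, hq, d, rfl⟩ := hdec b hb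
    rw [comm_sc]
    exact Subgroup.commutator_mem_commutator hp hq
  haveI : Nontrivial (P ⧸ (scalars (Fin n) F).subgroupOf P) :=
    QuotientGroup.nontrivial_iff.2 (by rw [Ne, Subgroup.subgroupOf_eq_top]; exact hNZ)
  have hsimp : IsSimpleGroup (P ⧸ (scalars (Fin n) F).subgroupOf P) := by
    refine ⟨fun D hD => ?_⟩
    set D' := (D.comap (QuotientGroup.mk' _)).map P.subtype with hD'
    have hD'P : D' ≤ P := Subgroup.map_subtype_le _
    rcases hsimple (D' ⊔ scalars (Fin n) F) le_sup_right (sup_le (hD'P.trans hPN) (hgen.symm ▸ le_sup_right))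
      (fun g hg a ha => by
        obtain ⟨p, hp, c, rfl⟩ := hdec g hg
        have h1 : (D' ⊔ scalars (Fin n) F).map (MulAut.conj (p * sc c)).toMonoidHom ≤ D' ⊔ scalars (Fin n) F := by
          rw [Subgroup.map_sup]
          refine sup_le_sup ?_ ?_
          · rintro _ ⟨_, ⟨x, hx, rfl⟩, rfl⟩
            refine ⟨⟨p, hp⟩ * x * ⟨p, hp⟩⁻¹, (Subgroup.Normal.comap hD _).conj_mem x hx _, ?_⟩
            show p * (x : GL (Fin n) F) * p⁻¹ = p * sc c * (x : GL (Fin n) F) * (p * sc c)⁻¹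
            rw [mul_inv_rev, mul_assoc p (sc c), sc_comm c]
            group
          · rintro _ ⟨x, hx, rfl⟩
            exact (scalars_normal (ι := Fin n) (F := F)).conj_mem x hx _
        exact h1 ⟨a, ha, rfl⟩) with h | h
    · left
      refine eq_bot_iff.2 fun q hq => ?_
      obtain ⟨x, rfl⟩ := QuotientGroup.mk'_surjective _ q
      rw [Subgroup.mem_bot, QuotientGroup.mk'_apply, QuotientGroup.eq_one_iff]
      exact h.le (Subgroup.mem_sup_left ⟨x, hq, rfl⟩)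
    · right
      refine eq_top_iff.2 fun q _ => ?_
      obtain ⟨x, rfl⟩ := QuotientGroup.mk'_surjective _ q
      have hx : (x : GL (Fin n) F) ∈ D' := by
        have h1 : P ≤ D' := by
          refine Subgroup.commutator_le.2 fun a ha b hb => ?_
          rw [← h] at ha hb
          obtain ⟨p, hp, s, hs, rfl⟩ := Subgroup.mem_sup_of_normal_right.1 ha
          obtain ⟨c, rfl⟩ := exists_sc hs
          obtain ⟨p', hp', s', hs', rfl⟩ := Subgroup.mem_sup_of_normal_right.1 hb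
          obtain ⟨c', rfl⟩ := exists_sc hs'
          rw [comm_sc, commutatorElement_def]
          exact mul_mem (mul_mem (mul_mem hp hp') (inv_mem hp)) (inv_mem hp')
        exact h1 x.2
      obtain ⟨y, hy, e⟩ := hx
      exact Subtype.ext e ▸ hy
  have hnab : ¬ IsMulCommutative (P ⧸ (scalars (Fin n) F).subgroupOf P) := fun hc => hNZ (by
    show P ≤ _
    rw [← hperf, Subgroup.commutator_le]
    intro a ha b hb
    have h1 := hc.is_comm.comm (QuotientGroup.mk ⟨a, ha⟩) (QuotientGroup.mk ⟨b, hb⟩)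
    rw [← QuotientGroup.mk_mul, ← QuotientGroup.mk_mul] at h1
    have h2 := QuotientGroup.eq.1 h1.symm
    rw [Subgroup.mem_subgroupOf] at h2
    have h3 : (b * a)⁻¹ * (a * b) ∈ scalars (Fin n) F := h2
    rw [show ⁅a, b⁆ = (b * a) * ((b * a)⁻¹ * (a * b)) * (b * a)⁻¹ by rw [commutatorElement_def]; group]
    exact (scalars_normal (ι := Fin n) (F := F)).conj_mem _ h3 _)
  by_cases hq : ∃ Q : (Fin n → F) → F, IsNondegenerateQuadraticForm Q ∧ FixesQuadForm (matrixSet P) Q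
  · obtain ⟨Q, hQ, hfix⟩ := hq
    exact Or.inl (similitude_quad hn habs hnormP hQ hfix)
  by_cases hsy : ∃ f : (Fin n → F) → (Fin n → F) → F, IsSymplecticForm f ∧ FixesForm (matrixSet P) f
  · obtain ⟨f, hf, hfix⟩ := hsy
    refine Or.inl ⟨similarityGroup f, ?_, le_similarity_form habs hnormP (RingEquiv.refl F)
      (bilinear_eq_gram hf.bilinear) hf.nondegenerate hfix⟩
    iterate 9 right
    have hev := even_of_symplectic hf
    rw [Fintype.card_fin] at hev
    exact Or.inl ⟨_, hf, hev, by obtain ⟨k, hk⟩ := hev; omega, rfl⟩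
  by_cases hu : ∃ (σ : F ≃+* F) (f : (Fin n → F) → (Fin n → F) → F), IsUnitaryForm σ f ∧ FixesForm (matrixSet P) f
  · obtain ⟨σ, f, hf, hfix⟩ := hu
    refine Or.inl ⟨similarityGroup f, ?_, le_similarity_form habs hnormP σ
      (unitary_eq_gram hf) hf.nondegenerate hfix⟩
    iterate 10 right
    exact Or.inl ⟨σ, f, hf, hn, rfl⟩
  by_cases hsub : ∃ F₀ : Subfield F, F₀ ≠ ⊤ ∧ RealisableOver F₀ (matrixSet P)
  · obtain ⟨F₀, h0, h1⟩ := hsub
    obtain ⟨F₁, r, Q, hr, hcard, hleQ⟩ := le_subfieldSubgroup habs hnormP h0 h1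
    refine Or.inl ⟨_, ?_, hleQ⟩
    iterate 6 right
    exact Or.inl ⟨F₁, r, Q, hr, by rw [← Nat.card_eq_fintype_card]; exact hcard, rfl⟩
  refine Or.inr ⟨P, Subgroup.commutator_mono hle hle, ⟨hPN.trans hle, hnormP, hperf, hsimp, hnab, ?_, habs,
    fun F₀ h0 h1 => hsub ⟨F₀, h0, h1⟩⟩, hq, hsy, hu⟩
  -- almost simple
  intro c hc hcent
  let C : Subgroup (GL (Fin n) F) :=
    { carrier := {c | c ∈ G ∧ ∀ x ∈ P, c * x * c⁻¹ * x⁻¹ ∈ scalars (Fin n) F}
      one_mem' := ⟨G.one_mem, fun x _ => by simp [one_mem]⟩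
      mul_mem' := fun {a b} ha hb => ⟨G.mul_mem ha.1 hb.1, fun x hx => by
        rw [show a * b * x * (a * b)⁻¹ * x⁻¹ = a * (b * x * b⁻¹ * x⁻¹) * a⁻¹ * (a * x * a⁻¹ * x⁻¹) by group]
        exact mul_mem ((scalars_normal (ι := Fin n) (F := F)).conj_mem _ (hb.2 x hx) a) (ha.2 x hx)⟩
      inv_mem' := fun {a} ha => ⟨G.inv_mem ha.1, fun x hx => by
        rw [show a⁻¹ * x * a⁻¹⁻¹ * x⁻¹ = a⁻¹ * (a * x * a⁻¹ * x⁻¹)⁻¹ * a⁻¹⁻¹ by group]
        exact (scalars_normal (ι := Fin n) (F := F)).conj_mem _ (inv_mem (ha.2 x hx)) a⁻¹⟩ }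
  have hscC : scalars (Fin n) F ≤ C := fun s hs => ⟨hscG hs, fun x _ => by
    obtain ⟨d, rfl⟩ := exists_sc hs
    rw [sc_comm]; simp [one_mem]⟩
  by_contra hcs
  have hCne : C ≠ scalars (Fin n) F := fun e => hcs (e.le ⟨hc, hcent⟩)
  have hCn : ∀ g ∈ G, ∀ a ∈ C, g * a * g⁻¹ ∈ C := fun g hg a ha => ⟨G.mul_mem (G.mul_mem hg ha.1) (G.inv_mem hg),
    fun x hx => by
      have h1 := ha.2 _ (hnormP g⁻¹ (G.inv_mem hg) x hx)
      have h2 := (scalars_normal (ι := Fin n) (F := F)).conj_mem _ h1 g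
      simpa [mul_assoc] using h2⟩
  have hCabs := hall C hscC (fun a ha => ha.1) hCn hCne
  have h1 : ⁅⁅P, C⁆, P⁆ = ⊥ := by
    refine comm_scalars_eq_bot ?_ P
    rw [Subgroup.commutator_comm]
    exact commutator_le_scalars fun a ha x hx => ha.2 x hx
  have h2 : ⁅⁅P, P⁆, C⁆ = ⊥ := Subgroup.commutator_commutator_eq_bot_of_rotate h1
    (by rw [Subgroup.commutator_comm C P]; exact h1)
  rw [hperf] at h2
  exact hNZ (le_scalars_of_comm (by omega) hCabs h2)

set_option maxHeartbeats 800000 in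
/-- Aschbacher's theorem for a group containing the scalars. -/
theorem aschbacher_scalars (hn : 3 ≤ n) {G : Subgroup (GL (Fin n) F)} (hsc : scalars (Fin n) F ≤ G) :
    InClassOver G ∨ Residual G := by
  classical
  haveI : Nonempty (Fin n) := ⟨⟨0, by omega⟩⟩
  by_cases hirr : ActsIrreducibly (matrixSet G)
  swap
  · obtain ⟨W, h0, h1, hW⟩ := exists_subspace hirr
    exact Or.inl ⟨_, Or.inl ⟨W, h0, h1, rfl⟩, hW⟩
  by_cases hall : ∀ M : Subgroup (GL (Fin n) F), scalars (Fin n) F ≤ M → M ≤ G →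
      (∀ g ∈ G, ∀ a ∈ M, g * a * g⁻¹ ∈ M) → M ≠ scalars (Fin n) F → ActsAbsolutelyIrreducibly (matrixSet M)
  swap
  · left
    simp only [not_forall] at hall
    obtain ⟨M, hscM, hMG, hM, hMne, hnab⟩ := hall
    rcases clifford hirr hM with ⟨t, m, D, hD, hle⟩ | ⟨r, K, hr, hK, hle⟩ | ⟨d, φ, hd, hinj, hrange⟩
    · refine ⟨_, ?_, hle⟩
      iterate 3 right
      exact Or.inl ⟨t, m, D, hD, rfl⟩
    · refine ⟨_, ?_, hle⟩
      iterate 4 right
      exact Or.inl ⟨r, K, hr, hK, rfl⟩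
    · have hd2 : 2 ≤ d := by
        by_contra h
        obtain rfl : d = 1 := by omega
        refine hMne (le_antisymm (fun x hx => ?_) hscM)
        obtain ⟨a, ha⟩ : (x : Matrix (Fin n) (Fin n) F) ∈ φ.range := hrange ▸ val_mem_alg hx
        have ha1 : a = a 0 0 • (1 : Matrix (Fin 1) (Fin 1) F) := by
          ext i j; simp [Subsingleton.elim i 0, Subsingleton.elim j 0]
        change φ a = _ at ha
        rw [ha1, map_smul, map_one] at ha
        exact mem_scalars_of_eq_smul ha.symm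
      exact tensor_case hn hd2 φ hinj (fun g hg x hx => by rw [hrange] at hx ⊢; exact cj_mem_alg (hM g hg) hx)
        fun e => hnab (absIrred_of_alg_top (hrange.symm.trans e))
  by_cases hGne : G = scalars (Fin n) F
  · exfalso
    let v : Fin n → F := Pi.single ⟨0, by omega⟩ 1
    rcases irred_group hirr (Submodule.span F {v}) (fun g hg w hw => by
      obtain ⟨c, hc⟩ := (mem_scalars_iff g).1 (hGne ▸ hg)
      rw [hc, Matrix.smul_mulVec, Matrix.one_mulVec]
      exact Submodule.smul_mem _ _ hw) with h | h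
    · rw [Submodule.span_singleton_eq_bot] at h
      simpa [v] using congrFun h ⟨0, by omega⟩
    · have := finrank_span_singleton (K := F) (show v ≠ 0 from fun e => by simpa [v] using congrFun e ⟨0, by omega⟩)
      rw [h, finrank_top, Module.finrank_fin_fun] at this
      omega
  -- a minimal normal subgroup modulo scalars
  let S : Set (Subgroup (GL (Fin n) F)) :=
    {M | scalars (Fin n) F ≤ M ∧ M ≤ G ∧ (∀ g ∈ G, ∀ a ∈ M, g * a * g⁻¹ ∈ M) ∧ M ≠ scalars (Fin n) F}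
  obtain ⟨N, ⟨hN1, hN2, hN3, hN4⟩, hNmin⟩ := (Set.toFinite S).exists_minimal
    ⟨G, hsc, le_rfl, fun g hg a ha => G.mul_mem (G.mul_mem hg ha) (G.inv_mem hg), hGne⟩
  have hminN : ∀ M : Subgroup (GL (Fin n) F), scalars (Fin n) F ≤ M → M ≤ N →
      (∀ g ∈ G, ∀ a ∈ M, g * a * g⁻¹ ∈ M) → M = scalars (Fin n) F ∨ M = N := fun M h1 h2 h3 =>
    or_iff_not_imp_left.2 fun hne => le_antisymm h2 (hNmin ⟨h1, h2.trans hN2, h3, hne⟩ h2)
  have habsN := hall N hN1 hN2 hN3 hN4
  by_cases hab : ∀ x ∈ N, ∀ y ∈ N, x * y * x⁻¹ * y⁻¹ ∈ scalars (Fin n) F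
  · exact Or.inl (abelian_case hn ⟨hN1, hN2, hN3, hab, hminN, habsN, hN4⟩)
  -- a minimal subgroup normalised by `N`
  let S' : Set (Subgroup (GL (Fin n) F)) :=
    {M | scalars (Fin n) F ≤ M ∧ M ≤ N ∧ (∀ g ∈ N, ∀ a ∈ M, g * a * g⁻¹ ∈ M) ∧ M ≠ scalars (Fin n) F}
  obtain ⟨M, ⟨hM1, hM2, hM3, hM4⟩, hMmin⟩ := (Set.toFinite S').exists_minimal
    ⟨N, hN1, le_rfl, fun g hg a ha => N.mul_mem (N.mul_mem hg ha) (N.inv_mem hg), hN4⟩
  have hminM : ∀ D : Subgroup (GL (Fin n) F), scalars (Fin n) F ≤ D → D ≤ M →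
      (∀ g ∈ N, ∀ a ∈ D, g * a * g⁻¹ ∈ D) → D = scalars (Fin n) F ∨ D = M := fun D h1 h2 h3 =>
    or_iff_not_imp_left.2 fun hne => le_antisymm h2 (hMmin ⟨h1, h2.trans hM2, h3, hne⟩ h2)
  -- the conjugates
  let cf : GL (Fin n) F → GL (Fin n) F →* GL (Fin n) F := fun g => (MulAut.conj g).toMonoidHom
  have hcf : ∀ g a, cf g a = g * a * g⁻¹ := fun g a => rfl
  have hcfcf : ∀ g h (A : Subgroup (GL (Fin n) F)), (A.map (cf h)).map (cf g) = A.map (cf (g * h)) := fun g h A => by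
    rw [Subgroup.map_map]; congr 1; ext a : 1; simp [cf, mul_assoc]
  have hconjS : ∀ g ∈ G, scalars (Fin n) F ≤ M.map (cf g) ∧ M.map (cf g) ≤ N ∧
      (∀ x ∈ N, ∀ a ∈ M.map (cf g), x * a * x⁻¹ ∈ M.map (cf g)) := fun g hg => by
    refine ⟨fun s hs => ?_, ?_, ?_⟩
    · obtain ⟨c, rfl⟩ := exists_sc hs
      exact ⟨sc c, hM1 (sc_mem c), by rw [hcf, ← sc_comm]; group⟩
    · rintro _ ⟨a, ha, rfl⟩; exact hN3 g hg a (hM2 ha)
    · rintro x hx _ ⟨a, ha, rfl⟩
      refine ⟨g⁻¹ * x * g * a * (g⁻¹ * x * g)⁻¹, hM3 _ (by simpa using hN3 g⁻¹ (G.inv_mem hg) x hx) a ha, ?_⟩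
      rw [hcf, hcf]; group
  have hjoin : ∀ T : Subgroup (GL (Fin n) F), (∀ g ∈ G, M.map (cf g) ≤ T) → N ≤ T := by
    intro T hT
    let J : Subgroup (GL (Fin n) F) := ⨆ g : G, M.map (cf g)
    have hJN : J = N := by
      refine (hminN J ((hconjS 1 G.one_mem).1.trans (le_iSup (fun g : G => M.map (cf g)) ⟨1, G.one_mem⟩))
        (iSup_le fun g => (hconjS g g.2).2.1) fun g hg a ha => ?_).resolve_left fun e => hM4 (le_antisymm ?_ hM1)
      · have h1 : J.map (cf g) ≤ J := by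
          rw [Subgroup.map_iSup]
          exact iSup_le fun h => by
            rw [hcfcf]; exact le_iSup (fun g : G => M.map (cf g)) ⟨g * h, G.mul_mem hg h.2⟩
        exact h1 ⟨a, ha, rfl⟩
      · rw [← e]
        refine le_trans (fun a ha => Subgroup.mem_map.2 ⟨a, ha, by simp [cf]⟩) (le_iSup (fun g : G => M.map (cf g)) ⟨1, G.one_mem⟩)
    rw [← hJN]
    exact iSup_le fun g => hT g g.2
  have hinter : ∀ g ∈ G, ∀ h ∈ G, M.map (cf g) ≠ M.map (cf h) →
      ∀ a ∈ M.map (cf g), ∀ b ∈ M.map (cf h), a * b * a⁻¹ * b⁻¹ ∈ scalars (Fin n) F := by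
    intro g hg h hh hne a ha b hb
    obtain ⟨hg1, hg2, hg3⟩ := hconjS g hg
    obtain ⟨hh1, hh2, hh3⟩ := hconjS h hh
    have hI : M.map (cf g) ⊓ M.map (cf h) = scalars (Fin n) F := by
      have key : ∀ g ∈ G, ∀ D : Subgroup (GL (Fin n) F), scalars (Fin n) F ≤ D → D ≤ M.map (cf g) →
          (∀ x ∈ N, ∀ a ∈ D, x * a * x⁻¹ ∈ D) → D = scalars (Fin n) F ∨ D = M.map (cf g) := by
        intro g hg D hD1 hD2 hD3
        have hback : D.map (cf g⁻¹) ≤ M := by
          refine (Subgroup.map_mono hD2).trans ?_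
          rw [hcfcf, inv_mul_cancel]
          rintro _ ⟨a, ha, rfl⟩
          simpa [cf] using ha
        rcases hminM _ (fun s hs => Subgroup.mem_map.2 ⟨s, hD1 hs, by
            obtain ⟨c, rfl⟩ := exists_sc hs; rw [hcf, ← sc_comm]; group⟩) hback (by
          rintro x hx _ ⟨a, ha, rfl⟩
          refine ⟨g * x * g⁻¹ * a * (g * x * g⁻¹)⁻¹, hD3 _ (hN3 g hg x hx) a ha, ?_⟩
          rw [hcf, hcf]; group) with e | e
        · left
          refine le_antisymm (fun a ha => ?_) hD1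
          have := (scalars_normal (ι := Fin n) (F := F)).conj_mem _ (e ▸ ⟨a, ha, rfl⟩ :
            cf g⁻¹ a ∈ scalars (Fin n) F) g
          simpa [cf, mul_assoc] using this
        · right
          rw [← e, hcfcf, mul_inv_cancel]
          refine le_antisymm (fun a ha => ⟨a, ha, by simp [cf]⟩) ?_
          rintro _ ⟨a, ha, rfl⟩; simpa [cf] using ha
      rcases key g hg _ (le_inf hg1 hh1) inf_le_left (fun x hx a ha => ⟨hg3 x hx a ha.1, hh3 x hx a ha.2⟩) with e | e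
      · exact e
      rcases key h hh _ hg1 (inf_eq_left.1 e) hg3 with e' | e'
      · rw [e, e']
      · exact absurd e' hne
    rw [← hI]
    have hfirst : a * b * a⁻¹ * b⁻¹ ∈ M.map (cf g) := by
      rw [show a * b * a⁻¹ * b⁻¹ = a * (b * a⁻¹ * b⁻¹) by group]
      exact Subgroup.mul_mem _ ha (hg3 b (hh2 hb) _ (Subgroup.inv_mem _ ha))
    exact Subgroup.mem_inf.2 ⟨hfirst, Subgroup.mul_mem _ (hh3 a (hg2 ha) b hb) (Subgroup.inv_mem _ hb)⟩
  -- `M` is not commutative modulo scalars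
  have hMnab : ¬ ⁅M, M⁆ ≤ scalars (Fin n) F := fun hc => hab (by
    have hgc : ∀ g ∈ G, ∀ h ∈ G, ∀ a ∈ M.map (cf g), ∀ b ∈ M.map (cf h),
        a * b * a⁻¹ * b⁻¹ ∈ scalars (Fin n) F := by
      intro g hg h hh a ha b hb
      by_cases e : M.map (cf g) = M.map (cf h)
      · rw [← e] at hb
        obtain ⟨a, ha, rfl⟩ := ha
        obtain ⟨b, hb, rfl⟩ := hb
        rw [← map_mul, ← map_inv, ← map_mul, ← map_inv, ← map_mul]
        exact (scalars_normal (ι := Fin n) (F := F)).conj_mem _ (hc (Subgroup.commutator_mem_commutator ha hb)) g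
      · exact hinter g hg h hh e a ha b hb
    let Cen : Set (GL (Fin n) F) → Subgroup (GL (Fin n) F) := fun X =>
      { carrier := {a | ∀ b ∈ X, a * b * a⁻¹ * b⁻¹ ∈ scalars (Fin n) F}
        one_mem' := fun b _ => by simp [one_mem]
        mul_mem' := fun {a₁ a₂} h1 h2 b hb => by
          rw [show a₁ * a₂ * b * (a₁ * a₂)⁻¹ * b⁻¹ = a₁ * (a₂ * b * a₂⁻¹ * b⁻¹) * a₁⁻¹ * (a₁ * b * a₁⁻¹ * b⁻¹) by
            group]
          exact mul_mem ((scalars_normal (ι := Fin n) (F := F)).conj_mem _ (h2 b hb) a₁) (h1 b hb)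
        inv_mem' := fun {a} h1 b hb => by
          rw [show a⁻¹ * b * a⁻¹⁻¹ * b⁻¹ = a⁻¹ * (a * b * a⁻¹ * b⁻¹)⁻¹ * a⁻¹⁻¹ by group]
          exact (scalars_normal (ι := Fin n) (F := F)).conj_mem _ (inv_mem (h1 b hb)) a⁻¹ }
    have h1 : ∀ g ∈ G, ∀ b ∈ M.map (cf g), ∀ a ∈ N, a * b * a⁻¹ * b⁻¹ ∈ scalars (Fin n) F := fun g hg b hb a ha =>
      hjoin (Cen {b}) (fun h hh a ha' c hc' => by rw [Set.mem_singleton_iff.1 hc']; exact hgc h hh g hg a ha' b hb)
        ha b rfl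
    intro x hx y hy
    have h3 : y * x * y⁻¹ * x⁻¹ ∈ scalars (Fin n) F := hjoin (Cen {x}) (fun h hh a ha c hc' => by
      rw [Set.mem_singleton_iff.1 hc']
      have := inv_mem (h1 h hh a ha x hx)
      simpa [mul_assoc] using this) hy x rfl
    simpa [mul_assoc] using inv_mem h3)
  have hMgen : M = ⁅M, M⁆ ⊔ scalars (Fin n) F := by
    have hKM : ⁅M, M⁆ ≤ M := Subgroup.commutator_le.2 fun a ha b hb => by
      rw [commutatorElement_def]; exact mul_mem (mul_mem (mul_mem ha hb) (inv_mem ha)) (inv_mem hb)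
    refine ((hminM _ le_sup_right (sup_le hKM hM1) fun g hg a ha => ?_).resolve_left fun e =>
      hMnab (le_sup_left.trans e.le)).symm
    have h1 : (⁅M, M⁆ ⊔ scalars (Fin n) F).map (cf g) ≤ ⁅M, M⁆ ⊔ scalars (Fin n) F := by
      rw [Subgroup.map_sup, Subgroup.map_commutator]
      have h2 : M.map (cf g) ≤ M := by rintro _ ⟨a, ha, rfl⟩; exact hM3 g hg a ha
      exact sup_le_sup (Subgroup.commutator_mono h2 h2)
        (by rintro _ ⟨s, hs, rfl⟩; exact (scalars_normal (ι := Fin n) (F := F)).conj_mem s hs g)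
    exact h1 ⟨a, ha, rfl⟩
  by_cases hone : ∀ g ∈ G, M.map (cf g) = M
  · have hMN : M = N := le_antisymm hM2 (hjoin M fun g hg => (hone g hg).le)
    subst hMN
    exact simple_case hn hall hsc hN2 hN3 hMnab habsN hMgen hminM
  -- several factors
  left
  let T : Finset (Subgroup (GL (Fin n) F)) :=
    (Set.toFinite {A | ∃ g ∈ G, A = M.map (cf g)}).toFinset
  have hT : ∀ A, A ∈ T ↔ ∃ g ∈ G, A = M.map (cf g) := fun A => by simp [T]
  have hMT : M ∈ T := (hT M).2 ⟨1, G.one_mem, le_antisymm (fun a ha => ⟨a, ha, by simp [cf]⟩)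
    (by rintro _ ⟨a, ha, rfl⟩; simpa [cf] using ha)⟩
  let idx : Fin T.card ≃ T := T.equivFin.symm
  have hs : 2 ≤ T.card := by
    simp only [not_forall] at hone
    obtain ⟨g, hg, hne⟩ := hone
    exact Finset.one_lt_card.2 ⟨_, (hT _).2 ⟨g, hg, rfl⟩, M, hMT, hne⟩
  choose rep hrepG hrep using fun i => (hT _).1 (idx i).2
  set K := ⁅M, M⁆ with hKdef
  let Ki : Fin T.card → Subgroup (GL (Fin n) F) := fun i => K.map (cf (rep i))
  have hKiM : ∀ i, Ki i = ⁅M.map (cf (rep i)), M.map (cf (rep i))⁆ := fun i => Subgroup.map_commutator M M _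
  have hdist : ∀ i j, i ≠ j → M.map (cf (rep i)) ≠ M.map (cf (rep j)) := fun i j hij e =>
    hij (idx.injective (Subtype.ext (by rw [hrep i, hrep j, e])))
  have hKM : ∀ i j, i ≠ j → ⁅Ki i, M.map (cf (rep j))⁆ = ⊥ := fun i j hij => by
    have h0 : ⁅M.map (cf (rep i)), M.map (cf (rep j))⁆ ≤ scalars (Fin n) F :=
      commutator_le_scalars (hinter _ (hrepG i) _ (hrepG j) (hdist i j hij))
    rw [hKiM i]
    exact Subgroup.commutator_commutator_eq_bot_of_rotate (comm_scalars_eq_bot h0 _)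
      (by rw [Subgroup.commutator_comm (M.map (cf (rep j)))]; exact comm_scalars_eq_bot h0 _)
  have hKile : ∀ i, Ki i ≤ M.map (cf (rep i)) := fun i => Subgroup.map_mono (hMgen.symm ▸ le_sup_left)
  have hNK : ∀ x ∈ N, (x : Matrix (Fin n) (Fin n) F) ∈ ⨆ i, alg (Ki i) := by
    let B : Subgroup (GL (Fin n) F) :=
      { carrier := {x | (x : Matrix (Fin n) (Fin n) F) ∈ (⨆ i, alg (Ki i) : Subalgebra F _) ∧
          (↑x⁻¹ : Matrix (Fin n) (Fin n) F) ∈ (⨆ i, alg (Ki i) : Subalgebra F _)}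
        one_mem' := ⟨by simp [one_mem], by simp [one_mem]⟩
        mul_mem' := fun {a b} ha hb => ⟨by rw [Units.val_mul]; exact mul_mem ha.1 hb.1,
          by rw [mul_inv_rev, Units.val_mul]; exact mul_mem hb.2 ha.2⟩
        inv_mem' := fun {a} ha => ⟨ha.2, by rw [inv_inv]; exact ha.1⟩ }
    have hB : N ≤ B := hjoin B fun g hg => by
      obtain ⟨i, hi⟩ : ∃ i, idx i = ⟨M.map (cf g), (hT _).2 ⟨g, hg, rfl⟩⟩ := ⟨_, idx.apply_symm_apply _⟩
      have hg' : M.map (cf g) = M.map (cf (rep i)) := by rw [← hrep i, hi]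
      rw [hg', hMgen, Subgroup.map_sup, sup_le_iff]
      constructor
      · intro x hx
        exact ⟨(le_iSup (fun i => alg (Ki i)) i) (val_mem_alg hx),
          (le_iSup (fun i => alg (Ki i)) i) (val_mem_alg (inv_mem hx))⟩
      · rintro _ ⟨s, hs', rfl⟩
        obtain ⟨c, rfl⟩ := exists_sc hs'
        have hc : cf (rep i) (sc c) = sc c := by rw [hcf, ← sc_comm]; group
        refine ⟨?_, ?_⟩
        · rw [hc, sc_val]; exact Subalgebra.smul_mem _ (one_mem _) _
        · rw [hc, ← sc_inv, sc_val]; exact Subalgebra.smul_mem _ (one_mem _) _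
    exact fun x hx => (hB hx).1
  have htop : ⨆ i, alg (Ki i) = ⊤ := eq_top_iff.2 (by
    rw [← alg_eq_top habsN, alg_le_iff]; exact hNK)
  have hcomm : ∀ i j, i ≠ j → ∀ x ∈ alg (Ki i), ∀ y ∈ alg (Ki j), x * y = y * x := fun i j hij x hx y hy =>
    commute_of_alg hx (by
      have : alg (Ki j) ≤ cent (matrixSet (Ki i)) := alg_le_iff.2 fun b hb => mem_cent.2 (by
        rintro _ ⟨a, ha, rfl⟩
        have := Subgroup.commutator_mem_commutator ha (hKile j hb)
        rw [hKM i j hij, Subgroup.mem_bot, commutatorElement_eq_one_iff_mul_comm] at this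
        exact congrArg Units.val this)
      exact this hy)
  have hi0 : ∃ i, M.map (cf (rep i)) = M := ⟨idx.symm ⟨M, hMT⟩, by rw [← hrep, Equiv.apply_symm_apply]⟩
  obtain ⟨i₀, hi₀⟩ := hi0
  have hKi₀ : Ki i₀ = K := by rw [hKiM, hi₀]
  -- the span of `K` is a matrix algebra
  have hKN : ∀ g ∈ N, ∀ a ∈ K, g * a * g⁻¹ ∈ K := fun g hg a ha => by
    have h1 : K.map (cf g) ≤ K := by
      rw [hKdef, Subgroup.map_commutator]
      have h2 : M.map (cf g) ≤ M := by rintro _ ⟨a, ha, rfl⟩; exact hM3 g hg a ha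
      exact Subgroup.commutator_mono h2 h2
    exact h1 ⟨a, ha, rfl⟩
  have hzK : IsScalar (algCenter K) := fun x hx => by
    refine habsN.2 x ?_
    rintro _ ⟨g, hg, rfl⟩
    have hle : (⨆ i, alg (Ki i)) ≤ cent {x} := iSup_le fun i y hy => mem_cent.2 fun s hs' => by
      rw [Set.mem_singleton_iff.1 hs']
      rcases eq_or_ne i i₀ with rfl | hne
      · rw [hKi₀] at hy; exact (commute_of_alg hy hx.2).symm
      · exact hcomm i₀ i (Ne.symm hne) x (hKi₀.symm ▸ hx.1) y hy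
    exact mem_cent.1 (hle (hNK g hg)) x rfl
  obtain ⟨d, φ, hd, hinj, hrange⟩ := alg_matrix (isSemisimple_alg habsN.1 hKN) hzK
  have hd2 : 2 ≤ d := by
    by_contra h
    obtain rfl : d = 1 := by omega
    refine hMnab fun x hx => ?_
    obtain ⟨a, ha⟩ : (x : Matrix (Fin n) (Fin n) F) ∈ φ.range := hrange ▸ val_mem_alg (show x ∈ K from hx)
    have ha1 : a = a 0 0 • (1 : Matrix (Fin 1) (Fin 1) F) := by
      ext i j; simp [Subsingleton.elim i 0, Subsingleton.elim j 0]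
    change φ a = _ at ha
    rw [ha1, map_smul, map_one] at ha
    exact mem_scalars_of_eq_smul ha.symm
  let Φ : Fin T.card → (Matrix (Fin d) (Fin d) F →ₐ[F] Matrix (Fin n) (Fin n) F) :=
    fun i => (cj (rep i)).toAlgHom.comp φ
  have hΦ : ∀ i, (Φ i).range = alg (Ki i) := fun i => by
    refine le_antisymm ?_ (alg_le_iff.2 ?_)
    · rintro _ ⟨a, rfl⟩
      have h1 : alg K ≤ (alg (Ki i)).comap (cj (rep i)).toAlgHom := alg_le_iff.2 fun x hx => by
        show cj (rep i) (x : Matrix (Fin n) (Fin n) F) ∈ alg (Ki i)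
        rw [cj_val]
        exact val_mem_alg ⟨x, hx, rfl⟩
      exact h1 (hrange ▸ ⟨a, rfl⟩)
    · rintro _ ⟨x, hx, rfl⟩
      obtain ⟨a, ha⟩ : (x : Matrix (Fin n) (Fin n) F) ∈ φ.range := hrange ▸ val_mem_alg hx
      exact ⟨a, by
        show cj (rep i) (φ a) = _
        rw [show φ a = (x : Matrix (Fin n) (Fin n) F) from ha, cj_val]
        rfl⟩
  refine wreath_case hn hd2 hs Φ
    (fun i j hij a b => hcomm i j hij _ (hΦ i ▸ ⟨a, rfl⟩) _ (hΦ j ▸ ⟨b, rfl⟩))
    (by simp only [hΦ]; exact htop) fun g hg i => ?_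
  have hmem : (M.map (cf (g * rep i))) ∈ T := (hT _).2 ⟨_, G.mul_mem hg (hrepG i), rfl⟩
  refine ⟨idx.symm ⟨_, hmem⟩, fun x hx => ?_⟩
  have hj : M.map (cf (rep (idx.symm ⟨_, hmem⟩))) = (M.map (cf (rep i))).map (cf g) := by
    rw [← hrep, Equiv.apply_symm_apply, hcfcf]
  have hK' : (Ki i).map (cf g) = Ki (idx.symm ⟨_, hmem⟩) := by
    rw [hKiM, hKiM, Subgroup.map_commutator, ← hj]
  rw [hΦ] at hx ⊢
  have h1 : alg (Ki i) ≤ (alg (Ki (idx.symm ⟨_, hmem⟩))).comap (cj g).toAlgHom := alg_le_iff.2 fun y hy => by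
    rw [Subalgebra.mem_comap]
    show cj g (y : Matrix (Fin n) (Fin n) F) ∈ _
    rw [cj_val]
    exact val_mem_alg (hK' ▸ ⟨y, hy, rfl⟩)
  exact h1 hx

/-- Aschbacher's theorem. -/
theorem aschbacher (hn : 3 ≤ n) (H : Subgroup (GL (Fin n) F)) :
    InClassOver H ∨ InLinearResidualClass H := by
  rcases aschbacher_scalars hn (G := H ⊔ scalars (Fin n) F) le_sup_right with ⟨M, hM, hle⟩ | ⟨P, hP, hcore, hforms⟩
  · exact Or.inl ⟨M, hM, le_sup_left.trans hle⟩
  · refine Or.inr ⟨P, ⟨hP.trans (Subgroup.commutator_le.2 fun a ha b hb => ?_),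
      fun h hh => hcore.normal h (Subgroup.mem_sup_left hh), hcore.perfect, hcore.simple, hcore.nonabelian,
      fun h hh => hcore.centralizer_scalar h (Subgroup.mem_sup_left hh), hcore.absIrred, hcore.no_subfield⟩, hforms⟩
    obtain ⟨x, hx, s, hs, rfl⟩ := Subgroup.mem_sup_of_normal_right.1 ha
    obtain ⟨y, hy, t, ht, rfl⟩ := Subgroup.mem_sup_of_normal_right.1 hb
    obtain ⟨c, rfl⟩ := exists_sc hs
    obtain ⟨d, rfl⟩ := exists_sc ht
    have : ⁅x * sc c, y * sc d⁆ = ⁅x, y⁆ := comm_sc x y c d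
    rw [this]
    rw [commutatorElement_def]
    exact mul_mem (mul_mem (mul_mem hx hy) (inv_mem hx)) (inv_mem hy)

end CfsgLib.Aschbacher
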