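import Cfsg.Agent.Lib.Aschbacher.Units
import Cfsg.Agent.Lib.Aschbacher.Clifford

/-!
# Aschbacher's theorem: groups realised over a subfield
-/

set_option autoImplicit false

namespace CfsgLib.Aschbacher

open Cfsg Cfsg.Geo
open scoped Matrix MatrixGroups

variable {ι : Type} [Fintype ι] [DecidableEq ι] {F : Type*} [Field F]

theorem subfieldSubgroup_mono {F₀ F₁ : Subfield F} (h : F₀ ≤ F₁) (P : GL ι F) :
    subfieldSubgroup F₀ P ≤ subfieldSubgroup F₁ P := by
  refine Subgroup.map_mono (sup_le_sup_right ?_ _)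
  rintro _ ⟨a, rfl⟩
  exact ⟨Matrix.GeneralLinearGroup.map (Subfield.inclusion h) a, Units.ext (Matrix.ext fun i j => rfl)⟩

/-- The matrices with entries in a subfield. -/
def mapHom (F₀ : Subfield F) : Matrix ι ι F₀ →+* Matrix ι ι F := RingHom.mapMatrix F₀.subtype

/-- The normaliser of an absolutely irreducible group realised over `F₀` lies in a subfield group. -/
theorem le_subfieldSubgroup [Finite F] [Nonempty ι] {G P : Subgroup (GL ι F)}
    (hP : ActsAbsolutelyIrreducibly (matrixSet P)) (hG : ∀ g ∈ G, ∀ x ∈ P, g * x * g⁻¹ ∈ P)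
    {F₀ : Subfield F} (hF : F₀ ≠ ⊤) (hr : RealisableOver F₀ (matrixSet P)) :
    ∃ (F₁ : Subfield F) (r : ℕ) (Q : GL ι F), r.Prime ∧ Nat.card F = Nat.card F₁ ^ r ∧
      G ≤ subfieldSubgroup F₁ Q := by
  classical
  obtain ⟨F₁, r, hr', hle, hcard⟩ := exists_primeIndex hF
  obtain ⟨B, hB⟩ := hr
  refine ⟨F₁, r, B⁻¹, hr', hcard, le_trans ?_ (subfieldSubgroup_mono hle _)⟩
  intro g hg
  obtain ⟨π, hπ⟩ := (Algebra.linearMap F₀ F).exists_leftInverse_of_injective
    (LinearMap.ker_eq_bot.2 (algebraMap F₀ F).injective)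
  have hπ1 : ∀ a : F₀, π (a : F) = a := fun a => LinearMap.congr_fun hπ a
  have hπm : ∀ (a : F) (b : F₀), π (a * b) = π a * b := fun a b => by
    rw [mul_comm a, show (b : F) * a = b • a from rfl, map_smul, smul_eq_mul, mul_comm]
  set g' := B * g * B⁻¹ with hg'
  -- the realised group
  let S : Set (Matrix ι ι F) := (fun x => cj B x) '' matrixSet P
  have hS0 : ∀ s ∈ S, ∀ i j, s i j ∈ F₀ := by rintro _ ⟨x, hx, rfl⟩; exact hB x hx
  have hSg : ∀ s ∈ S, cj g' s ∈ S := by
    rintro _ ⟨_, ⟨x, hx, rfl⟩, rfl⟩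
    refine ⟨_, ⟨g * x * g⁻¹, hG g hg x hx, rfl⟩, ?_⟩
    simp only
    rw [← cj_val, cj_cj, cj_cj, hg']
    congr 2
    group
  have hspan : Submodule.span F S = ⊤ := by
    have h1 : Submodule.span F (matrixSet P) = ⊤ := by
      rw [← alg_toSubmodule, alg_eq_top hP, Algebra.top_toSubmodule]
    show Submodule.span F ((cj B).toLinearMap '' matrixSet P) = ⊤
    rw [Submodule.span_image, h1, Submodule.map_top, LinearMap.range_eq_top]
    exact (cj B).surjective
  -- the map π applied to entries
  let Pm : Matrix ι ι F → Matrix ι ι F₀ := fun x => x.map π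
  have hclosed : ∀ y : Matrix ι ι F, (∀ i j, y i j ∈ F₀) → ∀ i j, cj g' y i j ∈ F₀ := by
    intro y hy
    obtain ⟨c, hc⟩ := (Finsupp.mem_span_iff_linearCombination F S y).1 (hspan ▸ Submodule.mem_top)
    have h2 : y = ∑ s ∈ c.support, ((π (c s) : F₀) : F) • (s : Matrix ι ι F) := by
      ext i j
      have h3 : y i j = ((π (y i j) : F₀) : F) := by rw [show y i j = ((⟨y i j, hy i j⟩ : F₀) : F) from rfl, hπ1]
      rw [h3, ← hc, Finsupp.linearCombination_apply, Finsupp.sum, Matrix.sum_apply, Matrix.sum_apply, map_sum,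
        AddSubmonoidClass.coe_finset_sum]
      refine Finset.sum_congr rfl fun s _ => ?_
      rw [Matrix.smul_apply, Matrix.smul_apply, smul_eq_mul, smul_eq_mul,
        show (s : Matrix ι ι F) i j = ((⟨_, hS0 _ s.2 i j⟩ : F₀) : F) from rfl, hπm]
      rfl
    intro i j
    rw [h2, map_sum, Matrix.sum_apply]
    refine F₀.sum_mem fun s _ => ?_
    rw [map_smul, Matrix.smul_apply, smul_eq_mul]
    exact F₀.mul_mem (π (c s)).2 (hS0 _ (hSg _ s.2) i j)
  let φ : Matrix ι ι F₀ →ₐ[F₀] Matrix ι ι F₀ :=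
    { toFun := fun a => Pm (cj g' (mapHom F₀ a))
      map_one' := by
        rw [map_one, map_one]
        ext i j
        simp only [Pm, Matrix.map_apply, Matrix.one_apply]
        split_ifs
        · exact congrArg Subtype.val (hπ1 1)
        · simp
      map_mul' := fun a b => by
        have hval : ∀ a : Matrix ι ι F₀, mapHom F₀ (Pm (cj g' (mapHom F₀ a))) = cj g' (mapHom F₀ a) := fun a => by
          ext i j
          show ((π _ : F₀) : F) = _
          exact congrArg Subtype.val (hπ1 ⟨_, hclosed (mapHom F₀ a) (fun i j => (a i j).2) i j⟩)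
        refine Matrix.map_injective Subtype.val_injective ?_
        show mapHom F₀ _ = mapHom F₀ _
        rw [map_mul (mapHom F₀) (Pm _) (Pm _), hval, hval, hval, map_mul, map_mul]
      map_zero' := by rw [map_zero, map_zero]; ext i j; simp [Pm]
      map_add' := fun a b => by rw [map_add, map_add]; ext i j; simp [Pm]
      commutes' := fun c => by
        ext i j
        have h1 : mapHom F₀ (algebraMap F₀ (Matrix ι ι F₀) c) = algebraMap F (Matrix ι ι F) (c : F) := by
          ext i j
          show (((algebraMap F₀ (Matrix ι ι F₀) c) i j : F₀) : F) = _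
          simp only [Matrix.algebraMap_matrix_apply]
          split_ifs <;> rfl
        simp only [Pm, h1, AlgEquiv.commutes, Matrix.map_apply, Matrix.algebraMap_matrix_apply]
        split_ifs
        · exact congrArg Subtype.val (hπ1 c)
        · simp }
  obtain ⟨a, ha⟩ := skolem_noether φ
  let a' : GL ι F := Matrix.GeneralLinearGroup.map F₀.subtype a
  have hag : ∀ s ∈ S, cj g' s = cj a' s := by
    intro s hs
    let s₀ : Matrix ι ι F₀ := fun i j => ⟨s i j, hS0 s hs i j⟩
    have h1 := congrArg (mapHom F₀) (ha s₀)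
    have h2 : mapHom F₀ (cj a s₀) = cj a' s := by
      rw [cj_apply, cj_apply, map_mul, map_mul]; rfl
    rw [h2] at h1
    rw [← h1]
    ext i j
    exact (congrArg Subtype.val (hπ1 ⟨_, hclosed s (hS0 s hs) i j⟩)).symm
  obtain ⟨c, hc⟩ := eq_smul_one_of_commutes hP (x := ((B⁻¹ * (a'⁻¹ * g') * B : GL ι F) : Matrix ι ι F))
    fun x hx => by
      rw [← cj_eq_self_iff, ← cj_cj, ← cj_cj, ← cj_cj, hag _ ⟨_, val_mem_matrixSet hx, rfl⟩, cj_inv_cj, cj_inv_cj]
  have hsc := mem_scalars_of_eq_smul hc
  refine ⟨g', ?_, ?_⟩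
  · rw [show g' = a' * (a'⁻¹ * g') by group]
    refine Subgroup.mul_mem _ (Subgroup.mem_sup_left ⟨a, rfl⟩) (Subgroup.mem_sup_right ?_)
    have := Subgroup.Normal.conj_mem (scalars_normal (ι := ι) (F := F)) _ hsc B
    simpa [mul_assoc] using this
  · show B⁻¹ * g' * B⁻¹⁻¹ = g
    rw [hg']; group

set_option maxHeartbeats 800000 in
/-- A group with a basis of group elements with structure constants in `F₀` is realised over `F₀`. -/
theorem realisable_of_basis [Finite F] [Nonempty ι] {R : Subgroup (GL ι F)}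
    (hR : ActsAbsolutelyIrreducibly (matrixSet R)) {F₀ : Subfield F} {κ : Type*} [Fintype κ] (t : κ → GL ι F)
    (ht : LinearIndependent F fun k => (t k : Matrix ι ι F)) (hsq : Fintype.card κ = Fintype.card ι ^ 2)
    (hcov : ∀ x ∈ R, ∃ k, ∃ c : F₀, (x : Matrix ι ι F) = (c : F) • (t k : Matrix ι ι F))
    (htR : ∀ k, t k ∈ R) : RealisableOver F₀ (matrixSet R) := by
  classical
  let A : Subalgebra F₀ (Matrix ι ι F) := Algebra.adjoin F₀ (matrixSet R)
  haveI : Finite (Matrix ι ι F) := inferInstanceAs (Finite (ι → ι → F))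
  haveI : Finite F₀ := Subtype.finite
  have ht0 : LinearIndependent F₀ fun k => (t k : Matrix ι ι F) := ht.restrict_scalars' F₀
  have hA : Subalgebra.toSubmodule A = Submodule.span F₀ (Set.range fun k => (t k : Matrix ι ι F)) := by
    rw [Algebra.adjoin_eq_span]
    refine le_antisymm (Submodule.span_le.2 fun x hx => ?_) (Submodule.span_mono ?_)
    · have hx' : x ∈ matrixSet R := by
        induction hx using Submonoid.closure_induction with
        | mem x hx => exact hx
        | one => exact ⟨1, R.one_mem, rfl⟩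
        | mul x y _ _ ihx ihy =>
          obtain ⟨a, ha, rfl⟩ := ihx
          obtain ⟨b, hb, rfl⟩ := ihy
          exact ⟨a * b, R.mul_mem ha hb, rfl⟩
      obtain ⟨g, hg, rfl⟩ := hx'
      obtain ⟨k, c, hc⟩ := hcov g hg
      show (g : Matrix ι ι F) ∈ _
      rw [hc]
      exact Submodule.smul_mem _ c (Submodule.subset_span ⟨k, rfl⟩)
    · rintro _ ⟨k, rfl⟩
      exact Submonoid.subset_closure (val_mem_matrixSet (htR k))
  have hdim : Module.finrank F₀ A = Fintype.card ι ^ 2 := by
    show Module.finrank F₀ (Subalgebra.toSubmodule A) = _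
    rw [hA, finrank_span_eq_card ht0, hsq]
  haveI : Nontrivial A := ⟨1, 0, fun h => one_ne_zero (congrArg Subtype.val h : (1 : Matrix ι ι F) = 0)⟩
  haveI : IsSemisimpleRing A := by
    rw [IsArtinianRing.isSemisimpleRing_iff_jacobson]
    set J := Ring.jacobson A
    obtain ⟨k, hk⟩ := IsSemiprimaryRing.isNilpotent (R := A)
    let U : Submodule F (ι → F) :=
      { carrier := {v | ∀ x ∈ J, (x : Matrix ι ι F) *ᵥ v = 0}
        add_mem' := fun {a b} ha hb y hy => by rw [Matrix.mulVec_add, ha y hy, hb y hy, add_zero]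
        zero_mem' := fun y _ => Matrix.mulVec_zero _
        smul_mem' := fun c a ha y hy => by rw [Matrix.mulVec_smul, ha y hy, smul_zero] }
    have hU : U ≠ ⊥ := fun h => by
      have key : ∀ j (v : ι → F), (∀ x ∈ J ^ (j + 1), (x : Matrix ι ι F) *ᵥ v = 0) → v = 0 := by
        intro j
        induction j with
        | zero =>
          intro v hv
          rw [← Submodule.mem_bot (R := F), ← h]
          intro x hx
          exact hv x (by rwa [zero_add, Submodule.pow_one])
        | succ j ih =>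
          intro v hv
          rw [← Submodule.mem_bot (R := F), ← h]
          intro x hx
          refine ih _ fun y hy => ?_
          rw [Matrix.mulVec_mulVec]
          refine hv (y * x) ?_
          rw [Submodule.pow_succ (n := j + 1)]
          exact Ideal.mul_mem_mul hy hx
      obtain ⟨v, hv⟩ := exists_ne (0 : ι → F)
      refine hv (key k v fun x hx => ?_)
      rw [Submodule.pow_succ, hk, Submodule.zero_eq_bot, Ideal.bot_mul] at hx
      rw [(Submodule.mem_bot _).1 hx]; simp
    rcases irred_group hR.1 U (fun g hg w hw x hx => by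
      rw [Matrix.mulVec_mulVec]
      exact hw (x * ⟨_, Algebra.subset_adjoin (val_mem_matrixSet hg)⟩) (Ideal.IsTwoSided.mul_mem_of_left _ hx))
      with h | h
    · exact absurd h hU
    · refine eq_bot_iff.2 fun x hx => ?_
      refine Subtype.ext (Matrix.ext_of_mulVec_single fun i => ?_)
      rw [(h.symm ▸ Submodule.mem_top : Pi.single i (1 : F) ∈ U) x hx]
      exact (Matrix.zero_mulVec _).symm
  obtain ⟨d, hd, ⟨ψ⟩⟩ := exists_matrix_equiv (K := F₀) (A := A) fun z hz => by
    obtain ⟨c, hc⟩ := eq_smul_one_of_commutes hR (x := (z : Matrix ι ι F)) fun g hg =>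
      congrArg Subtype.val (hz ⟨_, Algebra.subset_adjoin (val_mem_matrixSet hg)⟩)
    obtain ⟨a, ha⟩ : ∃ a : κ → F₀, ∑ k, a k • (t k : Matrix ι ι F) = (z : Matrix ι ι F) :=
      (Submodule.mem_span_range_iff_exists_fun F₀).1 (hA ▸ z.2)
    obtain ⟨b, hb⟩ : ∃ b : κ → F₀, ∑ k, b k • (t k : Matrix ι ι F) = (1 : Matrix ι ι F) :=
      (Submodule.mem_span_range_iff_exists_fun F₀).1 (hA ▸ A.one_mem)
    have heq : ∀ k, (a k : F) = c * b k := by
      refine fun k => sub_eq_zero.1 (Fintype.linearIndependent_iff.1 ht (fun k => (a k : F) - c * b k) ?_ k)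
      simp only [sub_smul, Finset.sum_sub_distrib, mul_smul, ← Finset.smul_sum]
      have e : ∀ (f : κ → F₀) k, ((f k : F)) • (t k : Matrix ι ι F) = f k • (t k : Matrix ι ι F) :=
        fun f k => rfl
      simp only [e, ha, hb, hc, sub_self]
    obtain ⟨k, hk⟩ : ∃ k, b k ≠ 0 := by
      by_contra h
      push Not at h
      refine one_ne_zero (α := Matrix ι ι F) ?_
      rw [← hb]; simp [h]
    have hcF : c ∈ F₀ := by
      have hb0 : (b k : F) ≠ 0 := fun e => hk (Subtype.ext e)
      rw [show c = (a k : F) / b k by rw [eq_div_iff hb0, heq]]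
      exact F₀.div_mem (a k).2 (b k).2
    refine ⟨⟨c, hcF⟩, Subtype.ext ?_⟩
    rw [hc]
    ext i j
    simp [Matrix.algebraMap_matrix_apply, Matrix.smul_apply, Matrix.one_apply]
    split_ifs <;> rfl
  have hdn : d = Fintype.card ι := by
    have h1 := ψ.toLinearEquiv.finrank_eq
    rw [hdim, Module.finrank_matrix, Module.finrank_self, Fintype.card_fin] at h1
    exact Nat.pow_left_injective two_ne_zero (show d ^ 2 = Fintype.card ι ^ 2 by rw [sq, ← h1, mul_one])
  let e0 : ι ≃ Fin d := (Fintype.equivFin ι).trans (finCongr hdn.symm)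
  let ψ' : Matrix ι ι F₀ →ₐ[F₀] Matrix ι ι F :=
    A.val.comp (ψ.toAlgHom.comp (Matrix.reindexAlgEquiv F₀ F₀ e0).toAlgHom)
  let e : ι → ι → Matrix ι ι F := fun x y => ψ' (Matrix.single x y 1)
  have he : Units' e :=
    { mul := fun x y z w => by
        show ψ' _ * ψ' _ = _
        rw [← map_mul]
        split_ifs with h
        · subst h; simp [e]
        · rw [Matrix.single_mul_single_of_ne _ _ _ _ h, map_zero]
      sum := by
        show ∑ x, ψ' _ = _
        rw [← map_sum]
        conv_rhs => rw [← map_one ψ']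
        congr 1
        ext i j
        simp [Matrix.sum_apply, Matrix.single, Matrix.one_apply, ite_and] }
  obtain ⟨P, hP⟩ := he.exists_conj
  have hψ : ∀ a, ψ' a = cj P (mapHom F₀ a) := fun a => by
    rw [← hP]
    show ψ' a = ∑ x, ∑ y, ((a x y : F₀) : F) • ψ' (Matrix.single x y 1)
    conv_lhs => rw [Matrix.matrix_eq_sum_single a]
    simp only [map_sum]
    refine Finset.sum_congr rfl fun x _ => Finset.sum_congr rfl fun y _ => ?_
    rw [show Matrix.single x y (a x y) = a x y • Matrix.single x y 1 by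
      rw [Matrix.smul_single, smul_eq_mul, mul_one], map_smul]
    rfl
  refine ⟨P⁻¹, ?_⟩
  rintro _ ⟨g, hg, rfl⟩ i j
  obtain ⟨a, ha⟩ := ((Matrix.reindexAlgEquiv F₀ F₀ e0).trans ψ).surjective
    ⟨_, Algebra.subset_adjoin (val_mem_matrixSet hg)⟩
  have h1 : (g : Matrix ι ι F) = ψ' a := (congrArg Subtype.val ha).symm
  show cj P⁻¹ (g : Matrix ι ι F) i j ∈ F₀
  rw [h1, hψ, cj_inv_cj]
  exact (a i j).2

end CfsgLib.Aschbacher
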