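import Cfsg.Agent.Lib.Aschbacher.Clifford

/-!
# Fixed spaces in primitive soluble linear groups

If `G` is a primitive irreducible soluble linear group then a non-identity element fixes at most three quarters
of the space: commutating twice lands in a fixed-point-free abelian normal subgroup.
-/

set_option autoImplicit false

namespace CfsgLib.Aschbacher.SolvableFix

open Cfsg Cfsg.Geo CfsgLib.Aschbacher
open scoped Matrix MatrixGroups

/-- A soluble group has a normal class two subgroup `N` over an abelian normal `A` with small centraliser. -/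
theorem exists_pair {G : Type*} [Group G] [Finite G] (hs : IsSolvable G) :
    ∃ A N : Subgroup G, A.Normal ∧ N.Normal ∧ A ≤ N ∧ A ≤ Subgroup.centralizer (A : Set G) ∧
      N ≤ Subgroup.centralizer (A : Set G) ∧ ⁅N, N⁆ ≤ A ∧
      Subgroup.centralizer (A : Set G) ⊓ Subgroup.centralizer (N : Set G) ≤ A := by
  classical
  obtain ⟨A, ⟨hAn, hAc⟩, hAmax⟩ := Set.Finite.exists_maximal
    (s := {A : Subgroup G | A.Normal ∧ A ≤ Subgroup.centralizer (A : Set G)}) (Set.toFinite _)
    ⟨⊥, inferInstance, bot_le⟩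
  haveI := hAn
  obtain ⟨N, ⟨hNn, hAN, hNC, hNN⟩, hNmax⟩ := Set.Finite.exists_maximal
    (s := {N : Subgroup G | N.Normal ∧ A ≤ N ∧ N ≤ Subgroup.centralizer (A : Set G) ∧ ⁅N, N⁆ ≤ A})
    (Set.toFinite _) ⟨A, hAn, le_rfl, hAc, Subgroup.commutator_le_right A A⟩
  haveI := hNn
  refine ⟨A, N, hAn, hNn, hAN, hAc, hNC, hNN, ?_⟩
  set X := Subgroup.centralizer (A : Set G) ⊓ Subgroup.centralizer (N : Set G) with hX
  have hNX : N ⊓ X ≤ A := by
    refine hAmax (y := N ⊓ X) ⟨inferInstance, ?_⟩ (le_inf hAN (le_inf hAc ?_))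
    · intro x hx
      rw [Subgroup.mem_centralizer_iff]
      intro y hy
      exact (Subgroup.mem_inf.1 (Subgroup.mem_inf.1 hx).2).2 y (Subgroup.mem_inf.1 hy).1
    · exact Subgroup.le_centralizer_iff.1 hNC
  by_contra hcon
  let D : ℕ → Subgroup G := fun k => Nat.rec (motive := fun _ => Subgroup G) X (fun _ H => ⁅H, H⁆) k
  have hDn : ∀ k, (D k).Normal := by
    intro k
    induction k with
    | zero => exact inferInstanceAs X.Normal
    | succ k ih =>
      haveI := ih
      exact @Subgroup.commutator_normal _ _ (D k) (D k) ih ih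
  have hDX : ∀ k, D k ≤ X := by
    intro k
    induction k with
    | zero => exact le_rfl
    | succ k ih =>
      exact Subgroup.commutator_le.2 fun a ha b hb =>
        X.mul_mem (X.mul_mem (X.mul_mem (ih ha) (ih hb)) (X.inv_mem (ih ha))) (X.inv_mem (ih hb))
  have hDs : ∀ k, D k ≤ derivedSeries G k := by
    intro k
    induction k with
    | zero => exact le_top
    | succ k ih => exact Subgroup.commutator_mono ih ih
  obtain ⟨m, hm⟩ := (isSolvable_def G).1 hs
  have hex : ∃ k, D k ≤ A := ⟨m, le_trans (hDs m) (hm ▸ bot_le)⟩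
  obtain ⟨k, hk⟩ : ∃ k, Nat.find hex = k + 1 := Nat.exists_eq_succ_of_ne_zero fun h => hcon (by
    have h0 := Nat.find_spec hex
    rw [h] at h0
    exact h0)
  have h1 : ¬ D k ≤ A := Nat.find_min hex (by omega)
  have h2 : ⁅D k, D k⁆ ≤ A := by
    have := Nat.find_spec hex
    rwa [hk] at this
  haveI := hDn k
  have hM : N ⊔ D k ≤ N := by
    refine hNmax (y := N ⊔ D k) ⟨Subgroup.sup_normal N (D k), le_trans hAN le_sup_left,
      sup_le hNC (le_trans (hDX k) inf_le_left), ?_⟩ le_sup_left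
    have hbot : ∀ P Q : Subgroup G, ⁅P, Q⁆ ≤ A →
        P.map (QuotientGroup.mk' A) ≤ Subgroup.centralizer (Q.map (QuotientGroup.mk' A) : Set (G ⧸ A)) := by
      intro P Q h
      rw [← Subgroup.commutator_eq_bot_iff_le_centralizer, ← Subgroup.map_commutator, Subgroup.map_eq_bot_iff,
        QuotientGroup.ker_mk']
      exact h
    have hND : ⁅N, D k⁆ ≤ A := by
      have h0 : ⁅N, D k⁆ = ⊥ := Subgroup.commutator_eq_bot_iff_le_centralizer.2
        (Subgroup.le_centralizer_iff.1 (le_trans (hDX k) inf_le_right))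
      rw [h0]
      exact bot_le
    have hDN : ⁅D k, N⁆ ≤ A := by rwa [Subgroup.commutator_comm]
    rw [← QuotientGroup.ker_mk' A, ← Subgroup.map_eq_bot_iff, Subgroup.map_commutator,
      Subgroup.commutator_eq_bot_iff_le_centralizer, Subgroup.map_sup]
    refine sup_le ?_ ?_ <;> rw [Subgroup.le_centralizer_iff] <;> refine sup_le ?_ ?_
    · exact hbot N N hNN
    · exact hbot (D k) N hDN
    · exact hbot N (D k) hND
    · exact hbot (D k) (D k) h2
  exact h1 (le_trans (le_inf (le_trans le_sup_right hM) (hDX k)) hNX)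

variable {F : Type*} [Field F] {n : ℕ}

/-- The fixed space of `g`. -/
noncomputable def fix (g : GL (Fin n) F) : Submodule F (Fin n → F) :=
  Module.End.eigenspace (Matrix.toLin' (g : Matrix (Fin n) (Fin n) F)) 1

theorem mem_fix {g : GL (Fin n) F} {v : Fin n → F} : v ∈ fix g ↔ (g : Matrix (Fin n) (Fin n) F) *ᵥ v = v := by
  rw [fix, Module.End.mem_eigenspace_iff, Matrix.toLin'_apply, one_smul]

/-- The fixed space of a commutator has codimension at most twice that of `g`. -/
theorem two_mul_fix_le (g x : GL (Fin n) F) :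
    2 * Module.finrank F (fix g) ≤ n + Module.finrank F (fix (g * (x * g⁻¹ * x⁻¹))) := by
  set e : (Fin n → F) →ₗ[F] (Fin n → F) := Matrix.toLin' (x : Matrix (Fin n) (Fin n) F) with he
  have hinj : Function.Injective e := fun v w h => mulVec_left_inj x (by simpa [he] using h)
  have h1 : Module.finrank F ((fix g).map e) = Module.finrank F (fix g) :=
    (LinearEquiv.finrank_eq (Submodule.equivMapOfInjective e hinj (fix g))).symm
  have hle : fix g ⊓ (fix g).map e ≤ fix (g * (x * g⁻¹ * x⁻¹)) := by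
    rintro v ⟨hv, w, hw, rfl⟩
    rw [SetLike.mem_coe, mem_fix] at hw hv
    rw [mem_fix]
    have hg : ((g⁻¹ : GL (Fin n) F) : Matrix (Fin n) (Fin n) F) *ᵥ w = w := by
      conv_lhs => rw [← hw]
      rw [Matrix.mulVec_mulVec, ← Units.val_mul, inv_mul_cancel, Units.val_one, Matrix.one_mulVec]
    simp only [he, Matrix.toLin'_apply, Units.val_mul, ← Matrix.mulVec_mulVec] at hv ⊢
    rw [Matrix.mulVec_mulVec _ ((x⁻¹ : GL (Fin n) F) : Matrix (Fin n) (Fin n) F), ← Units.val_mul, inv_mul_cancel,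
      Units.val_one, Matrix.one_mulVec, hg, hv]
  have h2 := Submodule.finrank_mono hle
  have h3 := Submodule.finrank_sup_add_finrank_inf_eq (fix g) ((fix g).map e)
  have h4 : Module.finrank F ↥(fix g ⊔ (fix g).map e) ≤ n := by
    simpa using Submodule.finrank_le (R := F) (fix g ⊔ (fix g).map e)
  omega

theorem four_mul_fix_le [Finite F] (G : Subgroup (GL (Fin n) F)) (hsol : IsSolvable G)
    (hirr : ActsIrreducibly (matrixSet G))
    (hprim : ∀ (m t : ℕ) (D : Fin t → Submodule F (Fin n → F)),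
      2 ≤ t → IsMDecomposition m D → ¬ G ≤ decompositionStabilizer D)
    (g : GL (Fin n) F) (hg : g ∈ G) (hg1 : g ≠ 1) : 4 * Module.finrank F (fix g) ≤ 3 * n := by
  classical
  rcases Nat.eq_zero_or_pos n with rfl | hn
  · have := Submodule.finrank_le (R := F) (fix g)
    simp at this ⊢
    omega
  haveI : Nonempty (Fin n) := ⟨⟨0, hn⟩⟩
  haveI : Finite (GL (Fin n) F) := by
    haveI : Finite (Matrix (Fin n) (Fin n) F) := inferInstanceAs (Finite (Fin n → Fin n → F))
    infer_instance
  obtain ⟨A, N, hAn, hNn, hAN, hAc, hNC, hNN, hcent⟩ := exists_pair hsol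
  have hfpf : ∀ a : G, a ∈ A → a ≠ 1 → Module.finrank F (fix (a : GL (Fin n) F)) = 0 := by
    intro a ha ha1
    set B := A.map G.subtype
    have hN' : ∀ x ∈ G, ∀ b ∈ B, x * b * x⁻¹ ∈ B := by
      rintro x hx _ ⟨b, hb, rfl⟩
      exact ⟨(⟨x, hx⟩ : G) * b * (⟨x, hx⟩ : G)⁻¹, hAn.conj_mem b hb ⟨x, hx⟩, rfl⟩
    have hbc : ∀ y ∈ alg B, y ∈ cent (matrixSet B) := by
      refine alg_le_iff.2 ?_
      rintro _ ⟨b, hb, rfl⟩
      refine mem_cent.2 ?_
      rintro _ ⟨_, ⟨c, hc, rfl⟩, rfl⟩
      have h := congrArg (Subgroup.subtype G) (Subgroup.mem_centralizer_iff.1 (hAc hb) c hc)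
      exact congrArg Units.val (by simpa using h)
    rcases field_or_decomposition hirr (Z := alg B) (fun u hu v hv => commute_of_alg hu (hbc v hv))
      (fun x hx u hu => cj_mem_alg (hN' x hx) hu) with ⟨t, m, D, hD, hle⟩ | hfld
    · exact absurd hle (hprim m t D hD.two_le hD)
    have hamem : ((a : GL (Fin n) F) : Matrix (Fin n) (Fin n) F) - 1 ∈ alg B :=
      (alg B).sub_mem (val_mem_alg ⟨a, ha, rfl⟩) (alg B).one_mem
    obtain ⟨y, hy, hy1⟩ := hfld _ hamem (fun h => ha1 (Subtype.ext (Units.ext (sub_eq_zero.1 h))))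
    rw [Submodule.finrank_eq_zero, eq_bot_iff]
    intro v hv
    rw [Submodule.mem_bot]
    have h := congrArg (· *ᵥ v) (mul_eq_one_comm.1 hy1)
    simp only [← Matrix.mulVec_mulVec, Matrix.one_mulVec, Matrix.sub_mulVec] at h
    rw [mem_fix.1 hv, sub_self, Matrix.mulVec_zero] at h
    exact h.symm
  have comm : ∀ (u x : G), u * x ≠ x * u → u * (x * u⁻¹ * x⁻¹) ≠ 1 := fun u x h h' =>
    h (mul_inv_eq_one.1 (by rw [mul_inv_rev]; simpa [mul_assoc] using h'))
  have half : ∀ (u x : G), u * x ≠ x * u → u * (x * u⁻¹ * x⁻¹) ∈ A →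
      2 * Module.finrank F (fix (u : GL (Fin n) F)) ≤ n := fun u x h hA => by
    have h1 := two_mul_fix_le (u : GL (Fin n) F) (x : GL (Fin n) F)
    have h2 := hfpf _ hA (comm u x h)
    push_cast at h2
    omega
  set u : G := ⟨g, hg⟩
  have hu1 : u ≠ 1 := fun h => hg1 (congrArg Subtype.val h)
  show 4 * Module.finrank F (fix (u : GL (Fin n) F)) ≤ 3 * n
  by_cases huA : u ∈ A
  · rw [hfpf u huA hu1]; omega
  by_cases hc : u ∈ Subgroup.centralizer (A : Set G)
  swap
  · rw [Subgroup.mem_centralizer_iff] at hc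
    push_neg at hc
    obtain ⟨a, ha, hne⟩ := hc
    have := half u a hne.symm (by
      simpa [mul_assoc] using A.mul_mem (hAn.conj_mem a ha u) (A.inv_mem ha))
    omega
  have hnN : ¬ u ∈ Subgroup.centralizer (N : Set G) := fun h => huA (hcent ⟨hc, h⟩)
  rw [Subgroup.mem_centralizer_iff] at hnN
  push_neg at hnN
  obtain ⟨x, hx, hne⟩ := hnN
  set h := u * (x * u⁻¹ * x⁻¹) with hdef
  have hhN : h ∈ N := by
    simpa [hdef, mul_assoc] using N.mul_mem (hNn.conj_mem x hx u) (N.inv_mem hx)
  have h1 := two_mul_fix_le (u : GL (Fin n) F) (x : GL (Fin n) F)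
  by_cases hhA : h ∈ A
  · have := half u x hne.symm hhA
    omega
  have hh' : ¬ h ∈ Subgroup.centralizer (N : Set G) := fun hh => hhA (hcent ⟨hNC hhN, hh⟩)
  rw [Subgroup.mem_centralizer_iff] at hh'
  push_neg at hh'
  obtain ⟨y, hy, hne'⟩ := hh'
  have h2 := half h y hne'.symm (by
    simpa [commutatorElement_def, mul_assoc] using hNN (Subgroup.commutator_mem_commutator hhN hy))
  have e : (h : GL (Fin n) F) =
      (u : GL (Fin n) F) * ((x : GL (Fin n) F) * (u : GL (Fin n) F)⁻¹ * (x : GL (Fin n) F)⁻¹) := by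
    simp [hdef]
  rw [← e] at h1
  omega

end CfsgLib.Aschbacher.SolvableFix
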