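import Cfsg.Agent.Lib.Aschbacher.Realise
import Cfsg.Agent.Lib.Aschbacher.Forms

/-!
# Aschbacher's theorem: minimal normal subgroups abelian modulo scalars
-/

set_option autoImplicit false

namespace CfsgLib.Aschbacher

open Cfsg Cfsg.Geo
open scoped Matrix MatrixGroups

variable {ι : Type} [Fintype ι] [DecidableEq ι] {F : Type*} [Field F]

/-- The scalar matrix of a unit. -/
def sc (c : Fˣ) : GL ι F := Units.map (Matrix.scalar ι : F →+* Matrix ι ι F).toMonoidHom c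

theorem sc_val (c : Fˣ) : ((sc c : GL ι F) : Matrix ι ι F) = (c : F) • (1 : Matrix ι ι F) := by
  simp [sc, Matrix.smul_one_eq_diagonal]

theorem sc_mul (c d : Fˣ) : (sc (c * d) : GL ι F) = sc c * sc d := map_mul _ c d
theorem sc_one : (sc 1 : GL ι F) = 1 := map_one _
theorem sc_pow (c : Fˣ) (k : ℕ) : (sc (c ^ k) : GL ι F) = sc c ^ k := map_pow _ c k
theorem sc_inv (c : Fˣ) : (sc c⁻¹ : GL ι F) = (sc c)⁻¹ := map_inv _ c

theorem sc_comm (c : Fˣ) (g : GL ι F) : sc c * g = g * sc c :=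
  Units.ext (by simp [sc_val])

theorem sc_mem (c : Fˣ) : (sc c : GL ι F) ∈ scalars ι F := ⟨c, rfl⟩

theorem exists_sc {g : GL ι F} (h : g ∈ scalars ι F) : ∃ c, sc c = g := h

theorem sc_inj [Nonempty ι] {c d : Fˣ} (h : (sc c : GL ι F) = sc d) : c = d := by
  obtain ⟨i⟩ := ‹Nonempty ι›
  refine Units.ext ?_
  have := congrArg (fun g : GL ι F => (g : Matrix ι ι F) i i) h
  simpa [sc_val] using this

theorem sc_mul_val (c : Fˣ) (g : GL ι F) : ((sc c * g : GL ι F) : Matrix ι ι F) = (c : F) • (g : Matrix ι ι F) := by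
  simp [sc_val]

/-- Powers of a product in a group with central commutators. -/
theorem mul_pow_class_two {x y : GL ι F} {c : Fˣ} (h : y * x = sc c * (x * y)) (k : ℕ) :
    (x * y) ^ k = sc (c ^ k.choose 2) * (x ^ k * y ^ k) := by
  have hy : ∀ j : ℕ, y ^ j * x = sc (c ^ j) * (x * y ^ j) := fun j => by
    induction j with
    | zero => simp [sc_one]
    | succ j ih =>
      rw [pow_succ' y, mul_assoc, ih, ← mul_assoc y, ← sc_comm, mul_assoc, ← mul_assoc y x, h, pow_succ,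
        sc_mul, mul_assoc, mul_assoc, mul_assoc]
  induction k with
  | zero => simp [sc_one]
  | succ k ih =>
    rw [pow_succ (x * y), ih, mul_assoc, mul_assoc (x ^ k), ← mul_assoc (y ^ k), hy k, ← mul_assoc (x ^ k),
      ← mul_assoc (x ^ k), ← sc_comm, Nat.choose_succ_succ', Nat.choose_one_right, add_comm (k : ℕ), pow_add,
      sc_mul, pow_succ x, pow_succ y]
    simp only [mul_assoc]

variable [Finite F]

/-- A product of a unit with a power of a non-`r`-th power is an `r`-th power. -/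
theorem solve_pow {r : ℕ} (hr : r.Prime) {μ : Fˣ} (hμ : ∀ b, b ^ r ≠ μ) (l : Fˣ) :
    ∃ (j : ℕ) (b : Fˣ), b ^ r = l * μ ^ j := by
  haveI : Fact r.Prime := ⟨hr⟩
  obtain ⟨g, hg⟩ := IsCyclic.exists_monoid_generator (α := Fˣ)
  obtain ⟨a, rfl⟩ := hg μ
  obtain ⟨b, rfl⟩ := hg l
  have ha : (a : ZMod r) ≠ 0 := fun h => by
    obtain ⟨a', rfl⟩ := (ZMod.natCast_eq_zero_iff _ _).1 h
    exact hμ (g ^ a') (by simp only [← pow_mul]; rw [mul_comm])
  obtain ⟨j, hj⟩ : ∃ j : ℕ, (j : ZMod r) = -(b : ZMod r) / a := ⟨_, ZMod.natCast_zmod_val _⟩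
  have h0 : ((b + a * j : ℕ) : ZMod r) = 0 := by
    push_cast
    rw [hj]; field_simp; ring
  obtain ⟨k, hk⟩ := (ZMod.natCast_eq_zero_iff _ _).1 h0
  exact ⟨j, g ^ k, by simp only [← pow_mul, ← pow_add, hk]; rw [mul_comm]⟩

/-- A form from a twisted character. -/
theorem form_of_twist [Nonempty ι] {R : Subgroup (GL ι F)} (hR : ActsAbsolutelyIrreducibly (matrixSet R))
    {κ : Type*} [Fintype κ] (t : κ → GL ι F) (htR : ∀ k, t k ∈ R)
    (b : Module.Basis κ F (Matrix ι ι F)) (hb : ∀ k, b k = t k) {z : ℕ}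
    (hcov : ∀ x ∈ R, ∃ k, ∃ c : Fˣ, c ^ z = 1 ∧ x = sc c * t k) (σ : F ≃+* F) (hσ : ∀ a, σ (σ a) = a)
    (hz : ∀ c : Fˣ, c ^ z = 1 → σ (c : F) = (c : F)⁻¹) :
    ∃ (J : Matrix ι ι F) (l : F), IsUnit J ∧ (J.map σ)ᵀ = l • J ∧
      ∀ x ∈ R, (x : Matrix ι ι F)ᵀ * J * (x : Matrix ι ι F).map σ = J := by
  classical
  let Φ : GL ι F → Matrix ι ι F := fun x => ((↑x⁻¹ : Matrix ι ι F).map σ)ᵀ
  have hΦmul : ∀ x y, Φ (x * y) = Φ x * Φ y := fun x y => by
    simp only [Φ, mul_inv_rev, Units.val_mul, map_mul_equiv, Matrix.transpose_mul]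
  have hΦsc : ∀ c : Fˣ, c ^ z = 1 → ∀ x, Φ (sc c * x) = (c : F) • Φ x := fun c hc x => by
    simp only [Φ, mul_inv_rev, ← sc_inv, ← sc_comm, sc_mul_val]
    rw [Matrix.map_smul' (hf := map_mul σ), Matrix.transpose_smul, Units.val_inv_eq_inv_val, map_inv₀, hz c hc,
      inv_inv]
  let L : Matrix ι ι F →ₗ[F] Matrix ι ι F := b.constr F fun k => Φ (t k)
  have hLt : ∀ k, L (t k : Matrix ι ι F) = Φ (t k) := fun k => by rw [← hb k]; exact b.constr_basis F _ k
  have hLR : ∀ x ∈ R, L (x : Matrix ι ι F) = Φ x := fun x hx => by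
    obtain ⟨k, c, hc, rfl⟩ := hcov x hx
    rw [sc_mul_val, map_smul, hLt, hΦsc c hc]
  have hL1 : L 1 = 1 := by
    have h1 := hLR 1 R.one_mem
    rw [Units.val_one] at h1
    rw [h1]
    simp [Φ, Matrix.map_one σ (map_zero σ) (map_one σ)]
  have hLmul : ∀ A B, L (A * B) = L A * L B := by
    have h : (LinearMap.mul F (Matrix ι ι F)).compr₂ L = (LinearMap.mul F (Matrix ι ι F)).compl₁₂ L L := by
      refine b.ext fun i => b.ext fun j => ?_
      simp only [LinearMap.compr₂_apply, LinearMap.compl₁₂_apply, LinearMap.mul_apply', hb, hLt]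
      rw [← Units.val_mul, hLR _ (R.mul_mem (htR i) (htR j)), hΦmul]
    exact fun A B => LinearMap.congr_fun (LinearMap.congr_fun h A) B
  obtain ⟨P, hP⟩ := skolem_noether (AlgHom.ofLinearMap L hL1 hLmul)
  have hfix0 : ∀ x ∈ R, ((x : Matrix ι ι F).map σ)ᵀ * (P : Matrix ι ι F) * (x : Matrix ι ι F) = P := by
    intro x hx
    have h1 : Φ x = cj P (x : Matrix ι ι F) := (hLR x hx).symm.trans (hP _)
    have h2 : Φ x * (P : Matrix ι ι F) = (P : Matrix ι ι F) * x := by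
      rw [h1, cj_apply]; simp [mul_assoc]
    rw [mul_assoc, ← h2, ← mul_assoc]
    simp only [Φ, ← Matrix.transpose_mul, ← map_mul_equiv, Units.inv_mul,
      Matrix.map_one σ (map_zero σ) (map_one σ), Matrix.transpose_one, one_mul]
  set J := (P : Matrix ι ι F).map σ
  have hJ : IsUnit J := P.isUnit.map (RingHom.mapMatrix (σ : F →+* F))
  have hσσ : ∀ M : Matrix ι ι F, (M.map σ).map σ = M := fun M => by ext; simp [hσ]
  have hfix : ∀ x ∈ R, (x : Matrix ι ι F)ᵀ * J * (x : Matrix ι ι F).map σ = J := fun x hx => by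
    have := congrArg (fun M : Matrix ι ι F => M.map σ) (hfix0 x hx)
    simpa only [map_mul_equiv, Matrix.transpose_map, hσσ] using this
  obtain ⟨l, hl⟩ := unique_gram hR σ hJ hfix (J' := (J.map σ)ᵀ) fun x hx => by
    rw [hσσ]
    have := congrArg Matrix.transpose (hfix0 x hx)
    simpa only [Matrix.transpose_mul, Matrix.transpose_transpose, mul_assoc] using this
  exact ⟨J, l, hJ, hl, hfix⟩

/-- The hypotheses of the abelian case. -/
structure AbelianData (G N : Subgroup (GL ι F)) : Prop where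
  scal : scalars ι F ≤ N
  le : N ≤ G
  normal : ∀ g ∈ G, ∀ a ∈ N, g * a * g⁻¹ ∈ N
  comm : ∀ x ∈ N, ∀ y ∈ N, x * y * x⁻¹ * y⁻¹ ∈ scalars ι F
  min : ∀ M : Subgroup (GL ι F), scalars ι F ≤ M → M ≤ N → (∀ g ∈ G, ∀ a ∈ M, g * a * g⁻¹ ∈ M) →
    M = scalars ι F ∨ M = N
  absIrred : ActsAbsolutelyIrreducibly (matrixSet N)
  ne : N ≠ scalars ι F

variable {G N : Subgroup (GL ι F)}

theorem AbelianData.eq_sc [Nonempty ι] (h : AbelianData G N) {x : GL ι F}
    (hx : ∀ y ∈ N, x * y = y * x) : x ∈ scalars ι F := by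
  obtain ⟨c, hc⟩ := eq_smul_one_of_commutes h.absIrred (x := (x : Matrix ι ι F)) fun g hg =>
    congrArg Units.val (hx g hg)
  exact mem_scalars_of_eq_smul hc

theorem AbelianData.exists_noncomm [Nonempty ι] (h : AbelianData G N) {x : GL ι F}
    (hx : x ∉ scalars ι F) : ∃ y ∈ N, x * y ≠ y * x := by
  by_contra hc
  exact hx (h.eq_sc fun y hy => by_contra fun e => hc ⟨y, hy, e⟩)

theorem AbelianData.exists_comm (h : AbelianData G N) {x y : GL ι F} (hx : x ∈ N) (hy : y ∈ N) :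
    ∃ c : Fˣ, y * x = sc c * (x * y) := by
  obtain ⟨c, hc⟩ := exists_sc (h.comm y hy x hx)
  exact ⟨c, by rw [hc]; group⟩

end CfsgLib.Aschbacher
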