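import Cfsg.Agent.Lib.Aschbacher.Units
import Cfsg.Agent.Lib.Aschbacher.AbelianMain

/-!
# Aschbacher's theorem: tensor decompositions
-/

set_option autoImplicit false

namespace CfsgLib.Aschbacher

open Cfsg Cfsg.Geo
open scoped Matrix MatrixGroups Kronecker

universe u
variable {F : Type u} [Field F]

section
variable {ι : Type} [Fintype ι] [DecidableEq ι]

theorem absIrred_of_alg_top {N : Subgroup (GL ι F)} (h : alg N = ⊤) :
    ActsAbsolutelyIrreducibly (matrixSet N) := by
  classical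
  refine ⟨fun W hW => ?_, fun M hM => ?_⟩
  · by_contra hc
    rw [not_or] at hc
    obtain ⟨v, hv, hv0⟩ := Submodule.exists_mem_ne_zero_of_ne_bot hc.1
    obtain ⟨j, hj⟩ := Function.ne_iff.1 hv0
    refine hc.2 (eq_top_iff.2 fun w _ => ?_)
    have h1 := alg_invariant (N := N) (W := W) (fun g hg u hu => hW _ (val_mem_matrixSet hg) ⟨u, hu, rfl⟩)
      (x := Matrix.vecMulVec w (Pi.single j (v j)⁻¹)) (h ▸ Algebra.mem_top) v hv
    have hw : Matrix.vecMulVec w (Pi.single j (v j)⁻¹) *ᵥ v = w := by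
      funext i
      rw [Matrix.mulVec, dotProduct, Finset.sum_eq_single j]
      · rw [Matrix.vecMulVec_apply, Pi.single_eq_same, mul_assoc, inv_mul_cancel₀ hj, mul_one]
      · intro b _ hb; simp [Matrix.vecMulVec_apply, hb]
      · simp
    rwa [hw] at h1
  · have hall : ∀ x : Matrix ι ι F, x * M = M * x := fun x =>
      commute_of_alg (N := N) (h ▸ Algebra.mem_top) (mem_cent.2 fun s hs => (hM s hs).symm)
    obtain ⟨c, hc⟩ : M ∈ Set.range (Matrix.scalar ι : F →+* Matrix ι ι F) :=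
      Matrix.mem_range_scalar_of_commute_single fun i j _ => hall (Matrix.single i j 1)
    exact ⟨c, by rw [← hc]; simp [Matrix.smul_one_eq_diagonal]⟩

theorem similitude_of_gram {G : Subgroup (GL ι F)} {J : Matrix ι ι F}
    (h : ∀ g ∈ G, ∃ c : Fˣ, (g : Matrix ι ι F)ᵀ * J * (g : Matrix ι ι F) = (c : F) • J) :
    G ≤ similarityGroup (formOfGram (RingEquiv.refl F) J) := fun g hg => by
  obtain ⟨c, hc⟩ := h g hg
  refine ⟨c, fun u v => ?_⟩
  rw [formOfGram_mulVec, show (g : Matrix ι ι F).map (RingEquiv.refl F) = (g : Matrix ι ι F) from Matrix.ext fun _ _ => rfl,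
    hc, formOfGram_smul]

end

variable [Fintype F] {n : ℕ}

/-- Class 8 from a Gram matrix fixed up to scalars. -/
theorem class8_of_gram (hn : 4 ≤ n) (hev : Even n) {G : Subgroup (GL (Fin n) F)} {κ : Type} [Fintype κ]
    [DecidableEq κ] (e : Fin n ≃ κ) (P : GL (Fin n) F) {J : Matrix κ κ F} (hJ : IsUnit J)
    (hd : ∀ i, J i i = 0) (hs : Jᵀ = J ∨ Jᵀ = -J)
    (hg : ∀ g ∈ G, ∃ (a : Matrix κ κ F) (c : Fˣ), (g : Matrix (Fin n) (Fin n) F) = cj P (a.submatrix e e) ∧
      aᵀ * J * a = (c : F) • J) : InClassOver G := by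
  classical
  haveI : Nonempty (Fin n) := ⟨⟨0, by omega⟩⟩
  set J₀ := J.submatrix e e
  set Q := (↑P⁻¹ : Matrix (Fin n) (Fin n) F) with hQ
  set J' := Qᵀ * J₀ * Q
  have hJ₀ : IsUnit J₀ := hJ.map (Matrix.reindexAlgEquiv F F e.symm).toMonoidHom
  have hJ' : IsUnit J' := (((Matrix.isUnit_transpose _).2 (P⁻¹).isUnit).mul hJ₀).mul (P⁻¹).isUnit
  have hle : G ≤ similarityGroup (formOfGram (RingEquiv.refl F) J') := similitude_of_gram fun g hgG => by
    obtain ⟨a, c, hga, hc⟩ := hg g hgG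
    refine ⟨c, ?_⟩
    rw [hga, cj_apply]
    set A := a.submatrix e e
    have hA : Aᵀ * J₀ * A = (c : F) • J₀ := by
      show (a.submatrix e e)ᵀ * J.submatrix e e * a.submatrix e e = _
      rw [Matrix.transpose_submatrix, Matrix.submatrix_mul_equiv, Matrix.submatrix_mul_equiv, hc]
      rfl
    have hQP : Q * (P : Matrix (Fin n) (Fin n) F) = 1 := P.inv_mul
    calc ((P : Matrix (Fin n) (Fin n) F) * A * Q)ᵀ * (Qᵀ * J₀ * Q) * ((P : Matrix (Fin n) (Fin n) F) * A * Q)
        = Qᵀ * Aᵀ * (Q * (P : Matrix (Fin n) (Fin n) F))ᵀ * J₀ * (Q * (P : Matrix (Fin n) (Fin n) F)) * A * Q := by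
          simp only [Matrix.transpose_mul, mul_assoc]
      _ = Qᵀ * (Aᵀ * J₀ * A) * Q := by rw [hQP]; simp [mul_assoc]
      _ = (c : F) • (Qᵀ * J₀ * Q) := by rw [hA, Matrix.mul_smul, Matrix.smul_mul]
  by_cases hsym : Jᵀ = J ∧ (2 : F) ≠ 0
  · obtain ⟨hQ', hQle⟩ := quad_of_gram hsym.2 hJ' (show J'ᵀ = J' by
      simp only [J', J₀, Matrix.transpose_mul, Matrix.transpose_transpose, Matrix.transpose_submatrix, hsym.1,
        mul_assoc])
    refine ⟨_, ?_, hle.trans hQle⟩
    iterate 11 right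
    refine ⟨_, hQ', ?_, by omega, rfl⟩
    obtain ⟨p, hp⟩ := CharP.exists F
    haveI : Fact p.Prime := ⟨CharP.char_is_prime F p⟩
    obtain ⟨e', -, he⟩ := FiniteField.card F p
    rw [he]
    refine Odd.pow ((CharP.char_is_prime F p).eq_two_or_odd'.resolve_left fun e2 => ?_)
    subst e2
    exact hsym.2 (CharP.cast_eq_zero F 2)
  · have hskew : Jᵀ = -J := by
      rcases hs with h | h
      · have h2 : (2 : F) = 0 := not_not.1 fun h2 => hsym ⟨h, h2⟩
        rw [h]
        ext i j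
        rw [Matrix.neg_apply]
        linear_combination (J i j) * h2
      · exact h
    have hs0 : J₀ᵀ = -J₀ := by
      simp only [J₀, Matrix.transpose_submatrix, hskew]; rfl
    have hS := symplectic_of_gram hJ₀ hs0 fun i => hd (e i)
    have hS' : IsSymplecticForm (formOfGram (RingEquiv.refl F) J') := symplectic_of_gram hJ'
      (by simp only [J', Matrix.transpose_mul, Matrix.transpose_transpose, hs0, mul_assoc, neg_mul, mul_neg])
      fun i => by
        rw [← formOfGram_single (RingEquiv.refl F) J' i i]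
        have := formOfGram_mulVec (RingEquiv.refl F) J₀ Q (Pi.single i 1) (Pi.single i 1)
        rw [hS.alternating, show Q.map (RingEquiv.refl F) = Q from Matrix.ext fun _ _ => rfl] at this
        exact this.symm
    refine ⟨_, ?_, hle⟩
    iterate 9 right
    exact Or.inl ⟨_, hS', hev, hn, rfl⟩

/-- The standard alternating Gram matrix in dimension two. -/
def omega2 (F : Type u) [Field F] : Matrix (Fin 2) (Fin 2) F := !![0, 1; -1, 0]

theorem omega2_congr (a : Matrix (Fin 2) (Fin 2) F) : aᵀ * omega2 F * a = a.det • omega2 F := by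
  ext i j
  fin_cases i <;> fin_cases j <;>
    simp [omega2, Matrix.mul_apply, Fin.sum_univ_two, Matrix.det_fin_two] <;> ring

theorem omega2_unit : IsUnit (omega2 F) := by
  rw [Matrix.isUnit_iff_isUnit_det]; simp [omega2, Matrix.det_fin_two]

omit [Fintype F] in
theorem block_of_commutes {κ μ : Type} [Fintype κ] [DecidableEq κ] [Fintype μ] [DecidableEq μ] [Nonempty κ]
    {u : Matrix (κ × μ) (κ × μ) F}
    (h : ∀ a : Matrix κ κ F, u * (a ⊗ₖ (1 : Matrix μ μ F)) = (a ⊗ₖ (1 : Matrix μ μ F)) * u) :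
    ∃ b : Matrix μ μ F, u = (1 : Matrix κ κ F) ⊗ₖ b := by
  classical
  obtain ⟨p⟩ := ‹Nonempty κ›
  refine ⟨Matrix.of fun i j => u (p, i) (p, j), Matrix.ext fun x y => ?_⟩
  obtain ⟨x, i⟩ := x; obtain ⟨y, j⟩ := y
  have key : ∀ q r : κ, ∀ (s t : κ), u (s, i) (q, j) * (if r = t then 1 else 0) =
      (if s = q then 1 else 0) * u (r, i) (t, j) := by
    intro q r s t
    have := congrFun (congrFun (h (Matrix.single q r 1)) (s, i)) (t, j)
    rw [Matrix.mul_apply, Matrix.mul_apply, Finset.sum_eq_single (q, j), Finset.sum_eq_single (r, i)] at this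
    · simpa [Matrix.kronecker_apply, Matrix.single, Matrix.one_apply, eq_comm] using this
    · rintro ⟨a, b⟩ _ hne
      rw [Matrix.kronecker_apply]
      by_cases h1 : a = r
      · subst h1
        have : i ≠ b := fun e => hne (by rw [e])
        rw [Matrix.one_apply_ne this, mul_zero, zero_mul]
      · simp [Matrix.single, Ne.symm h1]
    · simp
    · rintro ⟨a, b⟩ _ hne
      rw [Matrix.kronecker_apply]
      by_cases h1 : a = q
      · subst h1
        have : b ≠ j := fun e => hne (by rw [e])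
        rw [Matrix.one_apply_ne this, mul_zero, mul_zero]
      · simp [Matrix.single, Ne.symm h1]
    · simp
  show u (x, i) (y, j) = (1 : Matrix κ κ F) x y * u (p, i) (p, j)
  rw [Matrix.one_apply]
  rcases eq_or_ne x y with rfl | hxy
  · have := key x p x p
    simpa using this
  · have := key y p x p
    simpa [hxy] using this

theorem glReindex_val {ι κ : Type} [Fintype ι] [DecidableEq ι] [Fintype κ] [DecidableEq κ] (e : ι ≃ κ)
    (a : GL κ F) : ((glReindex e.symm a : GL ι F) : Matrix ι ι F) = (a : Matrix κ κ F).submatrix e e := rfl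

/-- A group normalising a full matrix subalgebra stabilises a tensor decomposition. -/
theorem tensor_case (hn : 3 ≤ n) {G : Subgroup (GL (Fin n) F)} {d : ℕ} (hd : 2 ≤ d)
    (φ : Matrix (Fin d) (Fin d) F →ₐ[F] Matrix (Fin n) (Fin n) F) (hinj : Function.Injective φ)
    (hG : ∀ g ∈ G, ∀ x ∈ φ.range, cj g x ∈ φ.range) (htop : φ.range ≠ ⊤) : InClassOver G := by
  classical
  haveI : Nonempty (Fin d) := ⟨⟨0, by omega⟩⟩
  obtain ⟨k, b, P, hP⟩ := algHom_basis φ
  have hnk : n = d * k := by simpa using card_eq_of_equiv b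
  have hk0 : 0 < k := Nat.pos_of_ne_zero fun e => by rw [e, mul_zero] at hnk; omega
  haveI : Nonempty (Fin k) := ⟨⟨0, hk0⟩⟩
  haveI : Nonempty (Fin n) := ⟨⟨0, by omega⟩⟩
  have hk1 : k ≠ 1 := fun e => htop (by
    refine Subalgebra.toSubmodule.injective ((Submodule.eq_top_of_finrank_eq ?_).trans Algebra.top_toSubmodule.symm)
    have h1 : Module.finrank F φ.range = d * d := by
      rw [← (AlgEquiv.ofInjective φ hinj).toLinearEquiv.finrank_eq, Module.finrank_matrix, Module.finrank_self,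
        Fintype.card_fin, mul_one]
    show Module.finrank F φ.range = _
    rw [h1, Module.finrank_matrix, Module.finrank_self, Fintype.card_fin, mul_one, hnk, e, mul_one])
  have hdec : ∀ g ∈ G, ∃ (A : GL (Fin d) F) (B : GL (Fin k) F), (g : Matrix (Fin n) (Fin n) F) =
      cj P (((A : Matrix (Fin d) (Fin d) F) ⊗ₖ (B : Matrix (Fin k) (Fin k) F)).submatrix b b) := by
    intro g hg
    let E := AlgEquiv.ofInjective φ hinj
    let cg : φ.range →ₐ[F] φ.range :=
      ((cj g).toAlgHom.comp φ.range.val).codRestrict φ.range fun x => hG g hg x x.2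
    obtain ⟨A, hA⟩ := skolem_noether ((E.symm.toAlgHom.comp cg).comp E.toAlgHom)
    have hφA : ∀ a, cj g (φ a) = φ (cj A a) := fun a => by
      rw [← hA a]
      have := congrArg Subtype.val (E.apply_symm_apply (cg (E a)))
      exact this.symm
    let R := Matrix.reindexAlgEquiv F F b
    let K : GL (Fin d × Fin k) F →* GL (Fin d × Fin k) F := MonoidHom.id _
    let AK : GL (Fin d × Fin k) F := Units.mk ((A : Matrix _ _ F) ⊗ₖ (1 : Matrix (Fin k) (Fin k) F))
      ((↑A⁻¹ : Matrix _ _ F) ⊗ₖ (1 : Matrix (Fin k) (Fin k) F))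
      (by rw [← Matrix.mul_kronecker_mul, Units.mul_inv, mul_one, Matrix.one_kronecker_one])
      (by rw [← Matrix.mul_kronecker_mul, Units.inv_mul, mul_one, Matrix.one_kronecker_one])
    let g' : GL (Fin d × Fin k) F := glReindex b (P⁻¹ * g * P)
    let u := AK⁻¹ * g'
    have hR : ∀ a : Matrix (Fin d) (Fin d) F, R (cj P⁻¹ (φ a)) = a ⊗ₖ (1 : Matrix (Fin k) (Fin k) F) := fun a => by
      rw [hP, cj_inv_cj]
      ext x y
      simp [R, Matrix.reindexAlgEquiv_apply]
    have hg' : ∀ a : Matrix (Fin d) (Fin d) F,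
        cj g' (a ⊗ₖ (1 : Matrix (Fin k) (Fin k) F)) = cj A a ⊗ₖ (1 : Matrix (Fin k) (Fin k) F) := fun a => by
      rw [← hR a, ← hR (cj A a), ← hφA a]
      show (g' : Matrix (Fin d × Fin k) (Fin d × Fin k) F) * R (cj P⁻¹ (φ a)) *
        ((↑g'⁻¹ : Matrix (Fin d × Fin k) (Fin d × Fin k) F)) = _
      show R ((P⁻¹ * g * P : GL (Fin n) F) : Matrix (Fin n) (Fin n) F) * R (cj P⁻¹ (φ a)) *
        R ((↑(P⁻¹ * g * P)⁻¹ : Matrix (Fin n) (Fin n) F)) = _
      rw [← map_mul, ← map_mul]
      congr 1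
      simp [cj_apply, mul_assoc]
    have hu : ∀ a : Matrix (Fin d) (Fin d) F, cj u (a ⊗ₖ (1 : Matrix (Fin k) (Fin k) F)) =
        a ⊗ₖ (1 : Matrix (Fin k) (Fin k) F) := fun a => by
      rw [← cj_cj, hg']
      show ((↑A⁻¹ : Matrix _ _ F) ⊗ₖ (1 : Matrix (Fin k) (Fin k) F)) * (cj A a ⊗ₖ 1) *
        ((A : Matrix _ _ F) ⊗ₖ (1 : Matrix (Fin k) (Fin k) F)) = _
      rw [← Matrix.mul_kronecker_mul, ← Matrix.mul_kronecker_mul]
      simp [cj_apply, mul_assoc]
    obtain ⟨B, hB⟩ := block_of_commutes fun a => (cj_eq_self_iff u _).1 (hu a)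
    obtain ⟨B', hB'⟩ := block_of_commutes (u := (↑u⁻¹ : Matrix (Fin d × Fin k) (Fin d × Fin k) F)) fun a =>
      (cj_eq_self_iff u⁻¹ _).1 (by
        conv_lhs => rw [← hu a]
        rw [cj_inv_cj])
    have hmul : ∀ X Y : Matrix (Fin d × Fin k) (Fin d × Fin k) F, X * Y = 1 → ∀ C D,
        X = (1 : Matrix (Fin d) (Fin d) F) ⊗ₖ C → Y = (1 : Matrix (Fin d) (Fin d) F) ⊗ₖ D → C * D = 1 := by
      intro X Y h C D hX hY
      rw [hX, hY, ← Matrix.mul_kronecker_mul, mul_one] at h
      ext i j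
      have := congrFun (congrFun h (Classical.arbitrary _, i)) (Classical.arbitrary _, j)
      simpa [Matrix.kronecker_apply, Matrix.one_apply] using this
    refine ⟨A, ⟨B, B', hmul _ _ u.mul_inv _ _ hB hB', hmul _ _ u.inv_mul _ _ hB' hB⟩, ?_⟩
    have hg2 : (g' : Matrix (Fin d × Fin k) (Fin d × Fin k) F) =
        (A : Matrix (Fin d) (Fin d) F) ⊗ₖ B := by
      rw [show g' = AK * u by simp [u], Units.val_mul, hB]
      show ((A : Matrix _ _ F) ⊗ₖ (1 : Matrix (Fin k) (Fin k) F)) * ((1 : Matrix (Fin d) (Fin d) F) ⊗ₖ B) = _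
      rw [← Matrix.mul_kronecker_mul, mul_one, one_mul]
    have h3 : ((P⁻¹ * g * P : GL (Fin n) F) : Matrix (Fin n) (Fin n) F) =
        ((A : Matrix (Fin d) (Fin d) F) ⊗ₖ B).submatrix b b := by
      rw [← hg2]
      ext x y
      simp [g', glReindex, Matrix.reindexAlgEquiv_apply]
    show _ = cj P (((A : Matrix (Fin d) (Fin d) F) ⊗ₖ B).submatrix b b)
    rw [← h3, cj_val]
    congr 1
    group
  have hmem : ∀ {n₁ n₂ : ℕ} (e : Fin n ≃ Fin n₁ × Fin n₂) (A : GL (Fin n₁) F) (B : GL (Fin n₂) F)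
      (g : GL (Fin n) F), (g : Matrix (Fin n) (Fin n) F) = cj P (((A : Matrix _ _ F) ⊗ₖ (B : Matrix _ _ F)).submatrix e e) →
      g ∈ tensorProductSubgroup n₁ n₂ e P := by
    intro n₁ n₂ e A B g hg
    let AB : GL (Fin n₁ × Fin n₂) F := Units.mk ((A : Matrix _ _ F) ⊗ₖ (B : Matrix _ _ F))
      ((↑A⁻¹ : Matrix _ _ F) ⊗ₖ (↑B⁻¹ : Matrix _ _ F))
      (by rw [← Matrix.mul_kronecker_mul, Units.mul_inv, Units.mul_inv, Matrix.one_kronecker_one])
      (by rw [← Matrix.mul_kronecker_mul, Units.inv_mul, Units.inv_mul, Matrix.one_kronecker_one])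
    refine ⟨glReindex e.symm AB, ⟨AB, ⟨A, B, rfl⟩, rfl⟩, Units.ext ?_⟩
    rw [hg, ← glReindex_val e AB, cj_val]
    rfl
  rcases lt_trichotomy d k with hdk | rfl | hkd
  · refine ⟨tensorProductSubgroup d k b P, ?_, fun g hg => ?_⟩
    rotate_left
    · obtain ⟨A, B, h⟩ := hdec g hg
      exact hmem b A B g h
    iterate 5 right
    exact Or.inl ⟨d, k, b, P, hd, hdk, rfl⟩
  · rcases Nat.lt_or_ge d 3 with hd3 | hd3
    · obtain rfl : d = 2 := by omega
      refine class8_of_gram (by omega) ⟨2, by omega⟩ b P (J := omega2 F ⊗ₖ omega2 F) ?_ ?_ (Or.inl ?_) fun g hg => ?_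
      · rw [Matrix.isUnit_iff_isUnit_det, Matrix.det_kronecker]
        exact ((Matrix.isUnit_iff_isUnit_det _).1 omega2_unit).pow _ |>.mul
          (((Matrix.isUnit_iff_isUnit_det _).1 omega2_unit).pow _)
      · rintro ⟨i, j⟩
        fin_cases i <;> simp [omega2, Matrix.kronecker_apply]
      · ext ⟨i, j⟩ ⟨k, l⟩
        fin_cases i <;> fin_cases j <;> fin_cases k <;> fin_cases l <;> simp [omega2, Matrix.kronecker_apply]
      · obtain ⟨A, B, h⟩ := hdec g hg
        refine ⟨_, Matrix.GeneralLinearGroup.det A * Matrix.GeneralLinearGroup.det B, h, ?_⟩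
        rw [← Matrix.kroneckerMap_transpose, ← Matrix.mul_kronecker_mul, ← Matrix.mul_kronecker_mul, omega2_congr,
          omega2_congr, Matrix.smul_kronecker, Matrix.kronecker_smul, smul_smul]
        rfl
    · let e := b.trans (piFinTwoEquiv fun _ => Fin d).symm
      refine ⟨tensorWreathSubgroup d 2 e P, ?_, fun g hg => ?_⟩
      · iterate 8 right
        exact Or.inl ⟨d, 2, e, P, hd3, le_rfl, rfl⟩
      obtain ⟨A, B, h⟩ := hdec g hg
      let f : Fin d × Fin d ≃ (Fin 2 → Fin d) := (piFinTwoEquiv fun _ => Fin d).symm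
      let T : GL (Fin 2 → Fin d) F := glReindex f (Units.mk ((A : Matrix _ _ F) ⊗ₖ (B : Matrix _ _ F))
        ((↑A⁻¹ : Matrix _ _ F) ⊗ₖ (↑B⁻¹ : Matrix _ _ F))
        (by rw [← Matrix.mul_kronecker_mul, Units.mul_inv, Units.mul_inv, Matrix.one_kronecker_one])
        (by rw [← Matrix.mul_kronecker_mul, Units.inv_mul, Units.inv_mul, Matrix.one_kronecker_one]))
      refine ⟨glReindex e.symm T, ⟨T, Subgroup.subset_closure (Or.inl ⟨Fin.cases A fun _ => B, fun x y => ?_⟩),
        rfl⟩, Units.ext ?_⟩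
      · rw [Fin.prod_univ_two]
        rfl
      · rw [h]
        show (_ : Matrix (Fin n) (Fin n) F) = _
        have : ((glReindex e.symm T : GL (Fin n) F) : Matrix (Fin n) (Fin n) F) =
            ((A : Matrix _ _ F) ⊗ₖ (B : Matrix _ _ F)).submatrix b b := by
          rw [glReindex_val]
          ext x y
          simp [T, e, f, glReindex, Matrix.reindexAlgEquiv_apply, Matrix.kronecker_apply]
        rw [← this, cj_val]
        rfl
  · refine ⟨tensorProductSubgroup k d (b.trans (Equiv.prodComm _ _)) P, ?_, fun g hg => ?_⟩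
    rotate_left
    · obtain ⟨A, B, h⟩ := hdec g hg
      refine hmem (b.trans (Equiv.prodComm _ _)) B A g (h.trans ?_)
      congr 1
      ext x y
      simp [Matrix.kronecker_apply, mul_comm]
    iterate 5 right
    exact Or.inl ⟨k, d, b.trans (Equiv.prodComm _ _), P, by omega, hkd, rfl⟩

end CfsgLib.Aschbacher
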