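import Cfsg.Agent.Lib.Aschbacher.Basic

/-!
# Aschbacher's theorem: systems of matrix units

A complete system of matrix units in `M_ι(F)` is the image of `a ↦ a ⊗ 1` in a suitable basis. This gives the
Skolem–Noether theorem and the tensor decompositions needed below.
-/

set_option autoImplicit false

namespace CfsgLib.Aschbacher

open Cfsg Cfsg.Geo
open scoped Matrix MatrixGroups Kronecker

variable {ι : Type} [Fintype ι] [DecidableEq ι] {F : Type*} [Field F]
variable {κ : Type} [Fintype κ] [DecidableEq κ]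

/-- A complete system of matrix units. -/
structure Units' (e : κ → κ → Matrix ι ι F) : Prop where
  mul : ∀ x y z w, e x y * e z w = if y = z then e x w else 0
  sum : ∑ x, e x x = 1

/-- The linear extension of a family indexed by pairs. -/
def ext' (e : κ → κ → Matrix ι ι F) : Matrix κ κ F →ₗ[F] Matrix ι ι F where
  toFun a := ∑ x, ∑ y, a x y • e x y
  map_add' a b := by simp [add_smul, Finset.sum_add_distrib]
  map_smul' c a := by simp [Finset.smul_sum, mul_smul]

theorem ext'_single (e : κ → κ → Matrix ι ι F) (x y : κ) : ext' e (Matrix.single x y 1) = e x y := by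
  show ∑ a, ∑ b, Matrix.single x y (1 : F) a b • e a b = e x y
  rw [Finset.sum_eq_single x, Finset.sum_eq_single y]
  · simp
  · intro b _ hb; simp [Matrix.single, hb.symm]
  · simp
  · intro a _ ha; simp [Matrix.single, ha.symm]
  · simp

/-- A complete system of matrix units is `a ↦ a ⊗ 1` in some basis. -/
theorem Units'.exists_basis [Nonempty κ] {e : κ → κ → Matrix ι ι F} (h : Units' e) :
    ∃ (k : ℕ) (b : ι ≃ κ × Fin k) (P : GL ι F),
      ∀ a, ext' e a = cj P ((a ⊗ₖ (1 : Matrix (Fin k) (Fin k) F)).submatrix b b) := by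
  classical
  let x₀ := Classical.arbitrary κ
  let W := LinearMap.range (Matrix.toLin' (e x₀ x₀))
  have hW : ∀ w ∈ W, e x₀ x₀ *ᵥ w = w := by
    rintro _ ⟨v, rfl⟩
    rw [Matrix.toLin'_apply, Matrix.mulVec_mulVec, h.mul, if_pos rfl]
  let T : (κ → W) →ₗ[F] (ι → F) := ∑ x, ((Matrix.toLin' (e x x₀)).comp W.subtype).comp (LinearMap.proj x)
  have hT : ∀ f : κ → W, T f = ∑ x, e x x₀ *ᵥ (f x : ι → F) := fun f => by simp [T, W]
  have hpick : ∀ (f : κ → W) (x : κ), e x₀ x *ᵥ T f = f x := fun f x => by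
    rw [hT, Matrix.mulVec_sum, Finset.sum_eq_single x]
    · rw [Matrix.mulVec_mulVec, h.mul, if_pos rfl, hW _ (f x).2]
    · intro y _ hy; rw [Matrix.mulVec_mulVec, h.mul, if_neg hy.symm, Matrix.zero_mulVec]
    · simp
  have hinj : Function.Injective T := fun f g e' => funext fun x =>
    Subtype.ext (by rw [← hpick f, ← hpick g, e'])
  have hsurj : Function.Surjective T := fun v => by
    refine ⟨fun x => ⟨e x₀ x *ᵥ v, e x₀ x *ᵥ v, ?_⟩, ?_⟩
    · rw [Matrix.toLin'_apply, Matrix.mulVec_mulVec, h.mul, if_pos rfl]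
    · rw [hT]
      simp only [Matrix.mulVec_mulVec, h.mul, if_true, ← Matrix.sum_mulVec, h.sum, Matrix.one_mulVec]
  let E := LinearEquiv.ofBijective T ⟨hinj, hsurj⟩
  let bW := Module.finBasis F W
  let bb := (Pi.basis (fun _ : κ => bW)).map E
  let s : (Σ _ : κ, Fin (Module.finrank F W)) ≃ κ × Fin (Module.finrank F W) := Equiv.sigmaEquivProd _ _
  let b0 : ι ≃ κ × Fin (Module.finrank F W) := ((Pi.basisFun F ι).indexEquiv bb).trans s
  let B : Module.Basis ι F (ι → F) := (bb.reindex s).reindex b0.symm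
  have hP : IsUnit ((Pi.basisFun F ι).toMatrix B) :=
    letI := Module.Basis.invertibleToMatrix (Pi.basisFun F ι) B
    isUnit_of_invertible _
  refine ⟨_, b0, hP.unit, fun a => ?_⟩
  set P := hP.unit
  have hcol : ∀ i, (P : Matrix ι ι F) *ᵥ Pi.single i 1 = e (b0 i).1 x₀ *ᵥ (bW (b0 i).2 : ι → F) := fun i => by
    funext r
    have hB : B i = e (b0 i).1 x₀ *ᵥ (bW (b0 i).2 : ι → F) := by
      simp only [B, bb, Module.Basis.reindex_apply, Module.Basis.map_apply, Equiv.symm_symm]
      show E (Pi.basis (fun _ : κ => bW) ⟨(b0 i).1, (b0 i).2⟩) = _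
      rw [Pi.basis_apply]
      show T (Pi.single (b0 i).1 (bW (b0 i).2)) = _
      rw [hT, Finset.sum_eq_single (b0 i).1]
      · simp
      · intro y _ hy; simp [hy]
      · simp
    rw [Matrix.mulVec_single_one, Matrix.col_apply, ← hB]
    rfl
  suffices hmul : ext' e a * (P : Matrix ι ι F) =
      (P : Matrix ι ι F) * (a ⊗ₖ (1 : Matrix (Fin (Module.finrank F W)) (Fin (Module.finrank F W)) F)).submatrix b0 b0 by
    rw [cj_apply, ← hmul, mul_assoc, Units.mul_inv, mul_one]
  refine Matrix.ext_of_mulVec_single fun i => ?_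
  rw [← Matrix.mulVec_mulVec, ← Matrix.mulVec_mulVec, hcol]
  have e1 : (a ⊗ₖ (1 : Matrix (Fin (Module.finrank F W)) (Fin (Module.finrank F W)) F)).submatrix b0 b0 *ᵥ
      Pi.single i 1 = ∑ x, a x (b0 i).1 • Pi.single (b0.symm (x, (b0 i).2)) (1 : F) := by
    funext r
    rw [Matrix.mulVec_single_one, Matrix.col_apply, Matrix.submatrix_apply, Matrix.kronecker_apply,
      Finset.sum_apply, Finset.sum_eq_single (b0 r).1]
    · by_cases hr : (b0 r).2 = (b0 i).2
      · rw [← hr, Matrix.one_apply_eq, mul_one, Prod.mk.eta, Equiv.symm_apply_apply, Pi.smul_apply,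
          Pi.single_eq_same, smul_eq_mul, mul_one]
      · rw [Matrix.one_apply_ne hr, mul_zero, Pi.smul_apply, Pi.single_eq_of_ne, smul_zero]
        intro h'
        exact hr (by rw [h', Equiv.apply_symm_apply])
    · intro y _ hy
      rw [Pi.smul_apply, Pi.single_eq_of_ne, smul_zero]
      intro h'
      exact hy (by rw [h', Equiv.apply_symm_apply])
    · simp
  rw [e1, Matrix.mulVec_sum]
  simp only [Matrix.mulVec_smul, hcol, Equiv.apply_symm_apply]
  show (∑ x, ∑ y, a x y • e x y) *ᵥ (e (b0 i).1 x₀ *ᵥ _) = _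
  rw [Matrix.mulVec_mulVec, Finset.sum_mul, Matrix.sum_mulVec]
  refine Finset.sum_congr rfl fun x _ => ?_
  rw [Finset.sum_mul, Finset.sum_eq_single (b0 i).1]
  · rw [smul_mul_assoc, h.mul, if_pos rfl, Matrix.smul_mulVec]
  · intro y _ hy; rw [smul_mul_assoc, h.mul, if_neg hy, smul_zero]
  · simp

theorem card_eq_of_equiv {k : ℕ} (b : ι ≃ κ × Fin k) : Fintype.card ι = Fintype.card κ * k := by
  rw [Fintype.card_congr b, Fintype.card_prod, Fintype.card_fin]

/-- Matrix units from an algebra homomorphism. -/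
theorem units_of_algHom (φ : Matrix κ κ F →ₐ[F] Matrix ι ι F) : Units' fun x y => φ (Matrix.single x y 1) where
  mul x y z w := by
    rw [← map_mul]
    split_ifs with h
    · subst h; simp
    · rw [Matrix.single_mul_single_of_ne _ _ _ _ h, map_zero]
  sum := by
    rw [← map_sum]
    conv_rhs => rw [← map_one φ]
    congr 1
    ext i j
    simp [Matrix.sum_apply, Matrix.single, Matrix.one_apply, ite_and]

theorem ext'_algHom (φ : Matrix κ κ F →ₐ[F] Matrix ι ι F) (a : Matrix κ κ F) :
    ext' (fun x y => φ (Matrix.single x y 1)) a = φ a := by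
  conv_rhs => rw [Matrix.matrix_eq_sum_single a]
  simp only [map_sum]
  show ∑ x, ∑ y, a x y • φ (Matrix.single x y 1) = _
  refine Finset.sum_congr rfl fun x _ => Finset.sum_congr rfl fun y _ => ?_
  rw [← map_smul, Matrix.smul_single, smul_eq_mul, mul_one]

/-- An algebra homomorphism of matrix algebras is `a ↦ a ⊗ 1` in some basis. -/
theorem algHom_basis [Nonempty κ] (φ : Matrix κ κ F →ₐ[F] Matrix ι ι F) :
    ∃ (k : ℕ) (b : ι ≃ κ × Fin k) (P : GL ι F),
      ∀ a, φ a = cj P ((a ⊗ₖ (1 : Matrix (Fin k) (Fin k) F)).submatrix b b) := by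
  obtain ⟨k, b, P, h⟩ := (units_of_algHom φ).exists_basis
  exact ⟨k, b, P, fun a => by rw [← ext'_algHom φ a, h]⟩

/-- Full systems of matrix units are conjugate to the standard one. -/
theorem Units'.exists_conj [Nonempty ι] {e : ι → ι → Matrix ι ι F} (h : Units' e) :
    ∃ P : GL ι F, ∀ a, ext' e a = cj P a := by
  obtain ⟨k, b, P, hP⟩ := h.exists_basis
  have hk : k = 1 := by
    have := card_eq_of_equiv b
    exact (Nat.eq_of_mul_eq_mul_left Fintype.card_pos (this.symm.trans (mul_one _).symm))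
  subst hk
  -- `b` is a permutation of the index set
  let σ : Equiv.Perm ι := b.trans (Equiv.prodUnique ι (Fin 1))
  have hS : IsUnit ((1 : Matrix ι ι F).submatrix σ id) := by
    refine (Matrix.isUnit_iff_isUnit_det _).2 ?_
    rw [Matrix.det_permute, Matrix.det_one, mul_one]
    exact ((Equiv.Perm.sign σ).isUnit.map (Int.castRingHom F))
  refine ⟨P * hS.unit, fun a => ?_⟩
  rw [hP, ← cj_cj]
  congr 1
  have hσ : (a ⊗ₖ (1 : Matrix (Fin 1) (Fin 1) F)).submatrix b b = a.submatrix σ σ := by
    ext i j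
    rw [Matrix.submatrix_apply, Matrix.submatrix_apply, Matrix.kronecker_apply,
      Subsingleton.elim (b j).2 (b i).2, Matrix.one_apply_eq, mul_one]
    rfl
  rw [hσ, cj_apply, Units.eq_mul_inv_iff_mul_eq]
  show a.submatrix σ σ * (1 : Matrix ι ι F).submatrix σ id = (1 : Matrix ι ι F).submatrix σ id * a
  rw [Matrix.submatrix_mul_equiv, mul_one]
  ext i j
  simp [Matrix.mul_apply, Matrix.one_apply]

/-- Skolem–Noether for the matrix algebra. -/
theorem skolem_noether [Nonempty ι] (φ : Matrix ι ι F →ₐ[F] Matrix ι ι F) : ∃ P : GL ι F, ∀ a, φ a = cj P a := by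
  obtain ⟨P, hP⟩ := (units_of_algHom φ).exists_conj
  exact ⟨P, fun a => by rw [← ext'_algHom φ a, hP]⟩

end CfsgLib.Aschbacher
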