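import Cfsg.Agent.Lib.Aschbacher.Tensor

/-!
# Aschbacher's theorem: groups permuting commuting matrix subalgebras
-/

set_option autoImplicit false

namespace CfsgLib.Aschbacher

open Cfsg Cfsg.Geo
open scoped Matrix MatrixGroups

universe u
variable {F : Type u} [Field F]

section
variable {ι : Type} [Fintype ι] [DecidableEq ι] {d : ℕ}

/-- Products of matrix units of commuting factors. -/
def prodUnits : ∀ {s : ℕ} (_ : Fin s → (Matrix (Fin d) (Fin d) F →ₐ[F] Matrix ι ι F))
    (_ _ : Fin s → Fin d), Matrix ι ι F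
  | 0, _, _, _ => 1
  | _ + 1, φ, x, y => φ 0 (Matrix.single (x 0) (y 0) 1) * prodUnits (Fin.tail φ) (Fin.tail x) (Fin.tail y)

/-- The factor maps commute pairwise. -/
def Commuting {s : ℕ} (φ : Fin s → (Matrix (Fin d) (Fin d) F →ₐ[F] Matrix ι ι F)) : Prop :=
  ∀ i j, i ≠ j → ∀ a b, φ i a * φ j b = φ j b * φ i a

theorem Commuting.tail {s : ℕ} {φ : Fin (s + 1) → (Matrix (Fin d) (Fin d) F →ₐ[F] Matrix ι ι F)}
    (h : Commuting φ) : Commuting (Fin.tail φ) :=
  fun _ _ hij => h _ _ fun e => hij (Fin.succ_injective _ e)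

theorem prodUnits_comm {s : ℕ} (φ : Fin s → (Matrix (Fin d) (Fin d) F →ₐ[F] Matrix ι ι F)) {z : Matrix ι ι F}
    (hz : ∀ i a, z * φ i a = φ i a * z) (x y : Fin s → Fin d) : z * prodUnits φ x y = prodUnits φ x y * z := by
  induction s with
  | zero => simp [prodUnits]
  | succ s ih =>
    rw [prodUnits, ← mul_assoc, hz, mul_assoc, ih (Fin.tail φ) (fun i a => hz i.succ a), mul_assoc]

theorem prodUnits_units {s : ℕ} (φ : Fin s → (Matrix (Fin d) (Fin d) F →ₐ[F] Matrix ι ι F)) (h : Commuting φ) :
    Units' (prodUnits φ) := by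
  classical
  induction s with
  | zero =>
    refine ⟨fun x y z w => ?_, ?_⟩
    · rw [if_pos (Subsingleton.elim _ _)]; simp [prodUnits]
    · simp [prodUnits]
  | succ s ih =>
    obtain ⟨hmul, hsum⟩ := ih (Fin.tail φ) h.tail
    refine ⟨fun x y z w => ?_, ?_⟩
    · simp only [prodUnits]
      have hc := prodUnits_comm (Fin.tail φ) (z := φ 0 (Matrix.single (z 0) (w 0) 1))
        (fun i a => h 0 i.succ (Fin.succ_ne_zero i).symm _ _) (Fin.tail x) (Fin.tail y)
      rw [mul_assoc, ← mul_assoc (prodUnits (Fin.tail φ) (Fin.tail x) (Fin.tail y)), ← hc, ← mul_assoc,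
        ← mul_assoc, mul_assoc _ _ (prodUnits _ (Fin.tail z) (Fin.tail w)), hmul, ← map_mul]
      by_cases h0 : y 0 = z 0
      · by_cases ht : Fin.tail y = Fin.tail z
        · have : y = z := by rw [← Fin.cons_self_tail y, ← Fin.cons_self_tail z, h0, ht]
          rw [if_pos ht, if_pos this, h0, Matrix.single_mul_single_same, one_mul]
        · rw [if_neg ht, mul_zero, if_neg (fun e => ht (by rw [e]))]
      · rw [Matrix.single_mul_single_of_ne _ _ _ _ h0, map_zero, zero_mul, if_neg (fun e => h0 (by rw [e]))]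
    · rw [← (Fin.consEquiv fun _ : Fin (s + 1) => Fin d).sum_comp, Fintype.sum_prod_type]
      show ∑ c : Fin d, ∑ i : Fin s → Fin d,
        φ 0 (Matrix.single ((Fin.cons c i : Fin (s + 1) → Fin d) 0) ((Fin.cons c i : Fin (s + 1) → Fin d) 0) 1) *
          prodUnits (Fin.tail φ) (Fin.tail (Fin.cons c i : Fin (s + 1) → Fin d))
            (Fin.tail (Fin.cons c i : Fin (s + 1) → Fin d)) = 1
      simp only [Fin.cons_zero, Fin.tail_cons, ← Finset.mul_sum, hsum, mul_one, ← map_sum]
      conv_rhs => rw [← map_one (φ 0)]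
      congr 1
      ext i j
      simp [Matrix.sum_apply, Matrix.single, Matrix.one_apply, ite_and]

theorem mul_prodUnits {s : ℕ} (φ : Fin s → (Matrix (Fin d) (Fin d) F →ₐ[F] Matrix ι ι F)) (h : Commuting φ)
    (i : Fin s) (p q : Fin d) (x y : Fin s → Fin d) :
    φ i (Matrix.single p q 1) * prodUnits φ x y =
      if x i = q then prodUnits φ (Function.update x i p) y else 0 := by
  classical
  induction s with
  | zero => exact i.elim0
  | succ s ih =>
    refine Fin.cases ?_ (fun j => ?_) i
    · simp only [prodUnits]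
      rw [← mul_assoc, ← map_mul]
      by_cases h0 : x 0 = q
      · rw [if_pos h0, h0, Matrix.single_mul_single_same, one_mul, Function.update_self, Fin.tail_update_zero]
      · rw [if_neg h0, Matrix.single_mul_single_of_ne _ _ _ _ (Ne.symm h0), map_zero, zero_mul]
    · simp only [prodUnits]
      rw [← mul_assoc, h j.succ 0 (Fin.succ_ne_zero j), mul_assoc,
        show φ j.succ = Fin.tail φ j from rfl, ih _ h.tail]
      show φ 0 _ * (if x j.succ = q then _ else _) = _
      split_ifs with hq
      · rw [Function.update_of_ne (Fin.succ_ne_zero j).symm, Fin.tail_update_succ]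
      · rw [mul_zero]

/-- The matrix acting as `a` on the factor `i`. -/
def slot {s : ℕ} (i : Fin s) (a : Matrix (Fin d) (Fin d) F) : Matrix (Fin s → Fin d) (Fin s → Fin d) F :=
  Matrix.of fun x y => if ∀ j, j ≠ i → x j = y j then a (x i) (y i) else 0

theorem factor_eq {s : ℕ} (φ : Fin s → (Matrix (Fin d) (Fin d) F →ₐ[F] Matrix ι ι F)) (h : Commuting φ)
    (i : Fin s) (a : Matrix (Fin d) (Fin d) F) : φ i a = ext' (prodUnits φ) (slot i a) := by
  classical
  calc φ i a = φ i a * ∑ x, prodUnits φ x x := by rw [(prodUnits_units φ h).sum, mul_one]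
    _ = ∑ x, ∑ p, a p (x i) • prodUnits φ (Function.update x i p) x := by
      rw [Finset.mul_sum]
      refine Finset.sum_congr rfl fun x _ => ?_
      conv_lhs => rw [Matrix.matrix_eq_sum_single a]
      simp only [map_sum, Finset.sum_mul]
      refine Finset.sum_congr rfl fun p _ => ?_
      rw [Finset.sum_eq_single (x i)]
      · rw [show Matrix.single p (x i) (a p (x i)) = a p (x i) • Matrix.single p (x i) 1 by
          rw [Matrix.smul_single, smul_eq_mul, mul_one], map_smul, smul_mul_assoc, mul_prodUnits φ h, if_pos rfl]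
      · intro q _ hq
        rw [show Matrix.single p q (a p q) = a p q • Matrix.single p q 1 by
          rw [Matrix.smul_single, smul_eq_mul, mul_one], map_smul, smul_mul_assoc, mul_prodUnits φ h,
          if_neg hq.symm, smul_zero]
      · simp
    _ = ext' (prodUnits φ) (slot i a) := by
      show _ = ∑ x, ∑ y, slot i a x y • prodUnits φ x y
      rw [Finset.sum_comm (f := fun x y => slot i a x y • prodUnits φ x y)]
      refine Finset.sum_congr rfl fun x _ => ?_
      refine Finset.sum_bij_ne_zero (fun p _ _ => Function.update x i p) (by simp)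
        (fun p₁ _ _ p₂ _ _ e => by simpa using congrFun e i) (fun y _ hy => ⟨y i, Finset.mem_univ _, ?_, ?_⟩) ?_
      · simp only [slot, Matrix.of_apply] at hy
        by_cases hc : ∀ j, j ≠ i → y j = x j
        · rw [if_pos hc] at hy
          rwa [show Function.update x i (y i) = y from funext fun j => by
            rcases eq_or_ne j i with rfl | hj
            · simp
            · simp [hj, hc j hj]]
        · rw [if_neg hc, zero_smul] at hy; exact absurd rfl hy
      · simp only [slot, Matrix.of_apply] at hy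
        by_cases hc : ∀ j, j ≠ i → y j = x j
        · funext j
          rcases eq_or_ne j i with rfl | hj
          · simp
          · simp [hj, hc j hj]
        · rw [if_neg hc, zero_smul] at hy; exact absurd rfl hy
      · intro p _ _
        simp only [slot, Matrix.of_apply, Function.update_self]
        rw [if_pos fun j hj => Function.update_of_ne hj _ _]

/-- A tensor product of matrices. -/
def pure' {s : ℕ} (a : Fin s → Matrix (Fin d) (Fin d) F) : Matrix (Fin s → Fin d) (Fin s → Fin d) F :=
  Matrix.of fun x y => ∏ i, a i (x i) (y i)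

theorem pure'_mul {s : ℕ} (a b : Fin s → Matrix (Fin d) (Fin d) F) :
    pure' a * pure' b = pure' fun i => a i * b i := by
  ext x y
  simp only [pure', Matrix.mul_apply, Matrix.of_apply, Fintype.prod_sum, ← Finset.prod_mul_distrib]

theorem pure'_one {s : ℕ} : (pure' fun _ : Fin s => (1 : Matrix (Fin d) (Fin d) F)) = 1 := by
  ext x y
  simp only [pure', Matrix.of_apply, Matrix.one_apply]
  rcases eq_or_ne x y with rfl | hne
  · simp
  · obtain ⟨i, hi⟩ := Function.ne_iff.1 hne
    rw [if_neg hne]
    exact Finset.prod_eq_zero (Finset.mem_univ i) (if_neg hi)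

theorem slot_eq_pure {s : ℕ} (i : Fin s) (a : Matrix (Fin d) (Fin d) F) :
    slot i a = pure' (Function.update (fun _ => (1 : Matrix (Fin d) (Fin d) F)) i a) := by
  ext x y
  simp only [slot, pure', Matrix.of_apply]
  split_ifs with h
  · rw [Finset.prod_eq_single i]
    · simp
    · intro j _ hj; simp [hj, h j hj]
    · simp
  · simp only [not_forall] at h
    obtain ⟨j, hj, hne⟩ := h
    exact (Finset.prod_eq_zero (Finset.mem_univ j) (by simp [hj, hne])).symm

theorem pure'_conj_slot {s : ℕ} (A : Fin s → GL (Fin d) F) (i : Fin s) (a : Matrix (Fin d) (Fin d) F) :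
    pure' (fun j => (A j : Matrix (Fin d) (Fin d) F)) * slot i a *
      pure' (fun j => ((↑(A j)⁻¹ : Matrix (Fin d) (Fin d) F))) = slot i (cj (A i) a) := by
  classical
  rw [slot_eq_pure, slot_eq_pure, pure'_mul, pure'_mul]
  congr 1
  funext j
  rcases eq_or_ne j i with rfl | hj
  · simp [cj_apply]
  · simp [hj]

/-- A tensor product of invertible matrices. -/
def pureGL {s : ℕ} (A : Fin s → GL (Fin d) F) : GL (Fin s → Fin d) F where
  val := pure' fun i => (A i : Matrix (Fin d) (Fin d) F)
  inv := pure' fun i => (↑(A i)⁻¹ : Matrix (Fin d) (Fin d) F)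
  val_inv := by
    rw [pure'_mul]
    simpa using pure'_one (F := F) (s := s) (d := d)
  inv_val := by
    rw [pure'_mul]
    simpa using pure'_one (F := F) (s := s) (d := d)

/-- The matrix permuting the tensor factors. -/
def permGL {s : ℕ} (σ : Equiv.Perm (Fin s)) : GL (Fin s → Fin d) F where
  val := Matrix.of fun x y => if y = x ∘ σ then 1 else 0
  inv := Matrix.of fun x y => if y = x ∘ σ.symm then 1 else 0
  val_inv := by
    ext x y
    rw [Matrix.mul_apply, Finset.sum_eq_single (x ∘ σ)]
    · simp [Matrix.one_apply, Function.comp_assoc, eq_comm]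
    · intro b _ hb; simp [hb]
    · simp
  inv_val := by
    ext x y
    rw [Matrix.mul_apply, Finset.sum_eq_single (x ∘ σ.symm)]
    · simp [Matrix.one_apply, Function.comp_assoc, eq_comm]
    · intro b _ hb; simp [hb]
    · simp

theorem permGL_conj_slot {s : ℕ} (σ : Equiv.Perm (Fin s)) (i : Fin s) (a : Matrix (Fin d) (Fin d) F) :
    cj (permGL σ) (slot i a) = slot (σ i) a := by
  classical
  ext x y
  rw [cj_apply, Matrix.mul_apply, Finset.sum_eq_single (y ∘ σ), Matrix.mul_apply, Finset.sum_eq_single (x ∘ σ)]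
  · show (if x ∘ σ = x ∘ σ then (1 : F) else 0) * slot i a (x ∘ σ) (y ∘ σ) * (if y = (y ∘ σ) ∘ σ.symm then 1 else 0) = _
    rw [if_pos rfl, if_pos (by simp [Function.comp_assoc]), one_mul, mul_one]
    simp only [slot, Matrix.of_apply, Function.comp_apply]
    have hiff : (∀ j, j ≠ i → x (σ j) = y (σ j)) ↔ ∀ j, j ≠ σ i → x j = y j := by
      constructor
      · intro h j hj
        simpa using h (σ.symm j) fun e => hj (by rw [← e, Equiv.apply_symm_apply])
      · exact fun h j hj => h _ fun e => hj (σ.injective e)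
    simp only [hiff]
  · intro b _ hb
    show (if b = x ∘ σ then (1 : F) else 0) * _ = 0
    rw [if_neg hb, zero_mul]
  · simp
  · intro b _ hb
    show _ * (if y = b ∘ σ.symm then (1 : F) else 0) = 0
    rw [if_neg (fun e => hb (by rw [e]; simp [Function.comp_assoc])), mul_zero]
  · simp

end

variable [Fintype F] {n : ℕ}

/-- A group permuting commuting full matrix subalgebras which generate everything. -/
theorem wreath_case (hn : 3 ≤ n) {G : Subgroup (GL (Fin n) F)} {d s : ℕ} (hd : 2 ≤ d) (hs : 2 ≤ s)
    (φ : Fin s → (Matrix (Fin d) (Fin d) F →ₐ[F] Matrix (Fin n) (Fin n) F)) (hc : Commuting φ)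
    (hgen : ⨆ i, (φ i).range = ⊤)
    (hG : ∀ g ∈ G, ∀ i, ∃ j, ∀ x ∈ (φ i).range, cj g x ∈ (φ j).range) : InClassOver G := by
  classical
  haveI : Nonempty (Fin n) := ⟨⟨0, by omega⟩⟩
  haveI : Nonempty (Fin d) := ⟨⟨0, by omega⟩⟩
  obtain ⟨k, b, P, hP⟩ := (prodUnits_units φ hc).exists_basis
  have hcard : n = d ^ s * k := by simpa using card_eq_of_equiv b
  -- the products span everything
  let E : Matrix (Fin s → Fin d) (Fin s → Fin d) F →ₐ[F] Matrix (Fin n) (Fin n) F :=
    AlgHom.ofLinearMap (ext' (prodUnits φ)) (by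
      show ∑ x, ∑ y, (1 : Matrix (Fin s → Fin d) (Fin s → Fin d) F) x y • prodUnits φ x y = 1
      conv_rhs => rw [← (prodUnits_units φ hc).sum]
      refine Finset.sum_congr rfl fun x _ => ?_
      rw [Finset.sum_eq_single x]
      · simp
      · intro y _ hy; simp [Matrix.one_apply, Ne.symm hy]
      · simp)
      (fun A B => by rw [hP, hP, hP, ← map_mul, Matrix.submatrix_mul_equiv, ← Matrix.mul_kronecker_mul, mul_one])
  have hEtop : E.range = ⊤ := eq_top_iff.2 (hgen ▸ iSup_le fun i => by
    rintro _ ⟨a, rfl⟩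
    exact ⟨slot i a, (factor_eq φ hc i a).symm⟩)
  have hk : k = 1 := by
    have h1 : n * n ≤ d ^ s * d ^ s := by
      have h := LinearMap.finrank_range_le E.toLinearMap
      rw [show LinearMap.range E.toLinearMap = ⊤ from by
        rw [← Algebra.top_toSubmodule, ← hEtop]; rfl, finrank_top, Module.finrank_matrix, Module.finrank_matrix,
        Module.finrank_self, Fintype.card_fin, Fintype.card_fun, Fintype.card_fin, Fintype.card_fin] at h
      simpa using h
    have hpos : 0 < d ^ s := pow_pos (by omega) s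
    rcases k with _ | _ | k
    · rw [mul_zero] at hcard; omega
    · rfl
    · exfalso
      rw [hcard] at h1
      have : d ^ s * 2 ≤ d ^ s * (k + 1 + 1) := Nat.mul_le_mul_left _ (by omega)
      nlinarith
  subst hk
  let e : Fin n ≃ (Fin s → Fin d) := b.trans (Equiv.prodUnique _ (Fin 1))
  have hPe : ∀ a, ext' (prodUnits φ) a = cj P (a.submatrix e e) := fun a => by
    rw [hP]
    congr 1
    ext i j
    rw [Matrix.submatrix_apply, Matrix.submatrix_apply, Matrix.kronecker_apply,
      Subsingleton.elim (b j).2 (b i).2, Matrix.one_apply_eq, mul_one]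
    rfl
  have hφ : ∀ i a, φ i a = cj P ((slot i a).submatrix e e) := fun i a => by rw [factor_eq φ hc i a, hPe]
  have hinj : ∀ i, Function.Injective (φ i) := fun i => RingHom.injective (φ i).toRingHom
  have hrange : ∀ i j, (φ i).range ≤ (φ j).range → i = j := fun i j hij => by
    by_contra hne
    have h1 : φ i (Matrix.single ⟨0, by omega⟩ ⟨0, by omega⟩ 1) * φ i (Matrix.single ⟨0, by omega⟩ ⟨1, by omega⟩ 1) =
        φ i (Matrix.single ⟨0, by omega⟩ ⟨1, by omega⟩ 1) * φ i (Matrix.single ⟨0, by omega⟩ ⟨0, by omega⟩ 1) := by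
      obtain ⟨a, ha⟩ := hij ⟨Matrix.single ⟨0, by omega⟩ ⟨1, by omega⟩ 1, rfl⟩
      change φ j a = φ i _ at ha
      rw [← ha]
      exact hc i j hne _ _
    rw [← map_mul, ← map_mul, Matrix.single_mul_single_same, Matrix.single_mul_single_of_ne _ _ _ _ (by simp),
      map_zero, one_mul] at h1
    have h2 := congrFun (congrFun (hinj i (h1.trans (map_zero (φ i)).symm)) ⟨0, by omega⟩) ⟨1, by omega⟩
    simp at h2
  have hdec : ∀ g ∈ G, ∃ (σ : Equiv.Perm (Fin s)) (A : Fin s → GL (Fin d) F) (c : Fˣ),
      (g : Matrix (Fin n) (Fin n) F) = cj P (((c : F) •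
        ((permGL σ : GL (Fin s → Fin d) F) : Matrix (Fin s → Fin d) (Fin s → Fin d) F) * pure' (fun i => (A i : Matrix (Fin d) (Fin d) F))).submatrix
          e e) := by
    intro g hg
    choose f hf using hG g hg
    have hfinj : Function.Injective f := fun i j e' => by
      let C : Matrix (Fin d) (Fin d) F → Matrix (Fin n) (Fin n) F := fun a => cj g (φ i a)
      have hfr : ∀ l, (φ l).range.map (cj g).toAlgHom = (φ (f l)).range := fun l => by
        refine Subalgebra.toSubmodule.injective (Submodule.eq_of_le_of_finrank_eq ?_ ?_)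
        · rintro _ ⟨x, hx, rfl⟩; exact hf l x hx
        · show Module.finrank F ((φ l).range.map (cj g).toAlgHom) = Module.finrank F (φ (f l)).range
          rw [← ((φ l).range.equivMapOfInjective (cj g).toAlgHom (cj g).injective).toLinearEquiv.finrank_eq,
            ← (AlgEquiv.ofInjective (φ l) (hinj l)).toLinearEquiv.finrank_eq,
            ← (AlgEquiv.ofInjective (φ (f l)) (hinj _)).toLinearEquiv.finrank_eq]
      refine hrange i j fun x hx => ?_
      have h2 : cj g x ∈ (φ j).range.map (cj g).toAlgHom := by rw [hfr j, ← e']; exact hf i x hx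
      obtain ⟨y, hy, hyx⟩ := h2
      exact (cj g).injective hyx ▸ hy
    let σ : Equiv.Perm (Fin s) := Equiv.ofBijective f (Finite.injective_iff_bijective.1 hfinj)
    let R := Matrix.reindexAlgEquiv F F e
    let g' : GL (Fin s → Fin d) F := glReindex e (P⁻¹ * g * P)
    have hR : ∀ i a, R (cj P⁻¹ (φ i a)) = slot i a := fun i a => by
      rw [hφ, cj_inv_cj]
      ext x y
      simp [R, Matrix.reindexAlgEquiv_apply]
    let g'' := (permGL σ)⁻¹ * g'
    have hθ : ∀ i a, ∃ a', cj g'' (slot i a) = slot i a' := fun i a => by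
      obtain ⟨a', ha'⟩ := hf i (φ i a) ⟨a, rfl⟩
      refine ⟨a', ?_⟩
      rw [← cj_cj]
      have h1 : cj g' (slot i a) = slot (f i) a' := by
        rw [← hR i a, ← hR (f i) a', show φ (f i) a' = cj g (φ i a) from ha']
        show R ((P⁻¹ * g * P : GL (Fin n) F) : Matrix (Fin n) (Fin n) F) * R (cj P⁻¹ (φ i a)) *
          R ((↑(P⁻¹ * g * P)⁻¹ : Matrix (Fin n) (Fin n) F)) = _
        rw [← map_mul, ← map_mul]
        congr 1
        simp [cj_apply, mul_assoc]
      rw [h1, show f i = σ i from rfl, ← permGL_conj_slot, cj_inv_cj]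
    choose θ hθ' using hθ
    have hslot : ∀ i, Function.Injective (slot (F := F) (d := d) (s := s) i) := fun i a a' e' =>
      hinj i (by rw [hφ, hφ, e'])
    have hslot1 : ∀ i, slot (F := F) (d := d) (s := s) i 1 = 1 := fun i => by
      rw [slot_eq_pure, Function.update_eq_self_iff.2 rfl, pure'_one]
    have hslotmul : ∀ i (a a' : Matrix (Fin d) (Fin d) F), slot (s := s) i (a * a') = slot i a * slot i a' := fun i a a' => by
      rw [slot_eq_pure, slot_eq_pure, slot_eq_pure, pure'_mul]
      congr 1
      funext j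
      rcases eq_or_ne j i with rfl | hj
      · simp
      · simp [hj]
    have hslotlin : ∀ i, ∀ (c : F) (a a' : Matrix (Fin d) (Fin d) F),
        slot (s := s) i (c • a + a') = c • slot i a + slot i a' := fun i c a a' => by
      ext x y
      simp only [slot, Matrix.of_apply, Matrix.add_apply, Matrix.smul_apply]
      split_ifs <;> simp
    have hA : ∀ i, ∃ A : GL (Fin d) F, ∀ a, θ i a = cj A a := fun i => by
      have hadd : ∀ a a', θ i (a + a') = θ i a + θ i a' := fun a a' => hslot i (by
        have e1 := hslotlin i 1 a a'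
        have e2 := hslotlin i 1 (θ i a) (θ i a')
        simp only [one_smul] at e1 e2
        rw [← hθ', e1, e2, map_add, hθ', hθ'])
      have hsmul : ∀ (c : F) a, θ i (c • a) = c • θ i a := fun c a => hslot i (by
        have e0 : slot (F := F) (d := d) (s := s) i 0 = 0 := by
          ext x y; simp [slot]
        have e1 := hslotlin i c a 0
        have e2 := hslotlin i c (θ i a) 0
        simp only [add_zero, e0] at e1 e2
        rw [← hθ', e1, e2, map_smul, hθ'])
      exact skolem_noether (AlgHom.ofLinearMap ⟨⟨θ i, hadd⟩, hsmul⟩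
        (hslot i (by show slot i (θ i 1) = slot i 1; rw [← hθ', hslot1, map_one]))
        fun a a' => hslot i (by show slot i (θ i (a * a')) = slot i (θ i a * θ i a'); rw [← hθ', hslotmul, map_mul, hθ', hθ', hslotmul]))
    choose A hA' using hA
    let u := (pureGL A)⁻¹ * g''
    have hu : ∀ i a, cj u (slot i a) = slot i a := fun i a => by
      rw [← cj_cj, hθ', hA']
      show pure' (fun j => (↑(A j)⁻¹ : Matrix (Fin d) (Fin d) F)) * slot i (cj (A i) a) *
        pure' (fun j => (A j : Matrix (Fin d) (Fin d) F)) = _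
      have := pure'_conj_slot (fun j => (A j)⁻¹) i (cj (A i) a)
      simpa [cj_inv_cj] using this
    -- the element commuting with all factors is a scalar
    let U : GL (Fin n) F := P * glReindex e.symm u * P⁻¹
    have hUc : ∀ x : Matrix (Fin n) (Fin n) F, cj U x = x := by
      intro x
      have hx : x ∈ ⨆ i, (φ i).range := hgen ▸ Algebra.mem_top
      have hle : (⨆ i, (φ i).range) ≤ AlgHom.equalizer (cj U).toAlgHom (AlgHom.id F _) := iSup_le fun i => by
        rintro _ ⟨a, rfl⟩
        show cj U (φ i a) = φ i a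
        rw [hφ, ← cj_cj, ← cj_cj, cj_inv_cj]
        congr 1
        conv_rhs => rw [← hu i a]
        rw [cj_apply, cj_apply, ← map_inv, glReindex_val, glReindex_val, Matrix.submatrix_mul_equiv,
          Matrix.submatrix_mul_equiv]
      exact hle hx
    obtain ⟨c, hc'⟩ : (U : Matrix (Fin n) (Fin n) F) ∈ Set.range (Matrix.scalar (Fin n) : F →+* _) :=
      Matrix.mem_range_scalar_of_commute_single fun i j _ => ((cj_eq_self_iff U _).1 (hUc _)).symm
    have hc0 : c ≠ 0 := fun e' => U.isUnit.ne_zero (by rw [← hc', e', map_zero])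
    refine ⟨σ, A, Units.mk0 c hc0, ?_⟩
    have hu2 : (u : Matrix (Fin s → Fin d) (Fin s → Fin d) F) = c • 1 := by
      have h1 : ((glReindex e.symm u : GL (Fin n) F) : Matrix (Fin n) (Fin n) F) = c • 1 := by
        rw [show glReindex e.symm u = P⁻¹ * U * P by simp [U, mul_assoc]]
        simp [← hc', ← Matrix.smul_one_eq_diagonal, mul_assoc]
      rw [glReindex_val] at h1
      ext x y
      have := congrFun (congrFun h1 (e.symm x)) (e.symm y)
      simpa [Matrix.one_apply] using this
    have hg' : (g' : Matrix (Fin s → Fin d) (Fin s → Fin d) F) = (c : F) •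
        ((permGL σ : GL (Fin s → Fin d) F) : Matrix (Fin s → Fin d) (Fin s → Fin d) F) * pure' (fun i => (A i : Matrix (Fin d) (Fin d) F)) := by
      rw [show g' = permGL σ * (pureGL A * u) by simp [u, g'']]
      simp only [Units.val_mul, hu2, Matrix.mul_smul, mul_one, Matrix.smul_mul]
      rfl
    show _ = cj P ((_ : Matrix (Fin s → Fin d) (Fin s → Fin d) F).submatrix e e)
    rw [Units.val_mk0, ← hg']
    have h3 : (g' : Matrix (Fin s → Fin d) (Fin s → Fin d) F).submatrix e e =
        ((P⁻¹ * g * P : GL (Fin n) F) : Matrix (Fin n) (Fin n) F) := by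
      ext x y
      simp [g', glReindex, Matrix.reindexAlgEquiv_apply]
    rw [h3, cj_val]
    congr 1
    group
  rcases Nat.lt_or_ge d 3 with hd3 | hd3
  · obtain rfl : d = 2 := by omega
    have hn2 : n = 2 ^ s := by simpa using hcard
    have h4 : 4 ≤ n := by rw [hn2]; exact Nat.pow_le_pow_right two_pos hs
    refine class8_of_gram h4 ⟨2 ^ (s - 1), by rw [hn2, ← two_mul, ← pow_succ', Nat.sub_add_cancel (by omega)]⟩ e P
      (J := pure' fun _ => omega2 F) ?_ (fun x => ?_) ?_ fun g hg => ?_
    · obtain ⟨w, hw⟩ := (omega2_unit (F := F))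
      exact ⟨pureGL fun _ => w, by simp [pureGL, hw]⟩
    · simp only [pure', Matrix.of_apply]
      refine Finset.prod_eq_zero (Finset.mem_univ (⟨0, by omega⟩ : Fin s)) ?_
      generalize x ⟨0, by omega⟩ = z
      fin_cases z <;> simp [omega2]
    · have hT : (pure' fun _ : Fin s => omega2 F)ᵀ = (-1 : F) ^ s • pure' fun _ : Fin s => omega2 F := by
        ext x y
        simp only [pure', Matrix.transpose_apply, Matrix.of_apply, Matrix.smul_apply, smul_eq_mul]
        rw [show (-1 : F) ^ s = ∏ _i : Fin s, (-1 : F) by simp, ← Finset.prod_mul_distrib]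
        refine Finset.prod_congr rfl fun i _ => ?_
        generalize x i = a, y i = b'
        fin_cases a <;> fin_cases b' <;> simp [omega2]
      rcases neg_one_pow_eq_or F s with h | h <;> rw [h] at hT
      · exact Or.inl (by rw [hT, one_smul])
      · exact Or.inr (by rw [hT, neg_one_smul])
    · obtain ⟨σ, A, c, h⟩ := hdec g hg
      refine ⟨_, c * c * ∏ i, Matrix.GeneralLinearGroup.det (A i), h, ?_⟩
      have hperm : ((permGL σ : GL (Fin s → Fin 2) F) : Matrix (Fin s → Fin 2) (Fin s → Fin 2) F)ᵀ * (pure' fun _ => omega2 F) *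
          ((permGL σ : GL (Fin s → Fin 2) F) : Matrix (Fin s → Fin 2) (Fin s → Fin 2) F) = pure' fun _ => omega2 F := by
        ext x y
        rw [Matrix.mul_apply, Finset.sum_eq_single (y ∘ σ.symm), Matrix.mul_apply,
          Finset.sum_eq_single (x ∘ σ.symm)]
        · simp only [permGL, pure', Matrix.transpose_apply, Matrix.of_apply, Function.comp_assoc,
            Equiv.symm_comp_self, Function.comp_id, if_true, one_mul, mul_one, Function.comp_apply]
          exact Equiv.prod_comp σ.symm fun i => omega2 F (x i) (y i)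
        · intro z _ hz
          simp only [permGL, Matrix.transpose_apply, Matrix.of_apply]
          rw [if_neg (fun e' => hz (by rw [e']; simp [Function.comp_assoc])), zero_mul]
        · simp
        · intro z _ hz
          simp only [permGL, Matrix.of_apply]
          rw [if_neg (fun e' => hz (by rw [e']; simp [Function.comp_assoc])), mul_zero]
        · simp
      have hTpure : ∀ a : Fin s → Matrix (Fin 2) (Fin 2) F, (pure' a)ᵀ = pure' fun i => (a i)ᵀ := fun a => rfl
      have hsm : ∀ (c : Fin s → F) (a : Fin s → Matrix (Fin 2) (Fin 2) F),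
          pure' (fun i => c i • a i) = (∏ i, c i) • pure' a := fun c a => by
        ext x y; simp [pure', Finset.prod_mul_distrib]
      simp only [Matrix.transpose_mul, Matrix.transpose_smul, Matrix.smul_mul, Matrix.mul_smul, smul_smul]
      rw [show ∀ a q w : Matrix (Fin s → Fin 2) (Fin s → Fin 2) F, aᵀ * qᵀ * w * (q * a) = aᵀ * (qᵀ * w * q) * a from
        fun _ _ _ => by simp [mul_assoc], hperm, hTpure, pure'_mul, pure'_mul]
      simp only [omega2_congr]
      rw [hsm, smul_smul]
      congr 1
      simp [Units.coe_prod]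
  · refine ⟨tensorWreathSubgroup d s e P, ?_, fun g hg => ?_⟩
    · iterate 8 right
      exact Or.inl ⟨d, s, e, P, hd3, hs, rfl⟩
    obtain ⟨σ, A, c, h⟩ := hdec g hg
    let i₀ : Fin s := ⟨0, by omega⟩
    let C : Fin s → GL (Fin d) F := Function.update (fun _ => 1) i₀ (sc c)
    have hC : pure' (fun i => (C i : Matrix (Fin d) (Fin d) F)) =
        (c : F) • (1 : Matrix (Fin s → Fin d) (Fin s → Fin d) F) := by
      rw [← pure'_one (s := s) (d := d)]
      ext x y
      simp only [pure', Matrix.of_apply, Matrix.smul_apply, smul_eq_mul]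
      rw [← Finset.mul_prod_erase _ _ (Finset.mem_univ i₀), ← Finset.mul_prod_erase _ (fun i => (1 : Matrix (Fin d) (Fin d) F) (x i) (y i)) (Finset.mem_univ i₀), ← mul_assoc]
      congr 1
      · simp [C, sc_val]
      · refine Finset.prod_congr rfl fun j hj => ?_
        simp [C, (Finset.mem_erase.1 hj).1]
    let T : GL (Fin s → Fin d) F := pureGL C * (permGL σ * pureGL A)
    have hT : T ∈ tensorWreathStandard d s F :=
      mul_mem (Subgroup.subset_closure (Or.inl ⟨C, fun x y => rfl⟩))
        (mul_mem (Subgroup.subset_closure (Or.inr ⟨σ, fun x y => rfl⟩))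
          (Subgroup.subset_closure (Or.inl ⟨A, fun x y => rfl⟩)))
    refine ⟨glReindex e.symm T, ⟨T, hT, rfl⟩, Units.ext ?_⟩
    have h2 : ((T : GL (Fin s → Fin d) F) : Matrix _ _ F) = (c : F) •
        ((permGL σ : GL (Fin s → Fin d) F) : Matrix (Fin s → Fin d) (Fin s → Fin d) F) * pure' (fun i => (A i : Matrix (Fin d) (Fin d) F)) := by
      show pure' (fun i => (C i : Matrix (Fin d) (Fin d) F)) * _ = _
      rw [hC, Matrix.smul_mul, one_mul, Matrix.smul_mul]
      rfl
    rw [h, ← h2, ← glReindex_val e T, cj_val]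
    rfl

end CfsgLib.Aschbacher
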